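import Cfsg.Agent.BHZ.Exc.TF4W_m3
import Cfsg.Agent.BHZ.Nil.DZ_m3
import Cfsg.Agent.SB.TwF.Tor
import Cfsg.Agent.H565.TwF4Rank
import Cfsg.Agent.H507.GmnTwF
import Cfsg.Agent.PreUniq.LowExc.TwF4Torus
import Cfsg.Agent.S0126
import Cfsg.Agent.S1112
import Cfsg.Agent.S2114
import Cfsg.Agent.FastGrp
import Cfsg.Agent.Prune
set_option linter.all false
prune_inst 0x7f00000000000000000000000000000000000000000000000000000000000000000000000000000000000000000000000000000000000000000000000000000000000000000000000000000000000000003fffffffffffffffffffffffffffbeffbdffffffff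
open scoped Cfsg.Agent.FastGrp

/-!
# S4806: the row of the large Ree groups

For `p ≥ 5` the Sylow subgroups are abelian; a nonabelian `3`-subgroup centralises no `3`-regular element `≠ 1`.
-/

set_option autoImplicit false
set_option linter.unusedSectionVars false

namespace Cfsg.Agent.BHZ.Exc

namespace TF

open CoxeterSystem Cfsg Cfsg.Lie Cfsg.Lie.ChevalleyDatum
open Cfsg.Agent.ChevalleyStructure Cfsg.Agent.ChevalleyStructure.Elts Cfsg.Agent.ChevalleyStructure.CoxeterGeom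
  Cfsg.Agent.ChevalleyStructure.CoxeterGeomTypes Cfsg.Agent.ChevalleyStructure.NPerm
  Cfsg.Agent.ChevalleyStructure.RootVec
open Cfsg.Agent.Tits.Roots Cfsg.Agent.Tits.Core Cfsg.Agent.Nodes Cfsg.Agent.Nodes.Reps Cfsg.Agent.Nodes.BNOf
  Cfsg.Agent.Nodes.RGDChev
open Cfsg.Agent.KFacts.RgdField Cfsg.Agent.KFacts.RgdChevCoord Cfsg.Agent.BpExc.TorCent Cfsg.Agent.BpExc.TorChev
open Cfsg.Agent.GpExc.Field Cfsg.Agent.BpExc.Tow Cfsg.Agent.BpExc.TowChev
  Cfsg.Agent.BpExc.LangFr Cfsg.Agent.BpExc Cfsg.Agent.H129.TorusChar Cfsg.Agent.H129.TorusUntw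
open Cfsg.Agent.H493.F4End Cfsg.Agent.H493.F4Tor Cfsg.Agent.H129.WData
open Cfsg.Agent.H630.NH Cfsg.Agent.H630.Exc Cfsg.Agent.H759.TwF Cfsg.Agent.SB.TwF

universe u

variable {K : Type u} [Field K] [Fintype K] [CharP K 2] {m : ℕ} (hK : Fintype.card K = 2 ^ (2 * m + 1))
  {k : Type u} [Field k] [IsAlgClosed k] [CharP k 2] (f : K →+* k) (hk : LocFin k)

include hK hk

/-- a nilpotent subgroup of odd order has a toral subgroup of index dividing `3` -/
theorem exists_tor_three {N : Type*} [Group N] [Finite N] [Group.IsNilpotent N] (ι : N →* ↥(twistedF4 K (2 ^ m)))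
    (hodd : ¬ 2 ∣ Nat.card N) :
    ∃ B : Subgroup N, B.index ∣ 3 ∧ ∃ g : ↥(chevF4.group k), ∀ x ∈ B, g⁻¹ * eF m f (ι x) * g ∈ TT chevF4 k := by
  classical
  have : Fact (Nat.Prime 2) := ⟨Nat.prime_two⟩
  have : Fact (Nat.Prime 3) := ⟨Nat.prime_three⟩
  have hfin : Finite ↥(twistedF4 K (2 ^ m)) := inferInstance
  obtain ⟨z, d, hd⟩ := exists_torus hK f hk
  have hi : ¬ 3 ^ (1 + 1) ∣ Nat.card (↥(twistedF4 K (2 ^ m)) ⧸ tX chevF4 k (eF m f) z) := by
    obtain ⟨c, h9, hc'⟩ := arith (mod_nine m)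
    have h1 := S1068.result hK
    intro h
    apply h9
    rw [hc', ← (tX chevF4 k (eF m f) z).card_mul_index, hd, mul_assoc] at h1
    have h4 := Nat.eq_of_mul_eq_mul_left (by positivity) h1
    rw [← h4]
    exact Dvd.dvd.mul_left h d
  let P : Sylow 3 N := default
  let _ : MulAction P (↥(twistedF4 K (2 ^ m)) ⧸ tX chevF4 k (eF m f) z) :=
    MulAction.compHom _ (ι.comp (P : Subgroup N).subtype)
  obtain ⟨y, hy⟩ := exists_stab Nat.prime_three P.isPGroup' hi
  obtain ⟨x, rfl⟩ := QuotientGroup.mk_surjective y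
  have hA : (MulAction.stabilizer P (x : ↥(twistedF4 K (2 ^ m)) ⧸ tX chevF4 k (eF m f) z)).map
      (P : Subgroup N).subtype ≤ P := Subgroup.map_subtype_le _
  obtain ⟨B, h1, ⟨g, h2⟩, h3⟩ := exists_tor_alg hp 2 hk ((eF m f).comp ι)
    ((Nat.Prime.coprime_iff_not_dvd Nat.prime_two).2 hodd).symm Nat.prime_three (P.isPGroup'.to_le hA)
    ⟨z⁻¹ * eF m f x⁻¹, by
      rintro _ ⟨a, ha, rfl⟩
      have h4 : ((ι a * x : ↥(twistedF4 K (2 ^ m))) : ↥(twistedF4 K (2 ^ m)) ⧸ tX chevF4 k (eF m f) z) = x := ha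
      have h5 := mem_tX.1 (QuotientGroup.eq.1 h4.symm)
      have h6 : z⁻¹ * eF m f x⁻¹ * ((eF m f).comp ι) ((P : Subgroup N).subtype a) * (z⁻¹ * eF m f x⁻¹)⁻¹ =
          z⁻¹ * eF m f (x⁻¹ * (ι a * x)) * z := by
        rw [map_mul, map_mul, map_inv]
        change z⁻¹ * (eF m f x)⁻¹ * eF m f (ι a) * _ = _
        group
      rw [h6]
      exact h5⟩
  refine ⟨B, ?_, g⁻¹, fun x hx => by rw [inv_inv]; exact h2 x hx⟩
  refine (Nat.dvd_iff_prime_pow_dvd_dvd _ _).2 fun ℓ j hℓ hj => ?_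
  rcases Nat.eq_zero_or_pos j with rfl | hj0
  · rw [pow_zero]; exact one_dvd _
  by_cases h8 : ℓ = 3
  · subst h8
    have h9 := hj.trans (Subgroup.index_dvd_of_le h1)
    rw [← Subgroup.relIndex_mul_index hA, Subgroup.relIndex, Subgroup.subgroupOf,
      Subgroup.comap_map_eq_self_of_injective (Subgroup.subtype_injective _)] at h9
    exact ((Nat.Coprime.pow_left j ((Nat.Prime.coprime_iff_not_dvd hℓ).2
      P.not_dvd_index)).dvd_of_dvd_mul_right h9).trans hy
  · exfalso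
    have h9 := (dvd_pow_self ℓ hj0.ne').trans (h3 ℓ j hℓ h8 hj)
    rw [show Nat.card CoxeterMatrix.F₄.Group = 1152 from S1092.result (⟨4, CoxeterMatrix.F₄⟩, 1152) (by simp),
      show (1152 : ℕ) = 2 ^ 7 * 3 ^ 2 by norm_num] at h9
    rcases (Nat.Prime.dvd_mul hℓ).1 h9 with h10 | h10
    · have h11 := (Nat.prime_dvd_prime_iff_eq hℓ Nat.prime_two).1 (hℓ.dvd_of_dvd_pow h10)
      subst h11
      exact hodd (((dvd_pow_self 2 hj0.ne').trans hj).trans B.index_dvd_card)
    · exact h8 ((Nat.prime_dvd_prime_iff_eq hℓ Nat.prime_three).1 (hℓ.dvd_of_dvd_pow h10))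

/-- the toral configuration -/
theorem eq_one_of_tor {N : Type*} [Group N] [Finite N] (ι : N →* ↥(twistedF4 K (2 ^ m))) {B : Subgroup N} [B.Normal]
    {g : ↥(chevF4.group k)} (hg : ∀ x ∈ B, g⁻¹ * eF m f (ι x) * g ∈ TT chevF4 k) {d b y : N} {j s : ℕ}
    (hd : d ^ 3 ^ j = 1) (hb : b ∈ B) (hdb : ι (d * b * d⁻¹) ≠ ι b) (hy : y ∈ B) (hdy : d * y * d⁻¹ = y)
    (hs : s.Coprime 6) (hys : y ^ s = 1) : ι y = 1 := by
  have : Fact (Nat.Prime 2) := ⟨Nat.prime_two⟩
  let cs := CoxeterMatrix.F₄.toCoxeterSystem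
  have hW : Finite CoxeterMatrix.F₄.Group := H493.PGF4.finW
  have hcW : Nat.card CoxeterMatrix.F₄.Group = 1152 := S1092.result (⟨4, CoxeterMatrix.F₄⟩, 1152) (by simp)
  let t : N →* ↥(chevF4.group k) := (MulAut.conj g⁻¹).toMonoidHom.comp ((eF m f).comp ι)
  have ht : ∀ x, t x = g⁻¹ * eF m f (ι x) * g := fun x => by
    change g⁻¹ * eF m f (ι x) * g⁻¹⁻¹ = _
    rw [inv_inv]
  have htB : ∀ x ∈ B, t x ∈ TT chevF4 k := fun x hx => by rw [ht]; exact hg x hx
  have hinj : ∀ x x', t x = t x' → ι x = ι x' := fun x x' h => by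
    rw [ht, ht] at h
    exact eF_injective f (mul_left_cancel (mul_right_cancel h))
  have hn : ∀ x ∈ B, ∀ c : N, c * x * c⁻¹ ∈ B := fun x hx c => Subgroup.Normal.conj_mem inferInstance x hx c
  -- the element of the Weyl group acting as `d`
  obtain ⟨w, n, hw, hwn⟩ := exists_form_fam hp cs hk 2 (s := fun x : B => t x) (t := fun x : B => t (d * x * d⁻¹))
    (fun x => htB _ x.2) (fun x => htB _ (hn _ x.2 d)) (c := t d) fun x => by
      rw [← map_mul, ← map_mul, inv_mul_cancel_right]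
  have a1 : ∀ x ∈ B, ∀ v, cX hp (t (d * x * d⁻¹)) (rep cs hp.isCartan w v) = cX hp (t x) v := fun x hx v => by
    rw [← cX_rp hp cs hk 2 hw (htB x hx) v, mul_inv_eq_iff_eq_mul.2 (hwn ⟨x, hx⟩)]
  have a2 : ∀ i : ℕ, ∀ x ∈ B, ∀ v,
      cX hp (t (d ^ i * x * (d ^ i)⁻¹)) (rep cs hp.isCartan (w ^ i) v) = cX hp (t x) v := by
    intro i
    induction i with
    | zero => intro x _ v; simp only [_root_.pow_zero, _root_.one_mul, _root_.inv_one, _root_.mul_one, _root_.map_one, _root_.Module.End.one_apply]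
    | succ i ih =>
      intro x hx v
      rw [← ih x hx v, ← a1 _ (hn x hx (d ^ i)), ← rep_mul_apply, ← pow_succ']
      congr 2
      rw [pow_succ']
      group
  -- the Steinberg endomorphism
  obtain ⟨w₁, n₁, hw₁, hwn₁⟩ := exists_form_fam hp cs hk 2 (s := fun _ : Unit => ste k m (t y))
    (t := fun _ : Unit => t y) (fun _ => ste_TT (htB y hy)) (fun _ => htB y hy) (c := g⁻¹ * ste k m g) fun _ => by
      rw [ht]
      exact mul_inv_eq_iff_eq_mul.1 (tau hK f (n := g⁻¹ * ste k m g) rfl (ι y))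
  have a3 : ∀ v, cX hp (t y) (rep cs hp.isCartan w₁ v) = cX hp (t y) (H448.FprCent.Rl m v) := fun v => by
    rw [← H448.FprCent.cX_ste_all m (htB y hy), ← cX_rp hp cs hk 2 hw₁ (ste_TT (htB y hy)) v,
      mul_inv_eq_iff_eq_mul.2 (hwn₁ ())]
  have a4 : ∀ (i : ℕ) v, cX hp (t y) (rep cs hp.isCartan (w ^ i) v) = cX hp (t y) v := fun i v => by
    have h1 : d ^ i * y * (d ^ i)⁻¹ = y := by
      rw [mul_inv_eq_iff_eq_mul] at hdy ⊢
      exact (show Commute d y from hdy).pow_left i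
    rw [← a2 i y hy v, h1]
  have main : ∀ i : ℕ, (∀ x, rep cs hp.isCartan (w ^ i) (rep cs hp.isCartan (w ^ i) (rep cs hp.isCartan (w ^ i) x)) = x) →
      (∃ a, rep cs hp.isCartan (w ^ i) (sr a) ≠ sr a) → ι y = 1 := fun i h3 h1 => by
    have h4 := char_trivial cs (isMC_cX hp (htB y hy)) hs
      (fun v => by rw [← cX_pow hp (htB y hy), ← map_pow, hys, map_one, cX_one]) h3 h1 (a4 i) a3
    rw [← map_one ι]
    refine hinj _ _ (cX_inj hp (htB y hy) (htB 1 B.one_mem) fun a => ?_)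
    rw [h4, map_one, cX_one]
  by_cases h9 : ∃ a, rep cs hp.isCartan (w ^ 384) (sr a) ≠ sr a
  · refine main 384 (fun x => ?_) h9
    rw [← rep_mul_apply, ← rep_mul_apply, ← pow_add, ← pow_add, show 384 + 384 + 384 = 1152 by norm_num, ← hcW,
      pow_card_eq_one', map_one, Module.End.one_apply]
  push Not at h9
  refine main 128 (fun x => ?_) ?_
  · rw [← rep_mul_apply, ← rep_mul_apply, ← pow_add, ← pow_add, show 128 + 128 + 128 = 384 by norm_num]
    conv_lhs => rw [IsMC.eq_sum_sr x]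
    rw [map_sum]
    simp only [map_smul, h9]
    exact (IsMC.eq_sum_sr x).symm
  · by_contra h0
    push Not at h0
    have h1 : t (d ^ 128 * b * (d ^ 128)⁻¹) = t b :=
      cX_inj hp (htB _ (hn b hb _)) (htB b hb) fun a => by rw [← a2 128 b hb (sr a), h0]
    have h2 : Commute (t d ^ 128) (t b) := by
      rw [map_mul, map_mul, map_inv, mul_inv_eq_iff_eq_mul, map_pow] at h1
      exact h1
    have h3 : Nat.Coprime 128 (orderOf (t d)) :=
      Nat.Coprime.coprime_dvd_right (orderOf_dvd_of_pow_eq_one (n := 3 ^ j) (by rw [← map_pow, hd, map_one]))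
        (Nat.Coprime.pow_right j (by norm_num))
    obtain ⟨e, he⟩ := exists_pow_eq_self_of_coprime h3
    have h4 := h2.pow_left e
    rw [he] at h4
    refine hdb (hinj _ _ ?_)
    rw [map_mul, map_mul, map_inv, h4.eq, mul_inv_cancel_right]

omit [CharP K 2] hk in
/-- **A nonabelian `3`-subgroup centralises no element of prime order `s ≥ 5`.** -/
theorem comm_of_five {D : Subgroup ↥(twistedF4 K (2 ^ m))} (hD : IsPGroup 3 D) {y : ↥(twistedF4 K (2 ^ m))} {s : ℕ}
    (hs : s.Prime) (h5 : 5 ≤ s) (hy : orderOf y = s) (hc : y ∈ Subgroup.centralizer (D : Set ↥(twistedF4 K (2 ^ m)))) :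
    IsMulCommutative D := by
  have : Fact (Nat.Prime 3) := ⟨Nat.prime_three⟩
  have : Fact s.Prime := ⟨hs⟩
  have hc2 : CharP K 2 := F4Fixed.charP_two hK
  obtain ⟨p, e, hpF, hpc, hpk, he, hpe, hk⟩ := exists_closure hK
  have hp2 : p = 2 := CharP.eq K hpc hc2
  subst hp2
  have hfin : Finite ↥(twistedF4 K (2 ^ m)) := inferInstance
  have hZ : Nat.card (Subgroup.zpowers y) = s := by rw [Nat.card_zpowers, hy]
  have hZ' : IsPGroup s (Subgroup.zpowers y) := IsPGroup.of_card (n := 1) (by rw [hZ, pow_one])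
  have n1 := hD.isNilpotent
  have n2 := hZ'.isNilpotent
  have hcm : ∀ (a : D) (b : Subgroup.zpowers y), Commute (D.subtype a) ((Subgroup.zpowers y).subtype b) := by
    rintro a ⟨_, i, rfl⟩
    exact (show Commute (a : ↥(twistedF4 K (2 ^ m))) y from hc a a.2).zpow_right i
  let ι : D × Subgroup.zpowers y →* ↥(twistedF4 K (2 ^ m)) := MonoidHom.noncommCoprod _ _ hcm
  obtain ⟨j, hj⟩ := IsPGroup.iff_card.1 hD
  have s2 : s.Coprime 2 := (Nat.coprime_primes hs Nat.prime_two).2 (by omega)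
  have s3 : s.Coprime 3 := (Nat.coprime_primes hs Nat.prime_three).2 (by omega)
  have hodd : ¬ 2 ∣ Nat.card (D × Subgroup.zpowers y) := by
    rw [Nat.card_prod, hj, hZ, ← Nat.Prime.coprime_iff_not_dvd Nat.prime_two]
    exact Nat.Coprime.mul_right (Nat.Coprime.pow_right j (by norm_num)) s2.symm
  obtain ⟨B, hB, g, hg⟩ := exists_tor_three hK (algebraMap K (AlgebraicClosure K)) hk ι hodd
  have hBn : B.Normal := by
    rcases (Nat.dvd_prime Nat.prime_three).1 hB with h | h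
    · rw [Subgroup.index_eq_one.1 h]
      infer_instance
    · refine Subgroup.normal_of_index_eq_minFac_card ?_
      have h3 : 3 ∣ Nat.card (D × Subgroup.zpowers y) := h ▸ B.index_dvd_card
      have h4 := Nat.minFac_le_of_dvd (by norm_num) h3
      have h6 : (Nat.card (D × Subgroup.zpowers y)).minFac ≠ 2 := fun h7 =>
        hodd ((dvd_of_eq h7.symm).trans (Nat.minFac_dvd _))
      have h7 := (Nat.minFac_prime (n := Nat.card (D × Subgroup.zpowers y)) (by omega)).two_le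
      omega
  let y' : D × Subgroup.zpowers y := (1, ⟨y, Subgroup.mem_zpowers y⟩)
  have hy' : y' ^ s = 1 := by
    refine Prod.ext (one_pow s) (Subtype.ext ?_)
    change y ^ s = 1
    rw [← hy, pow_orderOf_eq_one]
  have hyB : y' ∈ B := by
    obtain ⟨e, he⟩ := exists_pow_eq_self_of_coprime (x := y') (n := B.index)
      ((s3.symm.coprime_dvd_left hB).coprime_dvd_right (orderOf_dvd_of_pow_eq_one hy'))
    rw [← he]
    exact pow_mem (B.pow_index_mem y') e
  have hcyc : IsCyclic ((D × Subgroup.zpowers y) ⧸ B) := isCyclic_of_card_dvd_prime (p := 3) hB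
  refine ((QuotientGroup.mk' B).comp (MonoidHom.inl D (Subgroup.zpowers y))).isMulCommutative_of_isCyclic_of_ker_le_center
    fun b hb => Subgroup.mem_center_iff.2 fun d => ?_
  by_contra hdb
  have hb' : ((b, 1) : D × Subgroup.zpowers y) ∈ B := (QuotientGroup.eq_one_iff _).1 hb
  obtain ⟨i, hi⟩ := hD d
  have h1 := eq_one_of_tor hK (algebraMap K (AlgebraicClosure K)) hk ι hg (d := (d, 1)) (j := i)
    (Prod.ext hi (one_pow _)) hb' (fun h => hdb (by
      have h2 : ((d * b * d⁻¹ : D) : ↥(twistedF4 K (2 ^ m))) * 1 = b * 1 := by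
        simpa only [ι, _root_.Subgroup.coe_mul, _root_.InvMemClass.coe_inv, _root_.mul_one, _root_.Prod.mk_mul_mk, _root_.Prod.inv_mk, _root_.inv_one, _root_.MonoidHom.noncommCoprod_apply, _root_.Subgroup.subtype_apply, _root_.OneMemClass.coe_one] using h
      rw [mul_one, mul_one] at h2
      exact mul_inv_eq_iff_eq_mul.1 (Subtype.ext h2))) hyB (by simp [y']) (s2.mul_right s3) hy'
  have h2 : y = 1 := by simpa only [ι, y', _root_.MonoidHom.noncommCoprod_apply, _root_.Subgroup.subtype_apply, _root_.OneMemClass.coe_one, _root_.one_mul] using h1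
  rw [h2, orderOf_one] at hy
  omega

omit [CharP K 2] hk in
/-- a noncyclic `3`-subgroup centralises no involution -/
theorem comm_of_two (hm : 1 ≤ m) {D : Subgroup ↥(twistedF4 K (2 ^ m))} (hD : IsPGroup 3 D)
    {y : ↥(twistedF4 K (2 ^ m))} (hy : orderOf y = 2)
    (hc : y ∈ Subgroup.centralizer (D : Set ↥(twistedF4 K (2 ^ m)))) : IsMulCommutative D := by
  have : Fact (Nat.Prime 3) := ⟨Nat.prime_three⟩
  have hfin : Finite ↥(twistedF4 K (2 ^ m)) := inferInstance
  by_cases hcyc : IsCyclic D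
  · infer_instance
  exfalso
  obtain ⟨A, -, hA, hcA⟩ := S0126.result (by norm_num) hD hcyc
  refine PreUniq.LowExc.TwF4.not_pair_twistedF4 hm hK Nat.prime_three (by norm_num) ?_ (E := A.map D.subtype)
    ⟨Nil.isMulCommutative_map _ hA.1, ?_⟩ ?_ (t := y) ?_ ?_ ?_
  · rw [Nat.card_eq_fintype_card, hK]
    have := mod_nine m
    omega
  · rintro _ ⟨a, ha, rfl⟩
    rw [← map_pow, hA.2 a ha, map_one]
  · rw [Subgroup.card_map_of_injective D.subtype_injective, hcA]
  · have h1 := pow_orderOf_eq_one y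
    rwa [hy, pow_two] at h1
  · rintro rfl
    rw [orderOf_one] at hy
    omega
  · rintro _ ⟨a, -, rfl⟩
    exact hc a a.2

omit [CharP K 2] hk in
theorem KK_top (hm : 1 ≤ m) {D : Subgroup ↥(twistedF4 K (2 ^ m))} (hD : IsPGroup 3 D) (hn : ¬ IsMulCommutative D) :
    Nil.KK 3 D = ⊤ := by
  have : Fact (Nat.Prime 3) := ⟨Nat.prime_three⟩
  have hfin : Finite ↥(twistedF4 K (2 ^ m)) := inferInstance
  rw [eq_top_iff]
  intro x _
  refine Nil.mem_KK_iff.2 fun y hy hr => ?_
  by_cases h1 : orderOf y = 1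
  · rw [orderOf_eq_one_iff.1 h1, one_mul, mul_one]
  exfalso
  obtain ⟨s, hs, hd⟩ := Nat.exists_prime_and_dvd h1
  have h2 : orderOf (y ^ (orderOf y / s)) = s := orderOf_pow_orderOf_div (orderOf_pos y).ne' hd
  by_cases hs2 : s = 2
  · exact hn (comm_of_two hK hm hD (hs2 ▸ h2) (pow_mem hy _))
  · exact hn (comm_of_five hK hD hs (hs.five_le_of_ne_two_of_ne_three hs2 (fun h => hr (h ▸ hd))) h2 (pow_mem hy _))

end TF

universe u

/-- **[TF4]** -/
theorem boxTF4 : BoxTF4.{u} := by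
  rintro p hpp hp S _ _ _ hS ⟨K, _, _, m, hm, hK, ⟨e⟩⟩
  have hfin : Finite ↥(Lie.twistedF4 K (2 ^ m)) := inferInstance
  refine Nil.BRow.of_equiv e (Nil.Row.of_cyclic_mult (S2114.result hm hK) hpp.out.not_dvd_one fun D hD => ?_).brow
  by_cases h3 : p = 3
  · subst h3
    by_contra hn
    have hs : IsSimpleGroup ↥(Lie.twistedF4 K (2 ^ m)) := e.symm.isSimpleGroup
    have hna : ¬ IsMulCommutative ↥(Lie.twistedF4 K (2 ^ m)) := fun h =>
      hn ⟨⟨fun a b => Subtype.ext (h.1.1 _ _)⟩⟩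
    have hZ : Subgroup.center ↥(Lie.twistedF4 K (2 ^ m)) = ⊥ :=
      (IsSimpleGroup.eq_bot_or_eq_top_of_normal _ inferInstance).resolve_right fun h =>
        hna ⟨⟨fun a b => Subgroup.mem_center_iff.1 (h ▸ Subgroup.mem_top b) a⟩⟩
    have hd : 3 ∣ Nat.card ↥(Lie.twistedF4 K (2 ^ m)) := by
      obtain ⟨j, hj⟩ := IsPGroup.iff_card.1 hD.pg
      rcases j with _ | j
      · exfalso
        rw [pow_zero, Subgroup.card_eq_one] at hj
        apply hn
        rw [hj]
        infer_instance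
      · exact (hj ▸ dvd_pow_self 3 j.succ_ne_zero : 3 ∣ Nat.card D).trans D.card_subgroup_dvd_card
    exact hD.false_of_rowS (TF.KK_top hK hm hD.pg hn) (S1112.result hK hm) hZ
      (H507.GmnTwF.rowS_2F4 hp hna hd ⟨K, _, _, m, hm, hK, ⟨MulEquiv.refl _⟩⟩)
  · have := ChevalleyStructure.F4Fixed.charP_two hK
    exact H42.Tw.abelian_twF4 (hpp.out.five_le_of_ne_two_of_ne_three hp h3) hD.pg

end Cfsg.Agent.BHZ.Exc
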