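import Cfsg.Agent.BHZ.Exc.TF4W_m3
import Cfsg.Agent.H630.ExcB
import Cfsg.Agent.H321.Mono.OrbC
import Cfsg.Agent.H994.KE.Base_m3
import Cfsg.Agent.H629.ExcTor
import Cfsg.Agent.H129.ExactZ
import Cfsg.Agent.S1054
import Cfsg.Agent.ChevFast.E6
import Cfsg.Agent.ChevFast.E7
import Cfsg.Agent.ChevFast.E8
import Cfsg.Agent.Lib.FinFast
import Cfsg.Agent.DS.Nt.Base
import Cfsg.Agent.H720.TwFr
import Cfsg.Agent.BpExc.NChev
import Cfsg.Agent.H59.ESixCover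
import Cfsg.Agent.H65.MultE
import Cfsg.Agent.H316.U6Norm_m3
import Cfsg.Agent.FastGrp
import Cfsg.Agent.Prune
set_option linter.all false

section
prune_inst 0x7ffcfcf82fb8afffffff7e7ffed3dffc3991dfffeffef9437fe861ef0f9f03000dc5f9850de042fe1fc2e2b410b87813fbfffeffea6bfc7ffffd5ff45ffbee0fa5e6bd08519688340fb80ff6e3f07f8a7f3fffffffffffffffffffffffffffbefffdffffffff

-- part: BHZ/Exc/Tools0
section
prune_inst 0x102079040500000000180012c0003c66c2000100106b880159a10b060e87ff232027af21f9901a034110aaf4603e8040000000590010000020008a00411905a1942b72e61374bd04760091c0f807500000000000000000000000000000041000200000000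
set_option linter.all false
open scoped Cfsg.Agent.FastGrp

/-!
# S4806, exceptional groups: tools from group theory (`LocX`, central extensions)
-/

set_option autoImplicit false

namespace Cfsg.Agent.BHZ.Exc

open Cfsg.Agent.DS.Ex Cfsg.Lie
open scoped commutatorElement

section Loc

variable {p c : ℕ} [hp : Fact p.Prime] {X : Type} [Group X] {Q : Subgroup X}

theorem LocX.exists_conj_le [Finite X] (h : LocX p c X Q) {R : Subgroup X} (hR : IsPGroup p R)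
    (hle : R ≤ Nil.KK p Q) : ∃ g ∈ Nil.KK p Q, R.map (MulAut.conj g).toMonoidHom ≤ Q := by
  obtain ⟨S, hS⟩ := (h.pg.comap_subtype (K := Nil.KK p Q)).exists_le_sylow
  obtain ⟨T, hT⟩ := (hR.comap_subtype (K := Nil.KK p Q)).exists_le_sylow
  have h1 : (S : Subgroup (Nil.KK p Q)).map (Nil.KK p Q).subtype = Q :=
    h.syl _ (S.isPGroup'.map _) (fun d hd => ⟨⟨d, Nil.self_le_KK Q hd⟩, hS hd, rfl⟩)
      (Subgroup.map_subtype_le _)
  obtain ⟨g, hg⟩ := MulAction.exists_smul_eq (Nil.KK p Q) T S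
  refine ⟨g, g.2, ?_⟩
  rintro _ ⟨x, hx, rfl⟩
  refine h1.le ⟨g * ⟨x, hle hx⟩ * g⁻¹, ?_, rfl⟩
  rw [← hg]
  exact Subgroup.smul_mem_pointwise_smul _ (MulAut.conj g) _ (hT hx)

/-- The fusion property holds for all `p`-subgroups of `K(Q)`. -/
theorem LocX.fus' [Finite X] (h : LocX p c X Q) {R : Subgroup X} (hR : IsPGroup p R) (hle : R ≤ Nil.KK p Q)
    {x : X} (hx : x ∈ Subgroup.normalizer (R : Set X)) (hxK : x ∈ ⁅Nil.KK p R, Nil.KK p R⁆)
    (hr : ¬ p ∣ orderOf x) : x ∈ Subgroup.centralizer (R : Set X) := by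
  obtain ⟨g, -, hg⟩ := h.exists_conj_le hR hle
  let ρ := (MulAut.conj g).toMonoidHom
  have hρ : Function.Surjective ρ := (MulAut.conj g).surjective
  have hc : ρ.ker ≤ Subgroup.center X := Nil.ker_le_center_of_injective (MulAut.conj g).injective
  refine Nil.mem_centralizer_of_reg hc hR hr (h.fus _ hg _ (Nil.map_mem_normalizer hx) ?_ (Nil.reg_map hr))
  have h1 : (Nil.KK p R).map ρ ≤ Nil.KK p (R.map ρ) := by
    rintro _ ⟨k, hk, rfl⟩
    exact Nil.map_mem_KK hρ hc hR hk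
  refine Subgroup.commutator_mono h1 h1 ?_
  rw [← Subgroup.map_commutator]
  exact ⟨x, hxK, rfl⟩

/-- A `p`-element of `K(Q)` which centralizes `Q` lies in `Q`. -/
theorem LocX.mem_of_cent (h : LocX p c X Q) {x : X} {n : ℕ} (hx : x ^ p ^ n = 1) (hc : ∀ d ∈ Q, d * x = x * d)
    (hK : x ∈ Nil.KK p Q) : x ∈ Q := by
  have h1 : Subgroup.zpowers x ≤ Subgroup.normalizer (Q : Set X) :=
    (Subgroup.zpowers_le.2 (Subgroup.mem_centralizer_iff.2 hc)).trans (Subgroup.centralizer_le_normalizer _)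
  have h2 : IsPGroup p (Q ⊔ Subgroup.zpowers x : Subgroup X) :=
    IsPGroup.to_sup_of_normal_left' h.pg (Nil.isPGroup_zpowers_of_pow hx) h1
  rw [← h.syl _ h2 le_sup_left (sup_le (Nil.self_le_KK Q) (Subgroup.zpowers_le.2 hK))]
  exact Subgroup.mem_sup_right (Subgroup.mem_zpowers x)

/-- The local conditions pass to the centralizer of a central element of `Q`. -/
theorem LocX.cent (h : LocX p c X Q) {a : X} (ha : a ∈ Q) (hc : ∀ d ∈ Q, d * a = a * d) :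
    LocX p c (Subgroup.centralizer ({a} : Set X)) (Q.subgroupOf (Subgroup.centralizer ({a} : Set X))) := by
  set H := Subgroup.centralizer ({a} : Set X) with hH
  have hm : ∀ x, x ∈ H ↔ x * a = a * x := fun x => Subgroup.mem_centralizer_singleton_iff
  have hQH : Q ≤ H := fun d hd => (hm d).2 (hc d hd)
  have hord : ∀ x : H, orderOf (x : X) = orderOf x := fun x => Subgroup.orderOf_coe x
  -- `K_H(R) ≤ K_X(R')` if `C_X(R') ≤ C_H(R)`
  have key : ∀ (R : Subgroup H) (R' : Subgroup X), a ∈ R' → R.map H.subtype ≤ R' →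
      (Nil.KK p R).map H.subtype ≤ Nil.KK p R' := by
    rintro R R' haR hR _ ⟨k, hk, rfl⟩
    refine Nil.mem_KK_iff.2 fun y hy hr => ?_
    have hyH : y ∈ H := (hm y).2 (Subgroup.mem_centralizer_iff.1 hy a haR).symm
    have := Nil.mem_KK_iff.1 hk ⟨y, hyH⟩ (Subgroup.mem_centralizer_iff.2 fun s hs =>
      Subtype.ext (Subgroup.mem_centralizer_iff.1 hy s (hR ⟨s, hs, rfl⟩))) (by rwa [← hord])
    exact congrArg Subtype.val this
  have hmap : (Q.subgroupOf H).map H.subtype = Q := Subgroup.map_subgroupOf_eq_of_le hQH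
  refine ⟨h.pg.comap_subtype, fun P hP hle hK => ?_, fun R hR x hx hxK hr => ?_, fun N h1 h2 h3 => ?_⟩
  · have h1 := h.syl (P.map H.subtype) (hP.map _) (hmap.ge.trans (Subgroup.map_mono hle))
      ((Subgroup.map_mono hK).trans (key _ Q ha hmap.le))
    exact le_antisymm (fun x hx => h1.le ⟨x, hx, rfl⟩) hle
  · let R' := R.map H.subtype ⊔ Subgroup.zpowers a
    have haR : a ∈ R' := Subgroup.mem_sup_right (Subgroup.mem_zpowers a)
    have hR' : R' ≤ Q := sup_le ((Subgroup.map_mono hR).trans hmap.le) (Subgroup.zpowers_le.2 ha)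
    have h1 := key R R' haR le_sup_left
    have h2 : (x : X) ∈ Subgroup.normalizer (R' : Set X) := by
      refine Subgroup.normalizer_inf_normalizer_le_normalizer_sup _ _ ⟨Nil.map_mem_normalizer (π := H.subtype) hx, ?_⟩
      refine Subgroup.centralizer_le_normalizer _ (Subgroup.mem_centralizer_iff.2 ?_)
      rintro _ ⟨k, rfl⟩
      exact (Commute.zpow_left ((hm x).1 x.2).symm k).eq
    have h3 := h.fus R' hR' x h2 (Subgroup.commutator_mono h1 h1 (by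
      rw [← Subgroup.map_commutator]
      exact ⟨x, hxK, rfl⟩)) (by rwa [hord])
    exact Subgroup.mem_centralizer_iff.2 fun s hs =>
      Subtype.ext (Subgroup.mem_centralizer_iff.1 h3 s (Subgroup.mem_sup_left ⟨s, hs, rfl⟩))
  · obtain ⟨N', _, _, f, hf, hk, hcard, hdz⟩ := h.dz (N.map H.subtype) (by
      rintro _ ⟨n, hn, rfl⟩
      exact Subgroup.mem_centralizer_iff.2 fun d hd =>
        congrArg Subtype.val (Subgroup.mem_centralizer_iff.1 (h1 hn) ⟨d, hQH hd⟩ hd)) (by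
      intro y hy
      have hyH : y ∈ H := (hm y).2 (Subgroup.mem_centralizer_iff.1 hy a ha).symm
      exact Nil.map_mem_normalizer (π := H.subtype) (x := ⟨y, hyH⟩) (h2 (Subgroup.mem_centralizer_iff.2 fun s hs =>
        Subtype.ext (Subgroup.mem_centralizer_iff.1 hy s hs)))) (by
      rw [eq_bot_iff]
      rintro _ ⟨⟨n, hn, rfl⟩, hq⟩
      have : n ∈ N ⊓ Q.subgroupOf H := ⟨hn, hq⟩
      rw [h3, Subgroup.mem_bot] at this
      rw [this]
      exact one_mem _)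
    let e := N.equivMapOfInjective H.subtype H.subtype_injective
    have hker : (e.symm.toMonoidHom.comp f).ker = f.ker := by
      ext y
      simp only [MonoidHom.mem_ker, MonoidHom.comp_apply, MulEquiv.coe_toMonoidHom, EmbeddingLike.map_eq_one_iff]
    exact ⟨N', inferInstance, inferInstance, e.symm.toMonoidHom.comp f, e.symm.surjective.comp hf,
      hker ▸ hk, hker ▸ hcard, hdz⟩

end Loc

section Cent

variable {L Y : Type*} [Group L] [Group Y] {θ : L →* Y} {p : ℕ}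

theorem eq_one_of_pow_cop {z : L} {m : ℕ} (h1 : z ^ m = 1) (h2 : z ^ p = 1) (hm : m.Coprime p) : z = 1 := by
  have := pow_gcd_eq_one.2 ⟨h1, h2⟩
  rwa [hm.gcd_eq_one, pow_one] at this

/-- **The coprime trick.** -/
theorem comm_of_pow' (hc : θ.ker ≤ Subgroup.center L) (he : ∀ z, θ z = 1 → z ^ p = 1) {x y : L}
    (hxy : θ x * θ y = θ y * θ x) {m : ℕ} (hx : θ x ^ m = 1) (hm : m.Coprime p) : x * y = y * x := by
  have h0 : θ ⁅x, y⁆ = 1 := by
    rw [map_commutatorElement, commutatorElement_eq_one_iff_mul_comm, hxy]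
  have h1 := Nil.cent_conj_pow hc hxy m
  rw [Nil.cent_comm hc (z := x ^ m) (by rw [map_pow, hx]) y |>.symm, mul_inv_cancel_right] at h1
  have h2 : ⁅x, y⁆ ^ m = 1 := by
    have := h1.symm
    rwa [mul_eq_right] at this
  exact commutatorElement_eq_one_iff_mul_comm.1 (eq_one_of_pow_cop h2 (he _ h0) hm)

theorem exists_lift' (hs : Function.Surjective θ) (he : ∀ z, θ z = 1 → z ^ p = 1) {u : Y} {m : ℕ} (hu : u ^ m = 1)
    (hm : m.Coprime p) : ∃ x : L, θ x = u ∧ x ^ m = 1 := by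
  obtain ⟨y, rfl⟩ := hs u
  obtain ⟨k, hk1, hk2⟩ := Nat.chineseRemainder hm 1 0
  refine ⟨y ^ k, ?_, ?_⟩
  · rw [map_pow, pow_eq_pow_of_modEq hk1 hu, pow_one]
  · rw [← pow_mul, mul_comm, pow_mul, pow_eq_pow_of_modEq hk2 (he _ (by rw [map_pow, hu])), pow_zero]

theorem lift_unique' (hc : θ.ker ≤ Subgroup.center L) (he : ∀ z, θ z = 1 → z ^ p = 1) {x y : L} (hxy : θ x = θ y)
    {m : ℕ} (hx : x ^ m = 1) (hy : y ^ m = 1) (hm : m.Coprime p) : x = y := by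
  have h0 : θ (x * y⁻¹) = 1 := by rw [map_mul, map_inv, hxy, mul_inv_cancel]
  have h1 : (x * y⁻¹) ^ m = 1 := by
    have h2 : x ^ m = (x * y⁻¹) ^ m * y ^ m := by
      rw [← Commute.mul_pow (Nil.cent_comm hc h0 y).symm, inv_mul_cancel_right]
    rwa [hx, hy, mul_one, eq_comm] at h2
  exact mul_inv_eq_one.1 (eq_one_of_pow_cop h1 (he _ h0) hm)

/-- conjugation only depends on the image -/
theorem conj_eq_of_eq (hc : θ.ker ≤ Subgroup.center L) {x y : L} (hxy : θ x = θ y) (m : L) :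
    x * m * x⁻¹ = y * m * y⁻¹ := by
  have h0 : θ (y⁻¹ * x) = 1 := by rw [map_mul, map_inv, hxy, inv_mul_cancel]
  have h1 := Nil.cent_comm hc h0 m
  calc x * m * x⁻¹ = y * (y⁻¹ * x * m) * x⁻¹ := by group
    _ = y * m * y⁻¹ := by rw [← h1]; group

theorem comm_of_eq (hc : θ.ker ≤ Subgroup.center L) {x y m : L} (hxy : θ x = θ y) (h : y * m = m * y) :
    x * m = m * x := by
  have h1 := conj_eq_of_eq hc hxy m
  rw [h, mul_inv_cancel_right] at h1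
  exact mul_inv_eq_iff_eq_mul.1 h1

end Cent

section Cov

variable {D : ChevalleyDatum} {r : ℕ} [Fact r.Prime] {L : Type} [Group L] {θ : L →* YY D r} {p : ℕ}

theorem Cov0.comm_ker (C : Cov0 p θ) {z : L} (hz : θ z = 1) (x : L) : x * z = z * x := Nil.cent_comm C.cent hz x

/-- **The coprime trick.** -/
theorem Cov0.comm_of_pow (C : Cov0 p θ) {x y : L} (hxy : θ x * θ y = θ y * θ x) {m : ℕ} (hx : θ x ^ m = 1)
    (hm : m.Coprime p) : x * y = y * x := comm_of_pow' C.cent C.expo hxy hx hm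

theorem Cov0.exists_lift (C : Cov0 p θ) {u : YY D r} {m : ℕ} (hu : u ^ m = 1) (hm : m.Coprime p) :
    ∃ x : L, θ x = u ∧ x ^ m = 1 := exists_lift' C.surj C.expo hu hm

theorem Cov0.lift_unique (C : Cov0 p θ) {x y : L} (hxy : θ x = θ y) {m : ℕ} (hx : x ^ m = 1) (hy : y ^ m = 1)
    (hm : m.Coprime p) : x = y := lift_unique' C.cent C.expo hxy hx hy hm

theorem Cov0.conj_eq (C : Cov0 p θ) {x y : L} (hxy : θ x = θ y) (m : L) : x * m * x⁻¹ = y * m * y⁻¹ :=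
  conj_eq_of_eq C.cent hxy m

theorem Cov0.comm_of_eq (C : Cov0 p θ) {x y m : L} (hxy : θ x = θ y) (h : y * m = m * y) : x * m = m * x :=
  Exc.comm_of_eq C.cent hxy h

/-- the preimage of a `p`-element is a `p`-element -/
theorem Cov0.pow_succ (C : Cov0 p θ) {x : L} {n : ℕ} (h : θ x ^ p ^ n = 1) : x ^ p ^ (n + 1) = 1 := by
  rw [_root_.pow_succ, pow_mul]
  exact C.expo _ (by rw [map_pow, h])

/-- the preimage of a finite subgroup is finite -/
theorem Cov0.finite_comap (C : Cov0 p θ) (P : Subgroup (YY D r)) [Finite P] : Finite (P.comap θ) := by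
  have := C.fin
  let f : P.comap θ →* P := (θ.comp (P.comap θ).subtype).codRestrict P fun x => x.2
  have : Finite f.ker := Finite.of_injective (fun x : f.ker => (⟨x.1.1, congrArg Subtype.val x.2⟩ : θ.ker))
    fun x y h => Subtype.ext (Subtype.ext (congrArg (fun w : θ.ker => (w : L)) h))
  have : Finite (P.comap θ ⧸ f.ker) := Finite.of_injective _ (QuotientGroup.kerLift_injective f)
  exact Finite.of_subgroup_quotient f.ker

theorem cov0_id (p : ℕ) : Cov0 p (MonoidHom.id (YY D r)) where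
  surj := Function.surjective_id
  cent := fun z hz => by rw [show z = 1 from hz]; exact one_mem _
  expo := fun z hz => by rw [show z = 1 from hz, one_pow]
  fin := by
    rw [MonoidHom.ker_id]
    infer_instance

end Cov

section GS

variable {D : ChevalleyDatum} {l : ℕ} {M : CoxeterMatrix (Fin l)} {hp : Nodes.RGDChev.IsType D l M} {r : ℕ}
  [Fact r.Prime] {L : Type} [Group L] {θ : L →* YY D r} {p c : ℕ} {X : Type} [Group X] {Q : Subgroup X}
  (G : GS hp p c θ X Q)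

theorem GS.mem_Dh_of {x : L} {d : X} (hd : d ∈ Q) (h : θ x = G.π d) : x ∈ G.Dh := ⟨d, hd, h.symm⟩

theorem GS.finite_Dh (C : Cov0 p θ) : Finite G.Dh := by
  have := G.fin
  have : Finite (Q.map G.π) := Finite.of_surjective _ (G.π.subgroupMap_surjective Q)
  exact C.finite_comap _

theorem GS.pelt_Dh (C : Cov0 p θ) {x : L} (hx : x ∈ G.Dh) : ∃ n : ℕ, x ^ p ^ n = 1 := by
  obtain ⟨d, hd, h⟩ := hx
  obtain ⟨n, hn⟩ := G.loc.pg ⟨d, hd⟩
  refine ⟨n + 1, C.pow_succ ?_⟩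
  rw [← h, ← map_pow, show d ^ p ^ n = 1 from congrArg Subtype.val hn, map_one]

theorem GS.isPGroup_Dh (C : Cov0 p θ) : IsPGroup p G.Dh := fun x => by
  obtain ⟨n, hn⟩ := G.pelt_Dh C x.2
  exact ⟨n, Subtype.ext hn⟩

theorem GS.pelt_π {d : X} (hd : d ∈ Q) : ∃ n : ℕ, G.π d ^ p ^ n = 1 := by
  obtain ⟨n, hn⟩ := G.loc.pg ⟨d, hd⟩
  exact ⟨n, by rw [← map_pow, show d ^ p ^ n = 1 from congrArg Subtype.val hn, map_one]⟩

/-- if a lift of `π x` commutes with `m` then `x` commutes with `ψ m` -/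
theorem GS.comm_ψ {x : X} {y : L} (h : θ y = G.π x) {m : G.L0} (hc : y * m = m * y) : x * G.ψ m = G.ψ m * x := by
  obtain ⟨h1, h2⟩ := G.eqv x y h m
  have h3 : (⟨y * m * y⁻¹, h1⟩ : G.L0) = m := Subtype.ext (by
    show y * m * y⁻¹ = m
    rw [hc, mul_inv_cancel_right])
  rw [h3] at h2
  exact (mul_inv_eq_iff_eq_mul.1 h2.symm)

/-- `m ∈ L0` lies in `K(R)` if it commutes with the lifts of the `p`-regular elements of `C(R)` -/
theorem GS.ψ_mem_KK [Fact p.Prime] (C : Cov0 p θ) {R : Subgroup X} {m : G.L0}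
    (h : ∀ y ∈ Subgroup.centralizer (R : Set X), ¬ p ∣ orderOf y → G.π y * θ m = θ m * G.π y) :
    G.ψ m ∈ Nil.KK p R := by
  refine Nil.mem_KK_iff.2 fun y hy hr => ?_
  obtain ⟨y', hy'⟩ := C.surj (G.π y)
  refine G.comm_ψ hy' (C.comm_of_pow (m := orderOf y) (by rw [hy']; exact h y hy hr) ?_ ?_)
  · rw [hy', ← map_pow, pow_orderOf_eq_one, map_one]
  · exact ((Nat.Prime.coprime_iff_not_dvd Fact.out).2 hr).symm

/-- a `p`-element of `L0` centralizing `Dh` whose image commutes with the `p`-regular elements of `C(Q)` lies in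
`Dh` -/
theorem GS.mem_Dh_of_cent [Fact p.Prime] (C : Cov0 p θ) {m : L} (hm : m ∈ G.L0) {n : ℕ} (hn : m ^ p ^ n = 1)
    (hc : ∀ x ∈ G.Dh, x * m = m * x)
    (h : ∀ y ∈ Subgroup.centralizer (Q : Set X), ¬ p ∣ orderOf y → G.π y * θ m = θ m * G.π y) : m ∈ G.Dh := by
  refine ⟨G.ψ ⟨m, hm⟩, G.loc.mem_of_cent (n := n) ?_ (fun d hd => ?_) (G.ψ_mem_KK C h), G.πψ _⟩
  · rw [← map_pow, show (⟨m, hm⟩ : G.L0) ^ p ^ n = 1 from Subtype.ext hn, map_one]
  · obtain ⟨x, hx⟩ := C.surj (G.π d)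
    exact G.comm_ψ hx (hc x (G.mem_Dh_of hd hx))

end GS

end Cfsg.Agent.BHZ.Exc
end

-- part: BHZ/Exc/Tools
section
prune_inst 0x200038040100000000180002c000384282000000104b800041010a0406c0ec232023ae21310012014110a864203c004000100049002000000000020041180581100002028108a100600090008000400000000000000000000000000000000000200000000
set_option linter.all false
open scoped Cfsg.Agent.FastGrp

/-!
# S4806, exceptional groups: lifts of root groups, frames, change of frame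
-/

set_option autoImplicit false

namespace Cfsg.Agent.BHZ.Exc

open CoxeterSystem Cfsg Cfsg.Lie Cfsg.Lie.ChevalleyDatum
open Cfsg.Agent.ChevalleyStructure Cfsg.Agent.ChevalleyStructure.Elts Cfsg.Agent.ChevalleyStructure.CoxeterGeom
  Cfsg.Agent.ChevalleyStructure.CoxeterGeomTypes
open Cfsg.Agent.Tits.Roots Cfsg.Agent.Tits.Core Cfsg.Agent.Nodes Cfsg.Agent.Nodes.Reps Cfsg.Agent.Nodes.BNOf
  Cfsg.Agent.Nodes.RGDChev Cfsg.Agent.Nodes.Bruhat
open Cfsg.Agent.KFacts.RgdField Cfsg.Agent.KFacts.RgdChevCoord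
open Cfsg.Agent.BpExc Cfsg.Agent.BpExc.TorCent Cfsg.Agent.BpExc.TorChev Cfsg.Agent.BpExc.Tow
  Cfsg.Agent.BpExc.TowChev Cfsg.Agent.BpExc.Fr Cfsg.Agent.BpExc.LangFr
open Cfsg.Agent.H469.Exc Cfsg.Agent.H795.SetCent Cfsg.Agent.H129.TorusChar Cfsg.Agent.DS.Ex Cfsg.Agent.DS.Nt
open Cfsg.Agent.H46.Gen (AFr Rt xf sgn sgn_ne_zero rt_iff xc_add xc_zero xc_commute steinRel exists_hom_loc xf_inj)
open Cfsg.Agent.H321.Ker (cj stG stm sc mono hom_ext_transvection toGL_cj toGL_inj')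
open Cfsg.Agent.H321.Mono (fm_root fm_Sup fm_range)
open scoped MatrixGroups commutatorElement
open Matrix.SpecialLinearGroup (transvection toGL)

variable {D : ChevalleyDatum} {l : ℕ} {M : CoxeterMatrix (Fin l)} {hp : IsType D l M} {r : ℕ} [Fact r.Prime]

section Torus

theorem exists_invC' (hp : IsType D l M) : ∃ (d : ℕ) (B : Fin l → Fin l → ℤ), InvC D l d B ∧ d ≠ 0 := by
  have h := hp
  simp only [IsType, typeList, List.mem_cons, Prod.mk.injEq, List.not_mem_nil, or_false] at h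
  rcases h with ⟨rfl, h⟩ | ⟨rfl, h⟩ | ⟨rfl, h⟩ | ⟨rfl, h⟩ | ⟨rfl, h⟩ | ⟨rfl, h⟩ | ⟨rfl, h⟩ <;> cases h
  · exact ⟨_, _, invC_G2, one_ne_zero⟩
  · exact ⟨2, ![![2, 2], ![1, 2]], by decide +kernel, two_ne_zero⟩
  · exact ⟨_, _, invC_D4, two_ne_zero⟩
  · exact ⟨_, _, invC_F4, one_ne_zero⟩
  · exact ⟨_, _, invC_E6, three_ne_zero⟩
  · exact ⟨_, _, invC_E7, two_ne_zero⟩
  · exact ⟨_, _, invC_E8, one_ne_zero⟩

/-- the torus is self-centralizing -/
theorem mem_T_of_comm (hp : IsType D l M) {c : YY D r} (hc : ∀ t ∈ TT D (KK r), c * t = t * c) : c ∈ TT D (KK r) := by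
  have := finW hp
  obtain ⟨d, B, hB, hd⟩ := exists_invC' hp
  exact H630.Exc.mem_TT_of_centralizes hp M.toCoxeterSystem (locFin r) r hB hd hc

variable (hp) in
/-- all characters occur -/
theorem exists_tor' {φ : (Fin l → ℤ) → KK r} (hφ : IsMC φ) : ∃ t ∈ TT D (KK r), ∀ x, cX hp t x = φ x := by
  obtain ⟨d, B, hB, hd⟩ := exists_invC' hp
  exact exists_cX hp hB hd hφ fun _ => IsAlgClosed.exists_pow_nat_eq _ (Nat.pos_of_ne_zero hd)

theorem exists_root' (hp : IsType D l M) {t : YY D r} (ht : t ∈ TT D (KK r)) {n : ℕ} (hn : n ≠ 0) :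
    ∃ s ∈ TT D (KK r), s ^ n = t := by
  obtain ⟨d, B, hB, hd⟩ := exists_invC' hp
  exact H795.LangT.exists_root hp hB hd ht hn

theorem lang_T {σ : MulAut (YY D r)} {e : ℕ} {g : (Fin l → ℤ) ≃+ (Fin l → ℤ)} (he : 0 < e) (hσ : IsFrob r e σ)
    (F : Fr M.toCoxeterSystem hp.isCartan (TT D (KK r)) (XX D l (KK r)) σ g) {t : YY D r} (ht : t ∈ TT D (KK r)) :
    ∃ s ∈ TT D (KK r), t = s⁻¹ * σ s := by
  obtain ⟨d, B, hB, hd⟩ := exists_invC' hp
  exact H795.LangT.lang_torus hp hB hd he hσ F ht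

theorem T_comm (hp : IsType D l M) {s t : YY D r} (hs : s ∈ TT D (KK r)) (ht : t ∈ TT D (KK r)) : s * t = t * s :=
  cX_inj hp (mul_mem hs ht) (mul_mem ht hs) fun i => by rw [cX_mul hp hs ht, cX_mul hp ht hs, mul_comm]

theorem cX_inv {t : YY D r} (ht : t ∈ TT D (KK r)) (x : Fin l → ℤ) : cX hp t⁻¹ x = (cX hp t x)⁻¹ := by
  refine eq_inv_of_mul_eq_one_left ?_
  rw [← cX_mul hp (inv_mem ht) ht, inv_mul_cancel, cX_one]

theorem T_act {t : YY D r} (ht : t ∈ TT D (KK r)) {a : Fin l → ℤ} (ha : IsRoot M.toCoxeterSystem hp.isCartan a)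
    (c : KK r) : t * xc hp a c * t⁻¹ = xc hp a (cX hp t a * c) := by
  obtain ⟨s, hs, rfl⟩ := (rt_iff hp M.toCoxeterSystem).2 ha
  rw [cX_vec hp ht hs]
  exact (act hp hs ht).2 c

theorem xc_pow (a : Fin l → ℤ) (c : KK r) : xc hp a c ^ r = 1 := by
  have h : ∀ n : ℕ, xc hp a c ^ n = xc hp a ((n : KK r) * c) := by
    intro n
    induction n with
    | zero => rw [pow_zero, Nat.cast_zero, zero_mul, xc_zero]
    | succ n ih => rw [pow_succ, ih, ← xc_add, Nat.cast_succ, add_mul, one_mul]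
  rw [h, CharP.cast_eq_zero, zero_mul, xc_zero]

variable (hp) in
theorem X_pow {a : Fin l → ℤ} (ha : IsRoot M.toCoxeterSystem hp.isCartan a) {y : YY D r}
    (hy : y ∈ XX D l (KK r) a) : y ^ r = 1 := by
  obtain ⟨c, rfl⟩ := (mem_X (hp := hp) ha).1 hy
  exact xc_pow a c

variable (hp) in
theorem T_conj_X {t : YY D r} (ht : t ∈ TT D (KK r)) {a : Fin l → ℤ} (ha : IsRoot M.toCoxeterSystem hp.isCartan a)
    {y : YY D r} (hy : y ∈ XX D l (KK r) a) : t * y * t⁻¹ ∈ XX D l (KK r) a := by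
  obtain ⟨c, rfl⟩ := (mem_X (hp := hp) ha).1 hy
  rw [T_act ht ha]
  exact xc_mem ha _

theorem SO.symm {a b : Fin l → ℤ} (h : SO D l a b) : SO D l b a :=
  ⟨fun e => h.1 (by rw [e, neg_neg]), fun m n hm hn => by rw [add_comm]; exact h.2 n m hn hm⟩

variable (hp) in
theorem SO.comm {a b : Fin l → ℤ} (h : SO D l a b) (ha : IsRoot M.toCoxeterSystem hp.isCartan a)
    (hb : IsRoot M.toCoxeterSystem hp.isCartan b) {x y : YY D r} (hx : x ∈ XX D l (KK r) a)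
    (hy : y ∈ XX D l (KK r) b) : x * y = y * x := by
  obtain ⟨c, rfl⟩ := (mem_X (hp := hp) ha).1 hx
  obtain ⟨d, rfl⟩ := (mem_X (hp := hp) hb).1 hy
  exact (xc_commute hp ((rt_iff hp _).2 ha) ((rt_iff hp _).2 hb) h.1 (Or.inr h.2) c d).eq

theorem Ps_root {Z : Set (YY D r)} {a : Fin l → ℤ} (ha : a ∈ Ps hp r Z) : IsRoot M.toCoxeterSystem hp.isCartan a :=
  ha.1

theorem mem_Ps_one {t : YY D r} (ht : t ∈ TT D (KK r)) {a : Fin l → ℤ} :
    a ∈ Ps hp r {t} ↔ IsRoot M.toCoxeterSystem hp.isCartan a ∧ cX hp t a = 1 := by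
  rw [mem_Ps (Set.singleton_subset_iff.2 ht)]
  simp only [Set.mem_singleton_iff, forall_eq]

theorem Ps_eq_Sx (t : YY D r) : Ps hp r {t} = Sx M.toCoxeterSystem hp.isCartan (ch hp) t := by
  ext a
  simp only [SxZ, Sx, Set.mem_singleton_iff, forall_eq]

/-- a frame automorphism which fixes `t` preserves the roots of the centralizer -/
theorem fr_mem_Ps {σ : MulAut (YY D r)} {g : (Fin l → ℤ) ≃+ (Fin l → ℤ)}
    (F : Fr M.toCoxeterSystem hp.isCartan (TT D (KK r)) (XX D l (KK r)) σ g) {t : YY D r} (ht : t ∈ TT D (KK r))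
    (hσ : σ t = t) (a : Fin l → ℤ) : g a ∈ Ps hp r {t} ↔ a ∈ Ps hp r {t} := by
  rw [Ps_eq_Sx]
  exact Fr.mem_Sx (coW hp r) (by rw [TLe hp r, XLe hp r]; exact F) (by rw [TLe hp r]; exact ht) hσ a

end Torus

section Mh

variable {L : Type} [Group L] {θ : L →* YY D r} {p : ℕ} {S S' : Set (Fin l → ℤ)}

theorem mem_Mh {u : L} {a : Fin l → ℤ} (hu : u ^ r = 1) (ha : a ∈ S) (h : θ u ∈ XX D l (KK r) a) : u ∈ Mh l θ S :=
  Subgroup.subset_closure ⟨hu, a, ha, h⟩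

theorem Mh_le {H : Subgroup L} (h : ∀ u : L, u ^ r = 1 → ∀ a ∈ S, θ u ∈ XX D l (KK r) a → u ∈ H) : Mh l θ S ≤ H :=
  (Subgroup.closure_le H).2 fun u ⟨hu, a, ha, h'⟩ => h u hu a ha h'

theorem Mh_mono (h : S ⊆ S') : Mh l θ S ≤ Mh l θ S' := Mh_le fun _ hu _ ha h' => mem_Mh hu (h ha) h'

theorem Mh_empty : Mh l θ ∅ = ⊥ := le_bot_iff.1 (Mh_le fun _ _ _ ha => absurd ha (Set.notMem_empty _))

theorem Mh_union : Mh l θ (S ∪ S') = Mh l θ S ⊔ Mh l θ S' :=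
  le_antisymm (Mh_le fun _ hu _ ha h => ha.elim (fun ha => Subgroup.mem_sup_left (mem_Mh hu ha h))
    fun ha => Subgroup.mem_sup_right (mem_Mh hu ha h))
    (sup_le (Mh_mono Set.subset_union_left) (Mh_mono Set.subset_union_right))

theorem θ_mem_Sup {m : L} (hm : m ∈ Mh l θ S) : θ m ∈ RGD.Sup (XX D l (KK r)) S :=
  Mh_le (H := (RGD.Sup (XX D l (KK r)) S).comap θ) (fun _ _ _ ha h => RGD.le_Sup (X := XX D l (KK r)) ha h) hm

variable (hp) in
theorem exists_Mh (C : Cov0 p θ) (hr : r.Coprime p) (hS : ∀ a ∈ S, IsRoot M.toCoxeterSystem hp.isCartan a)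
    {y : YY D r} (hy : y ∈ RGD.Sup (XX D l (KK r)) S) : ∃ m ∈ Mh l θ S, θ m = y := by
  refine RGD.Sup_le (X := XX D l (KK r)) (K := (Mh l θ S).map θ) (fun a ha u hu => ?_) hy
  obtain ⟨x, rfl, hx⟩ := C.exists_lift (X_pow hp (hS a ha) hu) hr
  exact ⟨x, mem_Mh hx ha hu, rfl⟩

variable (hp) in
theorem Mh_id (hS : ∀ a ∈ S, IsRoot M.toCoxeterSystem hp.isCartan a) :
    Mh l (MonoidHom.id (YY D r)) S = RGD.Sup (XX D l (KK r)) S :=
  le_antisymm (fun _ h => θ_mem_Sup h) (RGD.Sup_le fun a ha _ hu => mem_Mh (X_pow hp (hS a ha) hu) ha hu)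

/-- an element whose image centralizes the root groups centralizes the lifts -/
theorem comm_Mh (C : Cov0 p θ) (hr : r.Coprime p) {x : L}
    (h : ∀ a ∈ S, ∀ y ∈ XX D l (KK r) a, y * θ x = θ x * y) {m : L} (hm : m ∈ Mh l θ S) : m * x = x * m :=
  Subgroup.mem_centralizer_singleton_iff.1 (Mh_le (H := Subgroup.centralizer {x}) (fun _ hu a ha h' =>
    Subgroup.mem_centralizer_singleton_iff.2 (C.comm_of_pow (h a ha _ h') (by rw [← map_pow, hu, map_one]) hr)) hm)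

variable (hp) in
theorem Mh_comm (C : Cov0 p θ) (hr : r.Coprime p) (hS : ∀ a ∈ S, IsRoot M.toCoxeterSystem hp.isCartan a)
    (hS' : ∀ a ∈ S', IsRoot M.toCoxeterSystem hp.isCartan a) (h : ∀ a ∈ S, ∀ b ∈ S', SO D l a b) {m m' : L}
    (hm : m ∈ Mh l θ S) (hm' : m' ∈ Mh l θ S') : m * m' = m' * m := by
  refine comm_Mh C hr (fun a ha y hy => ?_) hm
  refine (Subgroup.mem_centralizer_singleton_iff.1 (RGD.Sup_le (X := XX D l (KK r))
    (K := Subgroup.centralizer {y}) (fun b hb u hu => ?_) (θ_mem_Sup hm'))).symm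
  exact Subgroup.mem_centralizer_singleton_iff.2 (SO.comm hp (h a ha b hb) (hS a ha) (hS' b hb) hy hu).symm

/-- transport along a homomorphism which permutes the root groups -/
theorem hom_Mh (α : L →* L) (h : ∀ u : L, ∀ a ∈ S, θ u ∈ XX D l (KK r) a → ∃ b ∈ S', θ (α u) ∈ XX D l (KK r) b)
    {m : L} (hm : m ∈ Mh l θ S) : α m ∈ Mh l θ S' :=
  Mh_le (H := (Mh l θ S').comap α) (fun u hu a ha h' => by
    obtain ⟨b, hb, h2⟩ := h u a ha h'
    exact mem_Mh (by rw [← map_pow, hu, map_one]) hb h2) hm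

variable (hp) in
theorem fr_Mh {σ : MulAut (YY D r)} {g : (Fin l → ℤ) ≃+ (Fin l → ℤ)}
    (F : Fr M.toCoxeterSystem hp.isCartan (TT D (KK r)) (XX D l (KK r)) σ g) {σL : MulAut L}
    (hσ : ∀ x, θ (σL x) = σ (θ x)) (hS : ∀ a ∈ S, IsRoot M.toCoxeterSystem hp.isCartan a) (h : ∀ a ∈ S, g a ∈ S')
    {m : L} (hm : m ∈ Mh l θ S) : σL m ∈ Mh l θ S' :=
  hom_Mh σL.toMonoidHom (fun u a ha h' => ⟨g a, h a ha, by
    show θ (σL u) ∈ _
    rw [hσ]
    exact (F.map a (hS a ha) _).2 h'⟩) hm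

theorem RP_Mh {w : M.Group} {k : L} (hk : RP hp r w (θ k)) (hS : ∀ a ∈ S, IsRoot M.toCoxeterSystem hp.isCartan a)
    (h : ∀ a ∈ S, rep M.toCoxeterSystem hp.isCartan w a ∈ S') {m : L} (hm : m ∈ Mh l θ S) :
    k * m * k⁻¹ ∈ Mh l θ S' :=
  fr_Mh hp hk.fr (σL := MulAut.conj k) (fun x => by simp only [MulAut.conj_apply, map_mul, map_inv]) hS h hm

variable (hp) in
theorem T_Mh {s : L} (hs : θ s ∈ TT D (KK r)) (hS : ∀ a ∈ S, IsRoot M.toCoxeterSystem hp.isCartan a) {m : L}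
    (hm : m ∈ Mh l θ S) : s * m * s⁻¹ ∈ Mh l θ S :=
  hom_Mh (MulAut.conj s).toMonoidHom (fun u a ha h' => ⟨a, ha, by
    show θ (s * u * s⁻¹) ∈ _
    rw [map_mul, map_mul, map_inv]
    exact T_conj_X hp hs (hS a ha) h'⟩) hm

/-- an element of the torus which is trivial on `S` centralizes the lifts -/
theorem T_comm_Mh (C : Cov0 p θ) (hr : r.Coprime p) {s : L} (hs : θ s ∈ TT D (KK r))
    (hS : ∀ a ∈ S, IsRoot M.toCoxeterSystem hp.isCartan a) (h : ∀ a ∈ S, cX hp (θ s) a = 1) {m : L}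
    (hm : m ∈ Mh l θ S) : m * s = s * m :=
  comm_Mh C hr (fun a ha _ hy => (comm_X hs (hS a ha) (h a ha) hy).symm) hm

/-- the lifts of the connected centralizer -/
theorem exists_of_DZ (C : Cov0 p θ) (hr : r.Coprime p) {Z : Set (YY D r)} {x : L} (hx : θ x ∈ DZ hp r Z) :
    ∃ m ∈ Mh l θ (Ps hp r Z), ∃ s : L, θ s ∈ TT D (KK r) ∧ x = m * s := by
  obtain ⟨m, hm, t, ht, e⟩ := mem_DZ.1 hx
  obtain ⟨m', hm', rfl⟩ := exists_Mh hp C hr (fun _ => Ps_root) hm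
  exact ⟨m', hm', m'⁻¹ * x, by rw [map_mul, map_inv, e, inv_mul_cancel_left]; exact ht, by group⟩

/-- lifts of `DZ Z` commute with the lifts of its centre -/
theorem comm_of_DZ (C : Cov hp p θ) (hr : r.Coprime p) {Z : Set (YY D r)} {x s : L} (hx : θ x ∈ DZ hp r Z)
    (hs : θ s ∈ TT D (KK r)) (h : ∀ a ∈ Ps hp r Z, cX hp (θ s) a = 1) : x * s = s * x := by
  obtain ⟨m, hm, u, hu, rfl⟩ := exists_of_DZ C.toCov0 hr hx
  rw [mul_assoc, C.tcomm u s hu hs, ← mul_assoc, T_comm_Mh C.toCov0 hr hs (fun _ => Ps_root) h hm, mul_assoc]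

theorem comm_of_DZ_one (C : Cov hp p θ) (hr : r.Coprime p) {x a : L} (ha : θ a ∈ TT D (KK r))
    (hx : θ x ∈ DZ hp r {θ a}) : x * a = a * x :=
  comm_of_DZ C hr hx ha fun _ h => ((mem_Ps_one ha).1 h).2

end Mh

section Frame

variable {L : Type} [Group L] {θ : L →* YY D r} {p n : ℕ} {ev : Fin (n + 1) → Fin l → ℤ} (hev : AFr D l ev)
  {φ : Matrix.SpecialLinearGroup (Fin (n + 1)) (KK r) →* YY D r}
  (hφ : ∀ i j (hij : i ≠ j) s, φ (transvection hij s) = xf hp ev i j s)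

include hev

variable (hp) in
theorem Rts_root {a : Fin l → ℤ} (ha : a ∈ Rts ev) : IsRoot M.toCoxeterSystem hp.isCartan a := by
  obtain ⟨i, j, hij, rfl⟩ := ha
  exact fm_root (hp := hp) hev hij

variable (hp r) in
theorem exists_frame_hom (hn : 2 ≤ n) : ∃ φ : Matrix.SpecialLinearGroup (Fin (n + 1)) (KK r) →* YY D r,
    ∀ i j (hij : i ≠ j) s, φ (transvection hij s) = xf hp ev i j s := by
  obtain ⟨φ, h, -⟩ := H46.Gen.exists_hom_afr (k := KK r) hp hev hn (locFin r)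
  exact ⟨φ, h⟩

include hφ

theorem frame_range (hn : 1 ≤ n) : φ.range = RGD.Sup (XX D l (KK r)) (Rts ev) :=
  le_antisymm (fm_range hev hφ hn) (fm_Sup hev hφ)

theorem frame_ne (hn : 1 ≤ n) : ∃ g, φ g ≠ 1 := by
  have h01 : (0 : Fin (n + 1)) ≠ Fin.last n := fun h => by
    have := congrArg Fin.val h
    simp only [Fin.val_zero, Fin.val_last] at this
    omega
  refine ⟨transvection h01 1, fun h => one_ne_zero (H321.Mono.fm_inj hev hφ _ _ h01 (a₁ := 1) (a₂ := 0) ?_)⟩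
  show φ _ = φ _
  rw [h, Matrix.SpecialLinearGroup.transvection_coeff_zero, map_one]

/-- **The lift of a frame.** -/
theorem exists_lift_frame (C : Cov0 p θ) (hr : r.Coprime p) (hn : 2 ≤ n) :
    ∃ φ' : Matrix.SpecialLinearGroup (Fin (n + 1)) (KK r) →* L, (∀ m, θ (φ' m) = φ m) ∧
      φ'.range = Mh l θ (Rts ev) := by
  have St := steinRel (k := KK r) hp hev
  have hx : ∀ (i j : Fin (n + 1)) (s : KK r), ∃ x : L, θ x = xf hp ev i j s ∧ x ^ r = 1 := fun i j s =>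
    C.exists_lift (xc_pow _ _) hr
  choose x hx hxr using hx
  have hc : ∀ i j k m, i ≠ j → k ≠ m → j ≠ k → i ≠ m → ∀ a b, x i j a * x k m b = x k m b * x i j a :=
    fun i j k m h1 h2 h3 h4 a b => C.comm_of_pow (by rw [hx, hx]; exact St.comm i j k m h1 h2 h3 h4 a b)
      (by rw [← map_pow, hxr, map_one]) hr
  have St' : AGraded.SteinRel x := by
    refine ⟨fun i j hij a b => ?_, hc, fun i j k h1 h2 h3 a b => ?_⟩
    · refine C.lift_unique (by rw [map_mul, hx, hx, hx, St.add i j hij]) (hxr _ _ _) ?_ hr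
      rw [Commute.mul_pow (hc i j i j hij hij hij.symm hij a b), hxr, hxr, one_mul]
    · have h4 : θ ⁅x i j a, x j k b⁆ = θ (x i k (a * b)) := by
        rw [map_commutatorElement, hx, hx, hx, St.br i j k h1 h2 h3]
      refine C.lift_unique h4 ?_ (hxr _ _ _) hr
      have h5 : Commute ⁅x i j a, x j k b⁆ (x i j a) := C.comm_of_eq h4 (hc i k i j h3 h1 h3.symm h1 _ _)
      have h6 := Nil.pow_mul_of_rel (b := x j k b) h5 (by rw [commutatorElement_def]; group) r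
      rw [hxr, one_mul, mul_one] at h6
      have h7 := h6.symm
      rwa [mul_eq_right] at h7
  obtain ⟨φ', h1, -, -⟩ := exists_hom_loc (locFin r) St' hn
  have h2 : θ.comp φ' = φ := hom_ext_transvection (by omega) fun i j hij t => by
    rw [MonoidHom.comp_apply, h1, hx, hφ]
  have h3 : ∀ m, θ (φ' m) = φ m := fun m => DFunLike.congr_fun h2 m
  refine ⟨φ', h3, le_antisymm ?_ (Mh_le fun u hu a ha h => ?_)⟩
  · have : Nontrivial (Fin (n + 1)) := Fin.nontrivial_iff_two_le.2 (by omega)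
    rintro _ ⟨g, rfl⟩
    refine Cfsg.Agent.LieClassical.SLGen.transvection_induction (fun g => φ' g ∈ Mh l θ (Rts ev))
      (fun i j hij t => ?_) (fun a b ha hb => by rw [map_mul]; exact mul_mem ha hb) g
    rw [h1]
    refine mem_Mh (hxr _ _ _) ⟨i, j, hij, rfl⟩ ?_
    rw [hx]
    exact xc_mem (fm_root (hp := hp) hev hij) _
  · obtain ⟨i, j, hij, rfl⟩ := ha
    obtain ⟨c, hc⟩ := (mem_X (hp := hp) (fm_root (hp := hp) hev hij)).1 h
    refine ⟨transvection hij ((sgn D l ev i j : KK r)⁻¹ * c), ?_⟩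
    rw [h1]
    refine C.lift_unique ?_ (hxr _ _ _) hu hr
    rw [hx, ← hc, xf, mul_inv_cancel_left₀ (sgn_ne_zero hp hev hij)]

omit hev hφ in
/-- the action on a lift is determined by the action on the frame -/
theorem lift_conj (C : Cov0 p θ) (hn : 2 ≤ n) {φ' : Matrix.SpecialLinearGroup (Fin (n + 1)) (KK r) →* L}
    (h : ∀ m, θ (φ' m) = φ m) (α : L →* L) (β : Matrix.SpecialLinearGroup (Fin (n + 1)) (KK r) →*
      Matrix.SpecialLinearGroup (Fin (n + 1)) (KK r)) (e : ∀ m, θ (α (φ' m)) = φ (β m)) (m) : α (φ' m) = φ' (β m) :=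
  H321.Ker.hom_eq_of_center (H321.Ker.perfect (by omega)) (f := α.comp φ') (g := φ'.comp β) (fun x => C.cent (by
    show θ (α (φ' x) * (φ' (β x))⁻¹) = 1
    rw [map_mul, map_inv, e, h, mul_inv_cancel])) m

/-- the torus acts through the diagonal matrices -/
theorem exists_diag (hn : 2 ≤ n) {s : YY D r} (hs : s ∈ TT D (KK r)) :
    ∃ h : Matrix.SpecialLinearGroup (Fin (n + 1)) (KK r), φ h ∈ TT D (KK r) ∧
      (∀ m, s * φ m * s⁻¹ = φ (h * m * h⁻¹)) ∧ ∀ a ∈ Rts ev, cX hp (φ h) a = cX hp s a := by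
  -- the action of an arbitrary element of the torus
  have key : ∀ t ∈ TT D (KK r), ∃ d : Fin (n + 1) → (KK r)ˣ, ∀ m, t * φ m * t⁻¹ =
      φ (_root_.Cfsg.Agent.H321.Ker.cj (mono (Equiv.refl _) d) m) := by
    intro t ht
    have hmc := isMC_cX hp ht
    refine ⟨fun i => Units.mk0 (cX hp t (ev i)) (hmc.ne_zero _), fun m => ?_⟩
    have h1 : ((MulAut.conj t).toMonoidHom.comp φ) =
        φ.comp (H321.Ker.cj (mono (Equiv.refl _) fun i => Units.mk0 (cX hp t (ev i)) (hmc.ne_zero _))).toMonoidHom := by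
      refine hom_ext_transvection (by omega) fun i j hij c => ?_
      show t * φ _ * t⁻¹ = φ (H321.Ker.cj _ _)
      rw [H321.Ker.cj_mono, hφ, hφ, xf, xf, T_act ht (fm_root (hp := hp) hev hij), hmc.sub]
      congr 1
      simp only [Equiv.refl_apply, Units.val_mk0, Units.val_inv_eq_inv_val]
      ring
    exact DFunLike.congr_fun h1 m
  have hdd : ∀ d d' : Fin (n + 1) → (KK r)ˣ, mono (Equiv.refl _) d * mono (Equiv.refl _) d' =
      mono (Equiv.refl (Fin (n + 1))) d' * mono (Equiv.refl _) d := by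
    have h0 : ∀ d : Fin (n + 1) → (KK r)ˣ, (mono (Equiv.refl (Fin (n + 1))) d : Matrix _ _ (KK r)) =
        Matrix.diagonal fun i => (d i : KK r) := by
      intro d
      ext i j
      rw [H321.Ker.mono_coe, Matrix.diagonal_apply]
      by_cases hij : i = j
      · subst hij; rfl
      · rw [if_neg hij]
        exact if_neg hij
    intro d d'
    apply Units.ext
    rw [Units.val_mul, Units.val_mul, h0, h0, Matrix.diagonal_mul_diagonal, Matrix.diagonal_mul_diagonal]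
    congr 1
    funext i
    exact mul_comm _ _
  obtain ⟨d, hd⟩ := key s hs
  obtain ⟨μ, hμ⟩ := H321.Ker.exists_root (k := KK r) (m := n + 1) (Nat.succ_pos n)
    (Matrix.GeneralLinearGroup.det (mono (Equiv.refl (Fin (n + 1))) d))⁻¹
  let h : Matrix.SpecialLinearGroup (Fin (n + 1)) (KK r) :=
    ⟨(μ : KK r) • (mono (Equiv.refl (Fin (n + 1))) d : Matrix _ _ (KK r)), by
      rw [Matrix.det_smul, Fintype.card_fin, ← Units.val_pow_eq_pow_val, hμ, ← Matrix.GeneralLinearGroup.val_det_apply,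
        ← Units.val_mul, inv_mul_cancel, Units.val_one]⟩
  have hh : ∀ x : GL (Fin (n + 1)) (KK r), mono (Equiv.refl _) d * x = x * mono (Equiv.refl _) d →
      toGL h * x = x * toGL h := by
    intro x hx
    apply Units.ext
    have := congrArg Units.val hx
    rw [Units.val_mul, Units.val_mul] at this ⊢
    show (μ : KK r) • _ * _ = _ * (μ : KK r) • _
    rw [Matrix.smul_mul, Matrix.mul_smul, this]
  have hcj : ∀ m, H321.Ker.cj (mono (Equiv.refl _) d) m = h * m * h⁻¹ := by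
    intro m
    apply toGL_inj'
    rw [toGL_cj, map_mul, map_mul, map_inv, eq_mul_inv_iff_mul_eq, mul_assoc, mul_assoc]
    have h2 : (mono (Equiv.refl (Fin (n + 1))) d)⁻¹ * toGL h = sc (n + 1) μ := by
      rw [inv_mul_eq_iff_eq_mul]
      apply Units.ext
      show (μ : KK r) • _ = _
      rw [Units.val_mul, H321.Ker.sc_coe, Matrix.mul_smul, mul_one]
    rw [h2, ← H321.Ker.sc_comm, ← mul_assoc, ← h2, mul_inv_cancel_left]
  have hT : φ h ∈ TT D (KK r) := by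
    refine mem_T_of_comm hp fun t ht => ?_
    obtain ⟨d', hd'⟩ := key t ht
    have h1 : H321.Ker.cj (mono (Equiv.refl _) d') h = h := by
      apply toGL_inj'
      rw [toGL_cj, ← hh _ (hdd d d'), mul_inv_cancel_right]
    have h2 := hd' h
    rw [h1] at h2
    exact (mul_inv_eq_iff_eq_mul.1 h2).symm
  have hact : ∀ m, s * φ m * s⁻¹ = φ (h * m * h⁻¹) := fun m => by rw [hd, hcj]
  refine ⟨h, hT, hact, ?_⟩
  rintro _ ⟨i, j, hij, rfl⟩
  have h1 := hact (transvection hij 1)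
  rw [map_mul, map_mul, map_inv, hφ] at h1
  have h2 := cX_eq_one_of_comm (b := s⁻¹ * φ h) (mul_mem (inv_mem hs) hT) (fm_root (hp := hp) hev hij)
    (c := (sgn D l ev i j : KK r) * 1) (mul_ne_zero (sgn_ne_zero hp hev hij) one_ne_zero) (by
      change s⁻¹ * φ h * xf hp ev i j 1 = xf hp ev i j 1 * (s⁻¹ * φ h)
      calc s⁻¹ * φ h * xf hp ev i j 1 = s⁻¹ * (φ h * xf hp ev i j 1 * (φ h)⁻¹) * φ h := by group
        _ = _ := by rw [← h1]; group)
  rw [cX_mul hp (inv_mem hs) hT, cX_inv hs, inv_mul_eq_one₀ ((isMC_cX hp hs).ne_zero _)] at h2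
  exact h2.symm

/-- **Splitting off a component.** -/
theorem dec_step (C : Cov0 p θ) (hr : r.Coprime p) (hn : 2 ≤ n)
    {φ' : Matrix.SpecialLinearGroup (Fin (n + 1)) (KK r) →* L} (h : ∀ m, θ (φ' m) = φ m)
    (hrange : φ'.range = Mh l θ (Rts ev)) {S : Set (Fin l → ℤ)}
    (hS : ∀ a ∈ S, IsRoot M.toCoxeterSystem hp.isCartan a) (hC : Comp D l ev S) {m s : L} (hm : m ∈ Mh l θ S)
    (hs : θ s ∈ TT D (KK r)) : ∃ g, ∃ m' ∈ Mh l θ (S \ Rts ev), ∃ s' : L, θ s' ∈ TT D (KK r) ∧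
      (∀ a ∈ Rts ev, cX hp (θ s') a = 1) ∧ m * s = φ' g * (m' * s') ∧ ∀ u, φ' u * (m' * s') = m' * s' * φ' u := by
  have hS' : ∀ a ∈ S \ Rts ev, IsRoot M.toCoxeterSystem hp.isCartan a := fun a ha => hS a ha.1
  have hc : ∀ u, ∀ m' ∈ Mh l θ (S \ Rts ev), φ' u * m' = m' * φ' u := fun u m' hm' =>
    Mh_comm hp C hr (fun _ => Rts_root hp hev) hS' (fun a ha b hb => hC.2 a ha b hb.1 hb.2) (hrange.le ⟨u, rfl⟩) hm'
  have h1 : ∃ g, ∃ m' ∈ Mh l θ (S \ Rts ev), m = φ' g * m' := by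
    rw [← Set.union_sdiff_cancel hC.1, Mh_union, ← hrange] at hm
    have hn : Mh l θ (S \ Rts ev) ≤ Subgroup.normalizer (φ'.range : Set L) := fun y hy =>
      Subgroup.centralizer_le_normalizer _ (Subgroup.mem_centralizer_iff.2 (by
        rintro _ ⟨u, rfl⟩
        exact hc u y hy))
    have h2 : m ∈ ((φ'.range ⊔ Mh l θ (S \ Rts ev) : Subgroup L) : Set L) := hm
    rw [Subgroup.coe_mul_of_right_le_normalizer_left _ _ hn] at h2
    obtain ⟨_, ⟨g, rfl⟩, m', hm', e⟩ := h2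
    exact ⟨g, m', hm', e.symm⟩
  obtain ⟨g, m', hm', rfl⟩ := h1
  obtain ⟨d, hd, -, hd2⟩ := exists_diag hev hφ hn hs
  have hs' : θ ((φ' d)⁻¹ * s) ∈ TT D (KK r) := by
    rw [map_mul, map_inv, h]
    exact mul_mem (inv_mem hd) hs
  have hs2 : ∀ a ∈ Rts ev, cX hp (θ ((φ' d)⁻¹ * s)) a = 1 := fun a ha => by
    rw [map_mul, map_inv, h, cX_mul hp (inv_mem hd) hs, cX_inv hd, hd2 a ha,
      inv_mul_cancel₀ ((isMC_cX hp hs).ne_zero _)]
  refine ⟨g * d, m', hm', (φ' d)⁻¹ * s, hs', hs2, ?_, fun u => ?_⟩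
  · rw [map_mul, mul_assoc (φ' g) (φ' d), ← mul_assoc (φ' d), hc d m' hm']
    group
  · rw [← mul_assoc, hc u m' hm', mul_assoc,
      T_comm_Mh C hr hs' (fun _ => Rts_root hp hev) hs2 (hrange.le ⟨u, rfl⟩), ← mul_assoc]

/-- the connected centralizer acts on a component by inner automorphisms -/
theorem exists_inner (hn : 2 ≤ n) {Z : Set (YY D r)} (hC : Comp D l ev (Ps hp r Z)) {y : YY D r}
    (hy : y ∈ DZ hp r Z) : ∃ g, ∀ m, y * φ m * y⁻¹ = φ (g * m * g⁻¹) := by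
  obtain ⟨m, hm, s, hs, rfl⟩ := exists_of_DZ (cov0_id 1) (Nat.coprime_one_right r) (x := y) hy
  obtain ⟨g, m', -, s', -, -, e, hc⟩ := dec_step hev hφ (cov0_id 1) (Nat.coprime_one_right r) hn (φ' := φ)
    (fun _ => rfl) ((frame_range hev hφ (by omega)).trans (Mh_id hp fun _ => Rts_root hp hev).symm)
    (fun _ => Ps_root) hC hm hs
  refine ⟨g, fun u => ?_⟩
  rw [e, mul_assoc (φ g), ← hc, map_mul, map_mul, map_inv]
  group

theorem exists_cj (hn : 2 ≤ n) {Z : Set (YY D r)} (hC : Comp D l ev (Ps hp r Z)) {y : YY D r}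
    (hy : y ∈ DZ hp r Z) : ∃ h : GL (Fin (n + 1)) (KK r), ∀ m, y * φ m * y⁻¹ = φ (_root_.Cfsg.Agent.H321.Ker.cj h m) := by
  obtain ⟨g, hg⟩ := exists_inner hev hφ hn hC hy
  refine ⟨toGL g, fun m => ?_⟩
  rw [hg]
  exact congrArg φ (toGL_inj' (by rw [toGL_cj, map_mul, map_mul, map_inv]))

end Frame

section FC

/-- **Change of frame.** -/
theorem frame_change {σ : MulAut (YY D r)} {e : ℕ} {g : (Fin l → ℤ) ≃+ (Fin l → ℤ)} (he : 0 < e) (hσ : IsFrob r e σ)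
    (F : Fr M.toCoxeterSystem hp.isCartan (TT D (KK r)) (XX D l (KK r)) σ g) {x y : YY D r} (hx : σ x = x)
    (ht : y * x * y⁻¹ ∈ TT D (KK r)) : ∃ (y' : YY D r) (g' : (Fin l → ℤ) ≃+ (Fin l → ℤ)),
      y' * x * y'⁻¹ = y * x * y⁻¹ ∧ IsFrob r e (MulAut.conj y' * σ * MulAut.conj y'⁻¹) ∧
      Fr M.toCoxeterSystem hp.isCartan (TT D (KK r)) (XX D l (KK r)) (MulAut.conj y' * σ * MulAut.conj y'⁻¹) g' ∧
      ∀ a ∈ Ps hp r {y * x * y⁻¹}, 0 ≤ a → 0 ≤ g' a := by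
  have := finW hp
  have htL : y * x * y⁻¹ ∈ TL (Tj hp (k := KK r)) := by rw [TLe hp r]; exact ht
  obtain ⟨z', k, g', h1, h2, F', -, h4⟩ := Pair.pair_reduction (tw hp r) (coW hp r) (chW hp r) (GGW hp r) (σ := σ)
    (g := g) (by rw [TLe hp r, XLe hp r]; exact F) hx (z := y⁻¹) (t := y * x * y⁻¹) (by rw [inv_inv]) htL
    (fun k g' F' hk m hm => by
      have h5 := fun a => Fr.mem_Sx (coW hp r) F' htL hk a
      rw [TLe hp r, XLe hp r] at F'
      rw [XLe hp r] at hm ⊢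
      exact lang_fr hp M.toCoxeterSystem he (hσ.conj_mul k) F' (fun _ ha => ha.1) (fun a ha => (h5 a).2 ha) hm)
  rw [TLe hp r, XLe hp r] at F'
  have e1 : MulAut.conj z'⁻¹ * σ * MulAut.conj z'⁻¹⁻¹ = MulAut.conj k * σ := by
    ext1 u
    show z'⁻¹ * σ (z'⁻¹⁻¹ * u * z'⁻¹⁻¹⁻¹) * z'⁻¹⁻¹ = k * σ u * k⁻¹
    simp only [map_mul, map_inv, ← h2]
    group
  refine ⟨z'⁻¹, g', by rw [inv_inv, h1], ?_, ?_, ?_⟩
  · rw [e1]; exact hσ.conj_mul k
  · rw [e1]; exact F'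
  · rw [Ps_eq_Sx]; exact h4

variable {L : Type} [Group L] {θ : L →* YY D r} {p c : ℕ} {X : Type} [Group X] {Q : Subgroup X}

/-- the conjugate setting -/
noncomputable def GS.conj (G : GS hp p c θ X Q) (y : L) (g' : (Fin l → ℤ) ≃+ (Fin l → ℤ))
    (h1 : IsFrob r G.e (MulAut.conj (θ y) * G.σ * MulAut.conj (θ y)⁻¹))
    (h2 : Fr M.toCoxeterSystem hp.isCartan (TT D (KK r)) (XX D l (KK r))
      (MulAut.conj (θ y) * G.σ * MulAut.conj (θ y)⁻¹) g') : GS hp p c θ X Q where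
  e := G.e
  σ := MulAut.conj (θ y) * G.σ * MulAut.conj (θ y)⁻¹
  g := g'
  σL := MulAut.conj y * G.σL * MulAut.conj y⁻¹
  π := (MulAut.conj (θ y)).toMonoidHom.comp G.π
  L0 := G.L0.comap (MulAut.conj y⁻¹).toMonoidHom
  ψ := G.ψ.comp ((MulAut.conj y⁻¹).toMonoidHom.subgroupComap G.L0)
  he := G.he
  frob := h1
  fr := h2
  lift x := by
    show θ (y * G.σL (y⁻¹ * x * y⁻¹⁻¹) * y⁻¹) = θ y * G.σ ((θ y)⁻¹ * θ x * (θ y)⁻¹⁻¹) * (θ y)⁻¹
    simp only [map_mul, map_inv, G.lift]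
  fixπ x := by
    show θ y * G.σ ((θ y)⁻¹ * (θ y * G.π x * (θ y)⁻¹) * (θ y)⁻¹⁻¹) * (θ y)⁻¹ = θ y * G.π x * (θ y)⁻¹
    rw [show (θ y)⁻¹ * (θ y * G.π x * (θ y)⁻¹) * (θ y)⁻¹⁻¹ = G.π x by group, G.fixπ]
  fixL m hm := by
    show y * G.σL (y⁻¹ * m * y⁻¹⁻¹) * y⁻¹ = m
    rw [G.fixL (y⁻¹ * m * y⁻¹⁻¹) hm]
    group
  πψ m := by
    show θ y * G.π (G.ψ ⟨y⁻¹ * m * y⁻¹⁻¹, m.2⟩) * (θ y)⁻¹ = θ m
    rw [G.πψ]
    simp only [map_mul, map_inv]
    group
  eqv x w hw m := by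
    have hw' : θ w = θ y * G.π x * (θ y)⁻¹ := hw
    obtain ⟨h3, h4⟩ := G.eqv x (y⁻¹ * w * y) (by rw [map_mul, map_mul, map_inv, hw']; group) ⟨y⁻¹ * m * y⁻¹⁻¹, m.2⟩
    have e1 : y⁻¹ * (w * m * w⁻¹) * y⁻¹⁻¹ = y⁻¹ * w * y * (y⁻¹ * m * y⁻¹⁻¹) * (y⁻¹ * w * y)⁻¹ := by group
    refine ⟨show y⁻¹ * (w * m * w⁻¹) * y⁻¹⁻¹ ∈ G.L0 from e1 ▸ h3, ?_⟩
    exact (congrArg G.ψ (Subtype.ext e1)).trans h4
  rel u hu hr := by
    refine G.rel (y⁻¹ * u * y⁻¹⁻¹) ?_ ?_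
    · have : y * G.σL (y⁻¹ * u * y⁻¹⁻¹) * y⁻¹ = u := hu
      rw [← mul_left_inj y⁻¹, ← mul_right_inj y, ← mul_assoc, this]
      group
    · obtain ⟨n, hn⟩ := hr
      exact ⟨n, by rw [conj_pow, hn, mul_one, mul_inv_cancel]⟩
  full2 h3 h4 u hu := by
    refine G.full2 h3 h4 (y⁻¹ * u * y⁻¹⁻¹) ?_
    have : y * G.σL (y⁻¹ * u * y⁻¹⁻¹) * y⁻¹ = u := hu
    rw [← mul_left_inj y⁻¹, ← mul_right_inj y, ← mul_assoc, this]
    group
  hc := G.hc
  fin := G.fin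
  loc := G.loc

/-- **Change of frame** for the general setting. -/
theorem GS.exists_conj (C : Cov0 p θ) (G : GS hp p c θ X Q) {x y : YY D r} (hx : G.σ x = x)
    (ht : y * x * y⁻¹ ∈ TT D (KK r)) : ∃ (G' : GS hp p c θ X Q) (w : L), θ w * x * (θ w)⁻¹ = y * x * y⁻¹ ∧
      (∀ d, G'.π d = θ w * G.π d * (θ w)⁻¹) ∧ (∀ u, G'.σL u = w * G.σL (w⁻¹ * u * w) * w⁻¹) ∧
      (∀ u, u ∈ G'.Dh ↔ w⁻¹ * u * w ∈ G.Dh) ∧ (G.Full → G'.Full) ∧ (G.ZK → G'.ZK) ∧ (G'.Ab → G.Ab) ∧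
      ∀ a ∈ Ps hp r {y * x * y⁻¹}, 0 ≤ a → 0 ≤ G'.g a := by
  obtain ⟨y', g', h1, h2, h3, h4⟩ := frame_change G.he G.frob G.fr hx ht
  obtain ⟨w, rfl⟩ := C.surj y'
  have hD : ∀ u, u ∈ (G.conj w g' h2 h3).Dh ↔ w⁻¹ * u * w ∈ G.Dh := by
    intro u
    refine exists_congr fun d => and_congr_right fun _ => ?_
    show θ w * G.π d * (θ w)⁻¹ = θ u ↔ G.π d = θ (w⁻¹ * u * w)
    rw [map_mul, map_mul, map_inv]
    exact ⟨fun h => by rw [← h]; group, fun h => by rw [h]; group⟩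
  refine ⟨G.conj w g' h2 h3, w, h1, fun _ => rfl, fun u => ?_, hD, fun hF u hu => ?_, fun hZ u hu hc => ?_,
    fun hA u hu v hv => ?_, h4⟩
  · show w * G.σL (w⁻¹ * u * w⁻¹⁻¹) * w⁻¹ = _
    rw [inv_inv]
  · refine hF (w⁻¹ * u * w⁻¹⁻¹) ?_
    have : w * G.σL (w⁻¹ * u * w⁻¹⁻¹) * w⁻¹ = u := hu
    rw [← mul_left_inj w⁻¹, ← mul_right_inj w, ← mul_assoc, this]
    group
  · have h5 := hZ _ ((hD u).1 hu) fun v hv => by
      have := hc (w * v * w⁻¹) ((hD _).2 (by rwa [show w⁻¹ * (w * v * w⁻¹) * w = v by group]))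
      calc w⁻¹ * u * w * v = w⁻¹ * (u * (w * v * w⁻¹)) * w := by group
        _ = _ := by rw [this]; group
    rw [map_mul, map_mul, map_inv] at h5
    calc θ u = θ w * ((θ w)⁻¹ * θ u * θ w) * (θ w)⁻¹ := by group
      _ = 1 := by rw [h5]; group
  · have := hA (w * u * w⁻¹) ((hD _).2 (by rwa [show w⁻¹ * (w * u * w⁻¹) * w = u by group]))
      (w * v * w⁻¹) ((hD _).2 (by rwa [show w⁻¹ * (w * v * w⁻¹) * w = v by group]))
    calc u * v = w⁻¹ * (w * u * w⁻¹ * (w * v * w⁻¹)) * w := by group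
      _ = _ := by rw [this]; group

end FC

end Cfsg.Agent.BHZ.Exc

private theorem dce_fd3099990355 : _root_.True := by
  try have : _root_.True := by simp only [_root_.Cfsg.Agent.H46.Gen.xf.eq_1]
  try have : _root_.True := by simp only [_root_.Cfsg.Agent.BpExc.TorCent.Sx.eq_1]
  try have : _root_.True := by simp only [_root_.Cfsg.Agent.H795.SetCent.SxZ.eq_1]
  exact _root_.True.intro
end

-- part: BHZ/Exc/CovIIA
section
prune_inst 0x10305500540000000800000240003c66e2000000006b8800086102040fc88f2200202f20119010034000ae94003c004000100050402000000a008800011d0581042912069158ac04140090801004400000000000000000000000000000000000200000000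
set_option linter.all false
open scoped Cfsg.Agent.FastGrp

/-!
# S4806, exceptional groups (helper25): the universal group of type `E₆` and its maps to `E₆`, `E₇`, `E₈`

* `JE hp ex f j` : `j : St6 r →* YY D r` maps the generators to the root elements of the roots `ex a`;
  `je6` (the covering `th6 r`), `je7`, `je8` (the homomorphisms `j7 r`, `j8 r`);
* `JE.phi`, `JE.tor` (the torus), `JE.inj` (injectivity), `JE.rp` (the Weyl group), `JE.range_eq`, `JE.mem_Sup`;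
* `cov0_six`, `exists_phi`, `tcomm6`, `root6`, `exists_z`.
-/

set_option autoImplicit false

namespace Cfsg.Agent.BHZ.Exc

open CoxeterSystem Cfsg Cfsg.Lie Cfsg.Lie.ChevalleyDatum
open Cfsg.Agent.ChevalleyStructure Cfsg.Agent.ChevalleyStructure.Elts Cfsg.Agent.ChevalleyStructure.CoxeterGeom
  Cfsg.Agent.ChevalleyStructure.CoxeterGeomTypes
open Cfsg.Agent.Tits.Roots Cfsg.Agent.Tits.Core Cfsg.Agent.Nodes Cfsg.Agent.Nodes.Reps Cfsg.Agent.Nodes.BNOf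
  Cfsg.Agent.Nodes.RGDChev Cfsg.Agent.Nodes.Bruhat
open Cfsg.Agent.KFacts.RgdField Cfsg.Agent.KFacts.RgdChevCoord
open Cfsg.Agent.BpExc Cfsg.Agent.BpExc.TorCent Cfsg.Agent.BpExc.TorChev Cfsg.Agent.BpExc.Tow
  Cfsg.Agent.BpExc.TowChev Cfsg.Agent.BpExc.Fr Cfsg.Agent.BpExc.LangFr
open Cfsg.Agent.H469.Exc Cfsg.Agent.H795.SetCent Cfsg.Agent.H129.TorusChar Cfsg.Agent.DS.Ex Cfsg.Agent.DS.Nt
open scoped commutatorElement
open Cfsg.Agent.ChevalleyStructure.StBasic (stn sth stn_eq sth_eq stGen_mul stGen_zero closure_stGen)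
open Cfsg.Agent.ChevalleyStructure.StTheta (theta theta_surjective)
open Cfsg.Agent.ChevalleyStructure.StEmbed (emb67 emb78 ι67 ι78 hom_stGen)
open Cfsg.Agent.H129.StCover (IsPhi ker_theta theta_phi_mem exists_theta_phi theta_stn_simple)

namespace CovII

variable {D : ChevalleyDatum} {l : ℕ} {M : CoxeterMatrix (Fin l)} (hp : IsType D l M) {r : ℕ} [Fact r.Prime]

theorem theta_gen {K : Type} [Field K] {s : ℕ} (hs : s < D.nroots) (c : K) :
    theta hp.inList K (D.stGen K s c) = xc hp (vec D l s) c := by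
  apply Subtype.ext
  rw [coe_xc hp hs]
  exact StTheta.thetaGL_stGen hp.inList s c

theorem theta_n {K : Type} [Field K] {s : ℕ} (hs : s < D.nroots) (c : K) : theta hp.inList K (stn D s c) =
    xc hp (vec D l s) c * xc hp (-vec D l s) (-c⁻¹) * xc hp (vec D l s) c := by
  rw [stn_eq, map_mul, map_mul, theta_gen hp hs, theta_gen hp (NPerm.neg_lt hp.inList hs), vec_neg hp hs]

theorem theta_h {K : Type} [Field K] (i : Fin l) (c : K) : theta hp.inList K (sth D (D.simple i) c) = hc hp i c := by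
  apply Subtype.ext
  apply Units.ext
  rw [StBasic.theta_sth (theta hp.inList K) (fun r t _ => StTheta.theta_stGen hp.inList r t)]
  exact (coe_hG hp.inList _ _).symm

theorem stGen_pow (s : ℕ) (c : KK r) : D.stGen (KK r) s c ^ r = 1 := by
  have h : ∀ n : ℕ, D.stGen (KK r) s c ^ n = D.stGen (KK r) s ((n : KK r) * c) := by
    intro n
    induction n with
    | zero => rw [pow_zero, Nat.cast_zero, zero_mul, stGen_zero]
    | succ n ih => rw [pow_succ, ih, stGen_mul, Nat.cast_succ, add_mul, one_mul]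
  rw [h, CharP.cast_eq_zero, zero_mul, stGen_zero]

/-- `j` maps the generators to the root elements of a subsystem of type `E₆` -/
structure JE (ex : (Fin 6 → ℤ) →+ (Fin l → ℤ)) (f : Fin 6 → Fin l) (j : St6 r →* YY D r) : Prop where
  gen : ∀ s < chevE6.nroots, ∀ c, j (chevE6.stGen (KK r) s c) = xc hp (ex (vec chevE6 6 s)) c
  root : ∀ s < chevE6.nroots, IsRoot M.toCoxeterSystem hp.isCartan (ex (vec chevE6 6 s))
  simple : ∀ i, ex (sr i) = sr (f i)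
  pair : ∀ i x, pairing (cartanOf D l) (f i) (ex x) = pairing (cartanOf chevE6 6) i x

theorem je6 : JE hpE6 (AddMonoidHom.id _) id (th6 r) :=
  ⟨fun _ hs c => theta_gen hpE6 hs c, fun _ hs => isRoot_vec hpE6 _ hs, fun _ => rfl, fun _ _ => rfl⟩

theorem th6_gen {s : ℕ} (hs : s < chevE6.nroots) (c : KK r) :
    th6 r (chevE6.stGen (KK r) s c) = xc hpE6 (vec chevE6 6 s) c := theta_gen hpE6 hs c

theorem ker6 : (th6 r).ker = Subgroup.center (St6 r) := ker_theta hpE6.inList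

section Phi

variable {Φ : (Fin chevE6.rank → (KK r)ˣ) →* St6 r} (hΦ : IsPhi Φ)

include hΦ

theorem exists_phi {u : St6 r} (hu : th6 r u ∈ TT chevE6 (KK r)) : ∃ a, Φ a = u := by
  obtain ⟨a, ha⟩ := exists_theta_phi hΦ hpE6 hu
  obtain ⟨b, hb⟩ := hΦ.center_le (ker6.le (show (Φ a)⁻¹ * u ∈ (th6 r).ker by
    rw [MonoidHom.mem_ker, map_mul, map_inv, show th6 r (Φ a) = th6 r u from ha, inv_mul_cancel]))
  exact ⟨a * b, by rw [map_mul, hb, mul_inv_cancel_left]⟩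

end Phi

theorem expo6 (z : St6 r) (hz : th6 r z = 1) : z ^ 3 = 1 := by
  obtain ⟨Φ, hΦ⟩ := H129.PhiE.isPhi_E6 (KK r)
  have h1 : z ∈ Subgroup.center (St6 r) := ker6.le hz
  obtain ⟨a, rfl⟩ := hΦ.center_le h1
  rw [← map_pow, show a ^ 3 = 1 from funext fun i => H129.StTwT.cen_cube ((hΦ.mem_iff a).1 h1) i, map_one]

theorem tcomm6 (a b : St6 r) (ha : th6 r a ∈ TT chevE6 (KK r)) (hb : th6 r b ∈ TT chevE6 (KK r)) : a * b = b * a := by
  obtain ⟨Φ, hΦ⟩ := H129.PhiE.isPhi_E6 (KK r)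
  obtain ⟨a, rfl⟩ := exists_phi hΦ ha
  obtain ⟨b, rfl⟩ := exists_phi hΦ hb
  rw [← map_mul, mul_comm, map_mul]

theorem root6 (z : St6 r) (hz : th6 r z ∈ TT chevE6 (KK r)) {n : ℕ} (hn : 0 < n) :
    ∃ w : St6 r, th6 r w ∈ TT chevE6 (KK r) ∧ w ^ n = z := by
  obtain ⟨Φ, hΦ⟩ := H129.PhiE.isPhi_E6 (KK r)
  obtain ⟨a, rfl⟩ := exists_phi hΦ hz
  choose b hb using fun i => H321.Ker.exists_root (k := KK r) hn (a i)
  exact ⟨Φ b, theta_phi_mem hpE6.inList hΦ b, by rw [← map_pow, show b ^ n = a from funext hb]⟩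

namespace JE

variable {hp} {ex : (Fin 6 → ℤ) →+ (Fin l → ℤ)} {f : Fin 6 → Fin l} {j : St6 r →* YY D r} (J : JE hp ex f j)

include J

theorem isRoot {a : Fin 6 → ℤ} (ha : IsRoot CoxeterMatrix.E₆.toCoxeterSystem hpE6.isCartan a) :
    IsRoot M.toCoxeterSystem hp.isCartan (ex a) := by
  obtain ⟨s, hs, rfl⟩ := (isRoot_iff hpE6 CoxeterMatrix.E₆.toCoxeterSystem a).1 ha
  exact J.root s hs

theorem map_stn (i : Fin 6) (c : KK r) :
    j (stn chevE6 (chevE6.simple i) c) = theta hp.inList (KK r) (stn D (D.simple (f i)) c) := by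
  have hs := NPerm.simple_lt hpE6.inList (lt_rank hpE6 i)
  rw [theta_n hp (NPerm.simple_lt hp.inList (lt_rank hp (f i))), vec_simple hp, stn_eq, map_mul, map_mul, J.gen _ hs,
    J.gen _ (NPerm.neg_lt hpE6.inList hs), vec_neg hpE6 hs, vec_simple hpE6, map_neg, J.simple]

theorem map_sth (i : Fin 6) (c : KK r) : j (sth chevE6 (chevE6.simple i) c) = hc hp (f i) c := by
  rw [← theta_h hp, sth_eq, sth_eq, map_mul, map_mul, map_inv, map_inv, J.map_stn, J.map_stn]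

theorem phi {Φ : (Fin chevE6.rank → (KK r)ˣ) →* St6 r} (hΦ : IsPhi Φ) (a : Fin 6 → (KK r)ˣ) :
    j (Φ a) ∈ TT D (KK r) ∧ ∀ x, cX hp (j (Φ a)) x = ∏ i, (a i : KK r) ^ pairing (cartanOf D l) (f i) x := by
  rw [← Finset.univ_prod_mulSingle a]
  refine Finset.prod_induction (fun i => (Pi.mulSingle i (a i) : Fin 6 → (KK r)ˣ)) (fun a : Fin 6 → (KK r)ˣ =>
    j (Φ a) ∈ TT D (KK r) ∧ ∀ x, cX hp (j (Φ a)) x = ∏ i, (a i : KK r) ^ pairing (cartanOf D l) (f i) x)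
    (fun b c hb hc => ?_) ?_ fun i _ => ?_
  · have e : j (Φ (b * c)) = j (Φ b) * j (Φ c) := (j.comp Φ).map_mul b c
    refine ⟨by rw [e]; exact mul_mem hb.1 hc.1, fun x => ?_⟩
    rw [e, cX_mul hp hb.1 hc.1, hb.2, hc.2, ← Finset.prod_mul_distrib]
    exact Finset.prod_congr rfl fun i _ => by rw [Pi.mul_apply, Units.val_mul, mul_zpow]
  · have e : j (Φ (1 : Fin 6 → (KK r)ˣ)) = 1 := (j.comp Φ).map_one
    refine ⟨by rw [e]; exact one_mem _, fun x => ?_⟩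
    rw [e, cX_one]
    exact (Finset.prod_eq_one fun i _ => by rw [Pi.one_apply, Units.val_one, one_zpow]).symm
  · have e : j (Φ (Pi.mulSingle i (a i) : Fin 6 → (KK r)ˣ)) = hc hp (f i) (a i : KK r) :=
      (congrArg j (hΦ.single i (a i))).trans (J.map_sth i _)
    refine ⟨by rw [e]; exact hc_mem hp _ (a i).ne_zero, fun x => ?_⟩
    rw [e, H629.ExcTor.cX_hc hp _ (a i).ne_zero, Finset.prod_eq_single i]
    · rw [Pi.mulSingle_eq_same]
    · intro k _ hk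
      rw [Pi.mulSingle_eq_of_ne hk, Units.val_one, one_zpow]
    · intro h
      exact absurd (Finset.mem_univ i) h

/-- the preimage of the torus is mapped to the torus -/
theorem tor {u : St6 r} (hu : th6 r u ∈ TT chevE6 (KK r)) :
    j u ∈ TT D (KK r) ∧ ∀ x, cX hp (j u) (ex x) = cX hpE6 (th6 r u) x := by
  obtain ⟨Φ, hΦ⟩ := H129.PhiE.isPhi_E6 (KK r)
  obtain ⟨a, rfl⟩ := exists_phi hΦ hu
  refine ⟨(J.phi hΦ a).1, fun x => ?_⟩
  rw [(J.phi hΦ a).2, (je6.phi hΦ a).2]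
  exact Finset.prod_congr rfl fun i _ => by rw [J.pair]; rfl

theorem ker_le : j.ker ≤ (th6 r).ker := by
  have hs := (S1054.result (F := KK r) chevE6 (by simp)).1
  have hn : (j.ker.map (th6 r)).Normal := Subgroup.Normal.map inferInstance _ (theta_surjective hpE6.inList)
  rcases hn.eq_bot_or_eq_top with h | h
  · exact (Subgroup.map_eq_bot_iff _).1 h
  · exfalso
    have h0 : (0 : ℕ) < chevE6.nroots := by decide +kernel
    obtain ⟨u, hu, e⟩ := (h.ge (Subgroup.mem_top (th6 r (chevE6.stGen (KK r) 0 1))) : _ ∈ j.ker.map (th6 r))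
    have h1 : th6 r (u⁻¹ * chevE6.stGen (KK r) 0 1) = 1 := by rw [map_mul, map_inv, e, inv_mul_cancel]
    have h3 := (J.tor (u := u⁻¹ * chevE6.stGen (KK r) 0 1) (by rw [h1]; exact one_mem _)).1
    rw [map_mul, map_inv, show j u = 1 from hu, inv_one, one_mul, J.gen 0 h0] at h3
    have h5 : xc hp (ex (vec chevE6 6 0)) (1 : KK r) = 1 := by
      refine cX_inj hp h3 (one_mem _) fun i => ?_
      have h5 := cX_pow hp h3 r (sr i)
      rw [xc_pow, cX_one] at h5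
      have h6 : (cX hp (xc hp (ex (vec chevE6 6 0)) (1 : KK r)) (sr i) - 1) ^ r = 0 := by
        rw [sub_pow_char, ← h5, one_pow, sub_self]
      rw [cX_one]
      exact sub_eq_zero.1 (pow_eq_zero_iff (Fact.out : r.Prime).ne_zero |>.1 h6)
    obtain ⟨s, hs, e⟩ := (isRoot_iff hp M.toCoxeterSystem _).1 (J.root 0 h0)
    rw [← e, ← H46.Gen.xc_zero hp (vec D l s)] at h5
    exact one_ne_zero (xc_inj hp hs h5)

/-- injectivity -/
theorem inj (hd : ∀ k, ∃ x, ∀ i, pairing (cartanOf D l) (f i) x = if i = k then 1 else 0) : Function.Injective j := by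
  obtain ⟨Φ, hΦ⟩ := H129.PhiE.isPhi_E6 (KK r)
  refine (injective_iff_map_eq_one j).2 fun u hu => ?_
  obtain ⟨a, rfl⟩ := exists_phi hΦ (u := u) (by rw [show th6 r u = 1 from J.ker_le hu]; exact one_mem _)
  have h1 : ∀ a : Fin 6 → (KK r)ˣ, j (Φ a) = 1 → a = 1 := by
    intro a hu
    funext k
    obtain ⟨x, hx⟩ := hd k
    have h2 := (J.phi hΦ a).2 x
    rw [hu, cX_one, Finset.prod_eq_single k] at h2
    · rw [hx, if_pos rfl, zpow_one] at h2
      exact Units.ext h2.symm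
    · intro i _ hi
      rw [hx, if_neg hi, zpow_zero]
    · intro h
      exact absurd (Finset.mem_univ k) h
  exact (congrArg Φ (h1 a hu)).trans (map_one Φ)

/-- the Weyl group -/
theorem rp {w : CoxeterMatrix.E₆.Group} {k : St6 r} (hk : RP hpE6 r w (th6 r k)) : ∃ v : M.Group, RP hp r v (j k) ∧
    ∀ x, rep M.toCoxeterSystem hp.isCartan v (ex x) = ex (rep CoxeterMatrix.E₆.toCoxeterSystem hpE6.isCartan w x) := by
  have key : ∀ L : List (Fin 6), ∃ k : St6 r, RP hpE6 r (CoxeterMatrix.E₆.toCoxeterSystem.wordProd L) (th6 r k) ∧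
      ∃ v : M.Group, RP hp r v (j k) ∧ ∀ x, rep M.toCoxeterSystem hp.isCartan v (ex x) =
        ex (rep CoxeterMatrix.E₆.toCoxeterSystem hpE6.isCartan (CoxeterMatrix.E₆.toCoxeterSystem.wordProd L) x) := by
    intro L
    induction L with
    | nil =>
      refine ⟨1, by rw [map_one, wordProd_nil]; exact RP.of_mem (one_mem _), 1,
        by rw [map_one]; exact RP.of_mem (one_mem _), fun x => ?_⟩
      rw [wordProd_nil, map_one, map_one, Module.End.one_apply, Module.End.one_apply]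
    | cons i L ih =>
      obtain ⟨k, h1, v, h2, h3⟩ := ih
      refine ⟨stn chevE6 (chevE6.simple i) 1 * k, ?_, M.toCoxeterSystem.simple (f i) * v, ?_, fun x => ?_⟩
      · rw [wordProd_cons, map_mul]
        refine RP.mul ?_ h1
        rw [show th6 r (stn chevE6 (chevE6.simple i) 1) = nc hpE6 (KK r) i from theta_stn_simple hpE6 i]
        exact rp_simple _ _ i
      · rw [map_mul, J.map_stn, theta_stn_simple hp]
        exact RP.mul (rp_simple _ _ (f i)) h2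
      · rw [wordProd_cons, rep_mul_apply, rep_mul_apply, h3, rep_simple_eq, rep_simple_eq, map_sub, map_zsmul,
          J.simple, J.pair]
  obtain ⟨L, rfl⟩ := CoxeterMatrix.E₆.toCoxeterSystem.wordProd_surjective w
  obtain ⟨k0, h1, v, h2, h3⟩ := key L
  have h4 : th6 r (k0⁻¹ * k) ∈ TT chevE6 (KK r) := by
    rw [map_mul, map_inv]
    exact h1.toT.unique hk.toT
  have h5 := h2.mul (RP.of_mem (hp := hp) (J.tor h4).1)
  rw [mul_one, ← map_mul, mul_inv_cancel_left] at h5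
  exact ⟨v, h5, h3⟩

theorem range_eq : j.range = RGD.Sup (XX D l (KK r))
    (ex '' {a | IsRoot CoxeterMatrix.E₆.toCoxeterSystem hpE6.isCartan a}) := by
  refine le_antisymm ?_ (RGD.Sup_le ?_)
  · rw [MonoidHom.range_eq_map, ← closure_stGen, Subgroup.map_le_iff_le_comap, Subgroup.closure_le]
    rintro _ ⟨s, c, hs, rfl⟩
    show j _ ∈ RGD.Sup _ _
    rw [J.gen s hs]
    exact RGD.le_Sup (X := XX D l (KK r)) (Set.mem_image_of_mem ex (isRoot_vec hpE6 _ hs)) (xc_mem (J.root s hs) c)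
  · rintro _ ⟨a, ha, rfl⟩ y hy
    obtain ⟨c, rfl⟩ := (mem_X (hp := hp) (J.isRoot ha)).1 hy
    obtain ⟨s, hs, rfl⟩ := (isRoot_iff hpE6 CoxeterMatrix.E₆.toCoxeterSystem a).1 ha
    exact ⟨_, J.gen s hs c⟩

/-- the lifts of order `r` of the root elements -/
theorem map_lift (hr : r ≠ 3) {u : St6 r} (hu : u ^ r = 1) {a : Fin 6 → ℤ}
    (ha : IsRoot CoxeterMatrix.E₆.toCoxeterSystem hpE6.isCartan a) {c : KK r} (h : th6 r u = xc hpE6 a c) :
    j u = xc hp (ex a) c := by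
  obtain ⟨s, hs, rfl⟩ := (isRoot_iff hpE6 CoxeterMatrix.E₆.toCoxeterSystem a).1 ha
  rw [lift_unique' ker6.le expo6 (h.trans (th6_gen hs c).symm) hu (stGen_pow s c)
    ((Nat.coprime_primes Fact.out Nat.prime_three).2 hr), J.gen s hs]

theorem mem_Sup (hr : r ≠ 3) {S : Set (Fin 6 → ℤ)}
    (hS : ∀ a ∈ S, IsRoot CoxeterMatrix.E₆.toCoxeterSystem hpE6.isCartan a) {m : St6 r} (hm : m ∈ Mh 6 (th6 r) S) :
    j m ∈ RGD.Sup (XX D l (KK r)) (ex '' S) := by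
  refine Mh_le (H := (RGD.Sup (XX D l (KK r)) (ex '' S)).comap j) (fun u hu a ha h => ?_) hm
  obtain ⟨c, hc⟩ := (mem_X (hp := hpE6) (hS a ha)).1 h
  show j u ∈ RGD.Sup _ _
  rw [J.map_lift hr hu (hS a ha) hc.symm]
  exact RGD.le_Sup (X := XX D l (KK r)) (Set.mem_image_of_mem ex ha) (xc_mem (J.isRoot (hS a ha)) c)

end JE

/-- extension by zero -/
def ex7 : (Fin 6 → ℤ) →+ (Fin 7 → ℤ) where
  toFun x := ![x 0, x 1, x 2, x 3, x 4, x 5, 0]
  map_zero' := by decide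
  map_add' x y := by
    funext i
    fin_cases i <;> rfl

/-- extension by zero -/
def ex8 : (Fin 6 → ℤ) →+ (Fin 8 → ℤ) where
  toFun x := ![x 0, x 1, x 2, x 3, x 4, x 5, 0, 0]
  map_zero' := by decide
  map_add' x y := by
    funext i
    fin_cases i <;> rfl

/-- the nodes -/
def f7 : Fin 6 → Fin 7 := ![0, 1, 2, 3, 4, 5]

/-- the nodes -/
def f8 : Fin 6 → Fin 8 := ![0, 1, 2, 3, 4, 5]

variable (r) in
/-- the homomorphism to the adjoint group of type `E₇` -/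
noncomputable def j7 : St6 r →* YY chevE7 r := (theta hpE7.inList (KK r)).comp (StEmbed.hom emb67 (KK r))

variable (r) in
/-- the homomorphism to the group of type `E₈` -/
noncomputable def j8 : St6 r →* YY chevE8 r :=
  (theta hpE8.inList (KK r)).comp ((StEmbed.hom emb78 (KK r)).comp (StEmbed.hom emb67 (KK r)))

theorem vec7 : ∀ s < chevE6.nroots, vec chevE7 7 (ι67 s) = ex7 (vec chevE6 6 s) := by decide +kernel

theorem vec8 : ∀ s < chevE6.nroots, vec chevE8 8 (ι78 (ι67 s)) = ex8 (vec chevE6 6 s) := by decide +kernel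

theorem car7 : ∀ i k, cartanOf chevE7 7 (f7 i) (f7 k) = cartanOf chevE6 6 i k := by (delta Cfsg.Agent.ChevalleyStructure.CoxeterGeomTypes.cartanOf; rewrite [Cfsg.Agent.ChevFast.E6.cartan, Cfsg.Agent.ChevFast.E7.cartan]; decide +kernel)

theorem car8 : ∀ i k, cartanOf chevE8 8 (f8 i) (f8 k) = cartanOf chevE6 6 i k := by (delta Cfsg.Agent.ChevalleyStructure.CoxeterGeomTypes.cartanOf; rewrite [Cfsg.Agent.ChevFast.E6.cartan, Cfsg.Agent.ChevFast.E8.cartan]; decide +kernel)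

theorem je7 : JE hpE7 ex7 f7 (j7 r) := by
  refine ⟨fun s hs c => ?_, fun s hs => ?_, by decide +kernel, fun i x => ?_⟩
  · rw [← vec7 s hs, ← theta_gen hpE7 (emb67.lt s hs), ← hom_stGen emb67 hs]
    rfl
  · rw [← vec7 s hs]
    exact isRoot_vec hpE7 _ (emb67.lt s hs)
  · unfold pairing
    rw [Fin.sum_univ_seven, Fin.sum_univ_six, ← car7, ← car7, ← car7, ← car7, ← car7, ← car7]
    exact (congrArg _ (mul_zero _)).trans (add_zero _)

theorem je8 : JE hpE8 ex8 f8 (j8 r) := by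
  refine ⟨fun s hs c => ?_, fun s hs => ?_, by decide +kernel, fun i x => ?_⟩
  · rw [← vec8 s hs, ← theta_gen hpE8 (emb78.lt _ (emb67.lt s hs)), ← hom_stGen emb78 (emb67.lt s hs),
      ← hom_stGen emb67 hs]
    rfl
  · rw [← vec8 s hs]
    exact isRoot_vec hpE8 _ (emb78.lt _ (emb67.lt s hs))
  · unfold pairing
    rw [Fin.sum_univ_eight, Fin.sum_univ_six, ← car8, ← car8, ← car8, ← car8, ← car8, ← car8]
    exact ((congrArg _ (mul_zero _)).trans (add_zero _)).trans ((congrArg _ (mul_zero _)).trans (add_zero _))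

theorem dual7 : ∀ k i : Fin 6, pairing (cartanOf chevE7 7) (f7 i) (![![-2, -4, -5, -8, -7, -6, -5],
    ![1, 2, 2, 3, 2, 1, 0], ![-1, -2, -2, -4, -4, -4, -4], ![0, 0, 0, 0, -1, -2, -3], ![0, 0, 0, 0, 0, -1, -2],
    ![0, 0, 0, 0, 0, 0, -1]] k) = if i = k then 1 else 0 := by (delta Cfsg.Agent.ChevalleyStructure.CoxeterGeomTypes.cartanOf; rewrite [Cfsg.Agent.ChevFast.E7.cartan]; decide +kernel)

theorem dual8 : ∀ k i : Fin 6, pairing (cartanOf chevE8 8) (f8 i) (![![-2, -4, -5, -8, -7, -6, -5, 0],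
    ![1, 2, 2, 3, 2, 1, 0, 0], ![-1, -2, -2, -4, -4, -4, -4, 0], ![0, 0, 0, 0, -1, -2, -3, 0],
    ![0, 0, 0, 0, 0, -1, -2, 0], ![0, 0, 0, 0, 0, 0, -1, 0]] k) = if i = k then 1 else 0 := by (delta Cfsg.Agent.ChevalleyStructure.CoxeterGeomTypes.cartanOf; rewrite [Cfsg.Agent.ChevFast.E8.cartan]; decide +kernel)

theorem j7_inj : Function.Injective (j7 r) := je7.inj fun k => ⟨_, dual7 k⟩

theorem j8_inj : Function.Injective (j8 r) := je8.inj fun k => ⟨_, dual8 k⟩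

/-- the elements of the preimage of the torus are determined by their image and one more character -/
theorem ext7 {u v : St6 r} (hu : th6 r u ∈ TT chevE6 (KK r)) (h : th6 r u = th6 r v)
    (h6 : cX hpE7 (j7 r u) (sr 6) = cX hpE7 (j7 r v) (sr 6)) : u = v := by
  have h1 := je7.tor hu
  have h2 := je7.tor (h ▸ hu)
  refine j7_inj (cX_inj hpE7 h1.1 h2.1 fun i => ?_)
  rcases (by decide : ∀ i : Fin 7, i = 6 ∨ ∃ k, i = f7 k) i with rfl | ⟨k, rfl⟩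
  · exact h6
  · rw [← (je7 (r := r)).simple, h1.2, h2.2, h]

theorem exists_z (hr : r ≠ 3) : ∃ z : St6 r, z ≠ 1 ∧ (th6 r).ker = Subgroup.zpowers z := by
  obtain ⟨Φ, hΦ⟩ := H129.PhiE.isPhi_E6 (KK r)
  obtain ⟨ζ, hζ⟩ := exists_prim (p := r) Nat.prime_three hr.symm
  let ω : (KK r)ˣ := Units.mk0 ζ (hζ.ne_zero three_ne_zero)
  have h1 : ω ^ 3 = 1 := Units.ext hζ.pow_eq_one
  have h2 : ω ≠ 1 := fun e => hζ.ne_one (by norm_num) (congrArg Units.val e)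
  have h3 : th6 r (Φ fun i => ω ^ H129.StTwT.kv i) = 1 := ker6.ge ((hΦ.mem_iff _).2 (H129.StTwT.cen_of h1))
  have h4 : (Φ fun i => ω ^ H129.StTwT.kv i) ≠ 1 := fun e =>
    H129.StTwT.cen_ne h2 (hΦ.inj (e.trans (map_one Φ).symm))
  generalize (Φ fun i => ω ^ H129.StTwT.kv i) = z at h3 h4
  refine ⟨z, h4, le_antisymm (fun u hu => ?_) (Subgroup.zpowers_le.2 h3)⟩
  have hT : ∀ {u : St6 r}, th6 r u = 1 → th6 r u ∈ TT chevE6 (KK r) := fun hu => by rw [hu]; exact one_mem _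
  have h5 : ∀ {u : St6 r}, th6 r u = 1 → cX hpE7 (j7 r u) (sr 6) ^ 3 = 1 := fun {u} hu => by
    rw [← cX_pow hpE7 (je7.tor (hT hu)).1, ← map_pow, expo6 u hu, map_one, cX_one]
  have h6 : IsPrimitiveRoot (cX hpE7 (j7 r z) (sr 6)) 3 := by
    have : Fact (Nat.Prime 3) := ⟨Nat.prime_three⟩
    have h7 := orderOf_eq_prime (h5 h3) fun e => h4 (ext7 (hT h3) (h3.trans (map_one _).symm) (by
      rw [e, map_one, cX_one]))
    exact h7 ▸ IsPrimitiveRoot.orderOf _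
  obtain ⟨i, -, hi⟩ := h6.eq_pow_of_pow_eq_one (h5 hu)
  rw [ext7 (v := z ^ i) (hT hu) (by rw [map_pow, h3, one_pow]; exact hu) (by
    rw [map_pow, cX_pow hpE7 (je7.tor (hT h3)).1, hi])]
  exact Subgroup.pow_mem _ (Subgroup.mem_zpowers z) i

theorem cov0_six (hr : r ≠ 3) : Cov0 3 (th6 r) := by
  obtain ⟨z, -, hz⟩ := exists_z hr
  refine ⟨theta_surjective hpE6.inList, ker6.le, expo6, ?_⟩
  rw [hz]
  exact (isOfFinOrder_iff_pow_eq_one.2 ⟨3, three_pos, expo6 z (hz.ge (Subgroup.mem_zpowers z))⟩).finite_zpowers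

end CovII

end Cfsg.Agent.BHZ.Exc
end

-- part: BHZ/Exc/DecA
section
prune_inst 0x30303d044500000000000000c2000024200000001040880019210304034eb2228022a8004980080340008c000004004000100010402000000a00000000010100102a520683480104640090803006400000000000000000000000000000041000000000000
set_option linter.all false
open scoped Cfsg.Agent.FastGrp

-- part: BHZ/Exc/TY
section
/-!
# S4806, exceptional groups: the elements of order `3` of `E₆` with a disconnected centralizer (helper34)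

`boxTY1`, `boxTY2`.
-/

set_option autoImplicit false
set_option linter.unusedSectionVars false
set_option maxRecDepth 100000

namespace Cfsg.Agent.BHZ.Exc

open CoxeterSystem Cfsg Cfsg.Lie Cfsg.Lie.ChevalleyDatum
open Cfsg.Agent.ChevalleyStructure Cfsg.Agent.ChevalleyStructure.Elts Cfsg.Agent.ChevalleyStructure.CoxeterGeom
  Cfsg.Agent.ChevalleyStructure.CoxeterGeomTypes
open Cfsg.Agent.Tits.Roots Cfsg.Agent.Tits.Core Cfsg.Agent.Nodes Cfsg.Agent.Nodes.Reps Cfsg.Agent.Nodes.BNOf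
  Cfsg.Agent.Nodes.RGDChev Cfsg.Agent.Nodes.Bruhat
open Cfsg.Agent.KFacts.RgdField Cfsg.Agent.KFacts.RgdChevCoord
open Cfsg.Agent.BpExc Cfsg.Agent.BpExc.TorCent Cfsg.Agent.BpExc.TorChev Cfsg.Agent.BpExc.Tow
  Cfsg.Agent.BpExc.TowChev Cfsg.Agent.BpExc.Fr Cfsg.Agent.BpExc.LangFr
open Cfsg.Agent.H469.Exc Cfsg.Agent.H795.SetCent Cfsg.Agent.H129.TorusChar Cfsg.Agent.DS.Ex Cfsg.Agent.DS.Nt
open Cfsg.Agent.H46.Gen (AFr Rt xf)
open Cfsg.Agent.H321.Ker (cj stG stm sc)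
open Cfsg.Agent.H931.KC (al)
open Cfsg.Agent.H665.NoPQ (HasDZ)
open scoped MatrixGroups
open Matrix.SpecialLinearGroup (transvection)

namespace TY

open Cfsg.Agent.H92.NE (bl FormOK bl_apply bl_root)
open Cfsg.Agent.H931.KC (mk ct bb Kac mk_perm bl_perm al_inj ok_E6 hr)

/-- the invariant form of `E₆` -/
def B6 : Fin 6 → Fin 6 → ℤ := ![![2, 0, -1, 0, 0, 0], ![0, 2, 0, -1, 0, 0], ![-1, 0, 2, -1, 0, 0],
    ![0, -1, -1, 2, -1, 0], ![0, 0, 0, -1, 2, -1], ![0, 0, 0, 0, -1, 2]]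

theorem okB6 : FormOK chevE6 6 B6 := ok_E6.1

theorem mk63 : ∀ j : Option (Fin 6), mk chevE6 6 j = mk chevE6 6 (some 3) → j = some 3 := by decide +kernel

theorem nb6 : ∀ j : Option (Fin 6), (bl B6 (al chevE6 6 none) (al chevE6 6 j) = -1 ↔ j = some 1) ∧
    (bl B6 (al chevE6 6 (some 0)) (al chevE6 6 j) = -1 ↔ j = some 2) ∧
    (bl B6 (al chevE6 6 (some 5)) (al chevE6 6 j) = -1 ↔ j = some 4) := by decide +kernel

/-- a permutation of order `3` of the extended diagram -/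
theorem perm_cases {π : Equiv.Perm (Option (Fin 6))} (hm : ∀ i, mk chevE6 6 (π i) = mk chevE6 6 i)
    (hb : ∀ i j, bl B6 (al chevE6 6 (π i)) (al chevE6 6 (π j)) = bl B6 (al chevE6 6 i) (al chevE6 6 j))
    (h4 : π none ≠ none) (h5 : π (π (π none)) = none) : (∀ i, π i = rho i) ∨ ∀ i, π (rho i) = i := by
  have h6 := mk6 _ (hm none)
  have h7 := mk6 _ ((hm (π none)).trans (hm none))
  have h8 : π (π none) ≠ none := fun h => h4 (by rw [h] at h5; exact h5)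
  have h9 : π (π none) ≠ π none := fun h => h4 (π.injective h)
  have h3 : π (some 3) = some 3 := mk63 _ (hm _)
  have b1 := (hb none (some 1)).trans ((nb6 _).1.2 rfl)
  have b2 := (hb (some 0) (some 2)).trans ((nb6 _).2.1.2 rfl)
  have b4 := (hb (some 5) (some 4)).trans ((nb6 _).2.2.2 rfl)
  rcases h6 with h6 | h6 | h6
  · exact absurd h6 h4
  · left
    rw [h6] at h5 h7 h8 h9 b1
    have h10 : π (some 0) = some 5 := (h7.resolve_left h8).resolve_left h9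
    rw [h10] at h5 b2
    rw [h5] at b4
    have c1 := (nb6 _).2.1.1 b1
    have c2 := (nb6 _).2.2.1 b2
    have c4 := (nb6 _).1.1 b4
    rintro (_ | i)
    · exact h6
    · fin_cases i
      · exact h10
      · exact c1
      · exact c2
      · exact h3
      · exact c4
      · exact h5
  · right
    rw [h6] at h5 h7 h8 h9 b1
    have h10 : π (some 5) = some 0 := (h7.resolve_left h8).resolve_right h9
    rw [h10] at h5 b4
    rw [h5] at b2
    have c1 := (nb6 _).2.2.1 b1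
    have c2 := (nb6 _).1.1 b2
    have c4 := (nb6 _).2.1.1 b4
    rintro (_ | i)
    · exact h5
    · fin_cases i
      · exact h10
      · exact c2
      · exact c4
      · exact h3
      · exact c1
      · exact h6

variable {r : ℕ} [Fact r.Prime]

theorem fin6 : Finite CoxeterMatrix.E₆.Group := finW hpE6

/-- the elements of `PP` have order dividing `3` -/
theorem pp_three [Finite CoxeterMatrix.E₆.Group] (hr3 : r ≠ 3) {t : YY chevE6 r} (ht : t ∈ TT chevE6 (KK r))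
    (ht3 : t ^ 3 = 1) {y : CoxeterMatrix.E₆.Group}
    (hy : y ∈ PP CoxeterMatrix.E₆.toCoxeterSystem hpE6.isCartan (ch hpE6) t) : y ^ 3 = 1 := by
  have h1 : (⟨y, hy⟩ : ↥(PP CoxeterMatrix.E₆.toCoxeterSystem hpE6.isCartan (ch hpE6) t)) ^ 3 = 1 := by
    rcases card_PP (hp := hpE6) (Or.inr (Or.inl rfl)) Nat.prime_three hr3.symm ht ht3 with h | ⟨h, -⟩
    · rw [(Nat.card_eq_one_iff_unique.1 h).1.elim (_ ^ 3) 1]
    · rw [← h]
      exact pow_card_eq_one'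
  exact congrArg Subtype.val h1

/-- the two classes and the rotation -/
theorem pp6 [Finite CoxeterMatrix.E₆.Group] (hr3 : r ≠ 3) {ζ : KK r} (hζ : IsPrimitiveRoot ζ 3) {t : YY chevE6 r}
    (ht : t ∈ TT chevE6 (KK r)) (ht3 : t ^ 3 = 1) {y : CoxeterMatrix.E₆.Group}
    (hy : y ∈ PP CoxeterMatrix.E₆.toCoxeterSystem hpE6.isCartan (ch hpE6) t) (hy1 : y ≠ 1) :
    ∃ w : CoxeterMatrix.E₆.Group, Rot (w⁻¹ * y * w) ∧
      ((∀ x, cX hpE6 t (rep CoxeterMatrix.E₆.toCoxeterSystem hpE6.isCartan w x) = ζ ^ x 3) ∨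
        ∀ x, cX hpE6 t (rep CoxeterMatrix.E₆.toCoxeterSystem hpE6.isCartan w x) = ζ ^ (x 0 + x 5)) := by
  have hy3 := pp_three hr3 ht ht3 hy
  obtain ⟨w, v, c, c0, π, K, h1, hv, h2, h3, h4⟩ := pp_diag (by norm_num) hζ ht ht3 hy hy1
  have hv3 : v ^ 3 = 1 := by
    have e : v = w⁻¹ * y * w⁻¹⁻¹ := by rw [hv, inv_inv]
    rw [e, conj_pow, hy3, mul_one, mul_inv_cancel]
  have h5 : π (π (π none)) = none := by
    refine al_inj hpE6 ?_
    rw [← h2, ← h2, ← h2, ← rep_mul_apply, ← rep_mul_apply, ← pow_three', hv3, map_one, Module.End.one_apply]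
  have h6 := perm_cases (mk_perm hpE6 h2) (bl_perm hpE6 h2 okB6) h4 h5
  have h12 : c 0 = c0 ∧ c 5 = c0 := by
    rcases h6 with h6 | h6
    · have a1 := h3 none
      have a2 := h3 (some 5)
      rw [h6] at a1 a2
      exact ⟨a1, a2.symm⟩
    · have a1 := h3 (rho none)
      have a2 := h3 (rho (some 5))
      rw [h6] at a1 a2
      exact ⟨a1.symm, a2⟩
  refine ⟨w, ?_, ?_⟩
  · rw [← hv]
    rcases h6 with h6 | h6
    · exact Or.inl fun i => by rw [h2, h6]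
    · exact Or.inr fun i => by rw [h2, h6]
  have hb : ∀ x, bb c x = x 0 * c 0 + x 1 * c 1 + x 2 * c 2 + x 3 * c 3 + x 4 * c 4 + x 5 * c 5 := fun x => by
    show ∑ i, x i * (c i : ℤ) = _
    rw [Fin.sum_univ_six]
  have h14 : (c0 : ℤ) + (c 0 + 2 * c 1 + 2 * c 2 + 3 * c 3 + 2 * c 4 + c 5) = 3 := by
    have h15 := K.sum
    rw [hrE6, Fin.sum_univ_six] at h15
    simpa using h15
  obtain ⟨h15, h16⟩ := h12
  by_cases h17 : c0 = 0
  · left
    have h18 : c 0 = 0 ∧ c 1 = 0 ∧ c 2 = 0 ∧ c 3 = 1 ∧ c 4 = 0 ∧ c 5 = 0 := by omega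
    intro x
    rw [h1, hb, h18.1, h18.2.1, h18.2.2.1, h18.2.2.2.1, h18.2.2.2.2.1, h18.2.2.2.2.2]
    simp
  · right
    have h18 : c 0 = 1 ∧ c 1 = 0 ∧ c 2 = 0 ∧ c 3 = 0 ∧ c 4 = 0 ∧ c 5 = 1 := by omega
    intro x
    rw [h1, hb, h18.1, h18.2.1, h18.2.2.1, h18.2.2.2.1, h18.2.2.2.2.1, h18.2.2.2.2.2]
    simp

/-- the form of an element outside the connected centralizer -/
theorem form6 [Finite CoxeterMatrix.E₆.Group] {t : YY chevE6 r} (ht : t ∈ TT chevE6 (KK r)) {b : YY chevE6 r}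
    (hb : b * t = t * b) (hn : b ∉ DZ hpE6 r {t}) : ∃ m ∈ Mz hpE6 r {t},
      ∃ y ∈ PP CoxeterMatrix.E₆.toCoxeterSystem hpE6.isCartan (ch hpE6) t, y ≠ 1 ∧ ∃ k, RP hpE6 r y k ∧
        k * t = t * k ∧ b = m * k := by
  obtain ⟨m, hm, w, hw, k, h1, h2, h3⟩ := form hpE6 (Set.finite_singleton t) (Set.singleton_subset_iff.2 ht)
    (c := b) fun s hs => by rw [hs, hb]
  refine ⟨m, hm, w, mem_PP_of_PPZ hw, fun h => hn ?_, k, h1, h2 t rfl, h3⟩
  rw [h] at h1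
  rw [h3]
  exact mul_mem (Mz_le_DZ hm) (T_le_DZ h1.mem_T)

theorem pow3_of_cX {ζ : KK r} (hζ : IsPrimitiveRoot ζ 3) {t : YY chevE6 r} (ht : t ∈ TT chevE6 (KK r))
    {f : (Fin 6 → ℤ) → ℤ} (h : ∀ x, cX hpE6 t x = ζ ^ f x) : t ^ 3 = 1 :=
  pow_eq_one_of_cX (hp := hpE6) ht fun x => by
    rw [h, ← zpow_natCast, ← zpow_mul, mul_comm, zpow_mul, zpow_natCast, hζ.pow_eq_one, one_zpow]

end TY

open TY

variable {r : ℕ} [Fact r.Prime]

theorem StdA.pow3 {ζ : KK r} {t : YY chevE6 r} (h : StdA ζ t) : t ^ 3 = 1 :=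
  pow3_of_cX h.1 h.2.1 (f := fun x => x 3) h.2.2

theorem StdD.pow3 {ζ : KK r} {t : YY chevE6 r} (h : StdD ζ t) : t ^ 3 = 1 :=
  pow3_of_cX h.1 h.2.1 (f := fun x => x 0 + x 5) h.2.2

theorem StdA.dd {ζ : KK r} {t : YY chevE6 r} (h : StdA ζ t) : dd r t = 24 :=
  (dd_tor_zpow hpE6 h.2.1 h.1 (f := fun x => x 3) h.2.2).trans (congrArg (6 + ·) nri_E6.2)

theorem StdD.dd {ζ : KK r} {t : YY chevE6 r} (h : StdD ζ t) : dd r t = 30 :=
  (dd_tor_zpow hpE6 h.2.1 h.1 (f := fun x => x 0 + x 5) h.2.2).trans (congrArg (6 + ·) nr05_E6)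

/-- **[TY1]** -/
theorem boxTY1 : BoxTY1 := by
  intro r _ hr3 t ht ht3 b hb hn
  have := fin6
  obtain ⟨ζ, hζ⟩ := exists_prim (p := r) Nat.prime_three hr3.symm
  obtain ⟨m, -, y, hy, hy1, -⟩ := form6 ht hb hn
  obtain ⟨w, -, h⟩ := pp6 hr3 hζ ht ht3 hy hy1
  obtain ⟨k, h1, h2⟩ := exists_move (hp := hpE6) ht w
  rcases h with h | h
  · exact Or.inl ⟨k, ζ, hζ, h1, fun x => by rw [h2, h]⟩
  · exact Or.inr ⟨k, ζ, hζ, h1, fun x => by rw [h2, h]⟩

/-- **[TY2]** -/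
theorem boxTY2 : BoxTY2 := by
  intro r _ hr3 ζ t hs b hb hn
  have := fin6
  have hζ : IsPrimitiveRoot ζ 3 := hs.elim (·.1) (·.1)
  have ht : t ∈ TT chevE6 (KK r) := hs.elim (·.2.1) (·.2.1)
  have ht3 : t ^ 3 = 1 := hs.elim StdA.pow3 StdD.pow3
  obtain ⟨m, hm, y, hy, hy1, k, hk, hkt, rfl⟩ := form6 ht hb hn
  obtain ⟨w, hrot, h⟩ := pp6 hr3 hζ ht ht3 hy hy1
  have hw : ∀ x, cX hpE6 t (rep CoxeterMatrix.E₆.toCoxeterSystem hpE6.isCartan w x) = cX hpE6 t x := by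
    rcases hs with hs | hs <;> rcases h with h | h
    · intro x
      rw [h, hs.2.2]
    · have h1 := (dd_of_kac (hp := hpE6) ht hζ (w := w) (f := fun x => x 0 + x 5) h).trans (congrArg (6 + ·) nr05_E6)
      rw [hs.dd] at h1
      omega
    · have h1 := (dd_of_kac (hp := hpE6) ht hζ (w := w) (f := fun x => x 3) h).trans (congrArg (6 + ·) nri_E6.2)
      rw [hs.dd] at h1
      omega
    · intro x
      rw [h, hs.2.2]
  obtain ⟨n, hn'⟩ := exists_RP hpE6 r w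
  have hnt : n * t = t * n := hn'.comm ht hw
  have hnt' : n⁻¹ * t = t * n⁻¹ := by
    calc n⁻¹ * t = n⁻¹ * (t * n) * n⁻¹ := by group
      _ = n⁻¹ * (n * t) * n⁻¹ := by rw [hnt]
      _ = t * n⁻¹ := by group
  have h1 := ((DZ_one hpE6 (Or.inr (Or.inl rfl)) Nat.prime_three hr3.symm ht ht3).1 k n⁻¹ hkt hnt').1
  obtain ⟨m', hm', s, hs', e⟩ := mem_DZ.1 (mul_mem (Mz_le_DZ hm) h1)
  have h2 := (RP.of_mem (hp := hpE6) hs').mul ((hn'.inv.mul hk).mul hn')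
  rw [one_mul] at h2
  refine ⟨m', hm', _, _, h2, hrot, ?_⟩
  rw [← mul_assoc, ← e]
  group

end Cfsg.Agent.BHZ.Exc
end

-- part: BHZ/Exc/DecA
section
/-!
# S4806, exceptional groups: the three frames of type `A₂` in `E₆` (helper34)

`AA.ev6`, `AA.afr6`, `AA.comp6`, `boxDecA`.
-/

set_option autoImplicit false
set_option linter.unusedSectionVars false
set_option maxRecDepth 100000

namespace Cfsg.Agent.BHZ.Exc

open CoxeterSystem Cfsg Cfsg.Lie Cfsg.Lie.ChevalleyDatum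
open Cfsg.Agent.ChevalleyStructure Cfsg.Agent.ChevalleyStructure.Elts Cfsg.Agent.ChevalleyStructure.CoxeterGeom
  Cfsg.Agent.ChevalleyStructure.CoxeterGeomTypes
open Cfsg.Agent.Tits.Roots Cfsg.Agent.Tits.Core Cfsg.Agent.Nodes Cfsg.Agent.Nodes.Reps Cfsg.Agent.Nodes.BNOf
  Cfsg.Agent.Nodes.RGDChev Cfsg.Agent.Nodes.Bruhat
open Cfsg.Agent.KFacts.RgdField Cfsg.Agent.KFacts.RgdChevCoord
open Cfsg.Agent.BpExc Cfsg.Agent.BpExc.TorCent Cfsg.Agent.BpExc.TorChev Cfsg.Agent.BpExc.Tow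
  Cfsg.Agent.BpExc.TowChev Cfsg.Agent.BpExc.Fr Cfsg.Agent.BpExc.LangFr
open Cfsg.Agent.H469.Exc Cfsg.Agent.H795.SetCent Cfsg.Agent.H129.TorusChar Cfsg.Agent.DS.Ex Cfsg.Agent.DS.Nt
open Cfsg.Agent.H46.Gen (AFr Rt xf)
open Cfsg.Agent.H321.Ker (cj stG stm sc)
open Cfsg.Agent.H931.KC (al)
open Cfsg.Agent.H665.NoPQ (HasDZ)
open scoped MatrixGroups
open Matrix.SpecialLinearGroup (transvection)

namespace AA

open TY
open Cfsg.Agent.H92.NE (bl FormOK bl_apply bl_root bl_comm bl_add_left)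
open Cfsg.Agent.H46.Gen (Pr afr_of_pair rt_iff)

/-- the three frames -/
def ev6 : Fin 3 → Fin 3 → Fin 6 → ℤ :=
  ![![![-1, -2, -2, -3, -2, -1], ![0, 0, 0, 0, 0, 0], ![0, -1, 0, 0, 0, 0]],
    ![![1, 0, 0, 0, 0, 0], ![0, 0, 0, 0, 0, 0], ![0, 0, -1, 0, 0, 0]],
    ![![0, 0, 0, 0, 0, 1], ![0, 0, 0, 0, 0, 0], ![0, 0, 0, 0, -1, 0]]]

theorem chk1 : ∀ s : Fin chevE6.nroots, (3 : ℤ) ∣ vec chevE6 6 s 3 →
    ∃ j i i' : Fin 3, i ≠ i' ∧ ∀ m, vec chevE6 6 s m = ev6 j i m - ev6 j i' m := by decide +kernel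

theorem chk2 : ∀ j i i' : Fin 3, i ≠ i' → (3 : ℤ) ∣ ev6 j i 3 - ev6 j i' 3 ∧
    ∃ s : Fin chevE6.nroots, ∀ m, vec chevE6 6 s m = ev6 j i m - ev6 j i' m := by decide +kernel

/-- the Gram table of the frames -/
private def gT (j i j' k : Fin 3) : ℤ :=
  if j.val = j'.val then (if i.val = 1 then 0 else if k.val = 1 then 0 else if i.val = k.val then 2 else 1) else 0

private theorem gT_ok : ∀ j i j' k : Fin 3, bl B6 (ev6 j i) (ev6 j' k) = gT j i j' k := by decide +kernel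

private theorem bl_gT (j j' i i' k k' : Fin 3) : bl B6 (ev6 j i - ev6 j i') (ev6 j' k - ev6 j' k') =
    gT j i j' k - gT j i' j' k - (gT j i j' k' - gT j i' j' k') := by
  rw [map_sub, Cfsg.Agent.H92.NE.bl_sub_left okB6.1, Cfsg.Agent.H92.NE.bl_sub_left okB6.1, gT_ok, gT_ok, gT_ok, gT_ok]

theorem chk3 : ∀ j j' i i' k k' : Fin 3, j ≠ j' → bl B6 (ev6 j i - ev6 j i') (ev6 j' k - ev6 j' k') = 0 := by
  intro j j' i i' k k' h
  have h' : ¬ j.val = j'.val := fun e => h (Fin.ext e)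
  rw [bl_gT]
  simp only [gT, if_neg h', sub_self]

theorem chk4 : ∀ j j' i i' k k' : Fin 3, i ≠ i' → k ≠ k' →
    bl B6 (ev6 j i - ev6 j i') (ev6 j' k - ev6 j' k') = -1 → j' = j ∧ ((i' = k ∧ i ≠ k') ∨ (i = k' ∧ i' ≠ k)) := by
  have key : ∀ i i' k k' : Fin 3, i ≠ i' → k ≠ k' →
      gT 0 i 0 k - gT 0 i' 0 k - (gT 0 i 0 k' - gT 0 i' 0 k') = -1 → (i' = k ∧ i ≠ k') ∨ (i = k' ∧ i' ≠ k) := by
    decide +kernel
  intro j j' i i' k k' h1 h2 h3
  by_cases h : j = j'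
  · subst h
    rw [bl_gT] at h3
    exact ⟨rfl, key i i' k k' h1 h2 (by simpa only [gT, if_pos rfl] using h3)⟩
  · rw [chk3 j j' i i' k k' h] at h3
    exact absurd h3 (by decide)

theorem chk5 : ∀ j : Fin 3, bl B6 (ev6 j 0 - ev6 j 1) (ev6 j 1 - ev6 j 2) = -1 := by decide +kernel

theorem ev6_al : (∀ m, ev6 0 0 m = al chevE6 6 none m) ∧ (∀ m, ev6 1 0 m = al chevE6 6 (some 0) m) ∧
    (∀ m, ev6 2 0 m = al chevE6 6 (some 5) m) ∧ (∀ m, ev6 0 2 m = -al chevE6 6 (some 1) m) ∧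
    (∀ m, ev6 1 2 m = -al chevE6 6 (some 2) m) ∧ (∀ m, ev6 2 2 m = -al chevE6 6 (some 4) m) ∧
    ∀ j m, ev6 j 1 m = 0 := by decide +kernel

theorem symB : ∀ i j, B6 i j = B6 j i := okB6.1

theorem bl_rt {a : Fin 6 → ℤ} (ha : Rt chevE6 6 a) : bl B6 a a = 2 :=
  bl_root hpE6 okB6 (c := 2) (by decide) ((rt_iff hpE6 CoxeterMatrix.E₆.toCoxeterSystem).1 ha)

theorem bl_comb (a b : Fin 6 → ℤ) (m n : ℤ) :
    bl B6 (m • a + n • b) (m • a + n • b) = m * m * bl B6 a a + 2 * m * n * bl B6 a b + n * n * bl B6 b b := by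
  rw [map_add, map_zsmul, map_zsmul, bl_comm symB a, bl_comm symB b, map_add, map_add, map_zsmul, map_zsmul, map_zsmul,
    map_zsmul, bl_comm symB a b]
  simp only [smul_eq_mul]
  ring

theorem rt6 (j : Fin 3) {i i' : Fin 3} (h : i ≠ i') : Rt chevE6 6 (ev6 j i - ev6 j i') := by
  obtain ⟨-, s, hs⟩ := chk2 j i i' h
  exact ⟨s, s.2, funext hs⟩

theorem so_of_bl {a b : Fin 6 → ℤ} (ha : Rt chevE6 6 a) (hb : Rt chevE6 6 b) (h : bl B6 a b = 0) : SO chevE6 6 a b := by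
  refine ⟨fun e => ?_, fun m n hm hn hR => ?_⟩
  · rw [e, map_neg, bl_rt ha] at h
    omega
  · have h1 := bl_rt hR
    rw [bl_comb, bl_rt ha, bl_rt hb, h] at h1
    have h2 : (1 : ℤ) ≤ m := by exact_mod_cast hm
    have h3 : (1 : ℤ) ≤ n := by exact_mod_cast hn
    nlinarith

theorem afr6 (j : Fin 3) : AFr chevE6 6 (ev6 j) := by
  have ha := rt6 j (show (0 : Fin 3) ≠ 1 by decide)
  have hb := rt6 j (show (1 : Fin 3) ≠ 2 by decide)
  have key : ∀ m n : ℤ, Rt chevE6 6 (m • (ev6 j 0 - ev6 j 1) + n • (ev6 j 1 - ev6 j 2)) →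
      m * m * 2 + 2 * m * n * (-1) + n * n * 2 = 2 := fun m n h => by
    have h1 := bl_rt h
    rwa [bl_comb, bl_rt ha, bl_rt hb, chk5] at h1
  refine afr_of_pair hpE6 ⟨ha, hb, ?_, fun h => ?_, fun h => ?_, fun h => ?_⟩
  · rw [sub_add_sub_cancel]
    exact rt6 j (by decide)
  · have h1 := key (-1) 1 (by convert h using 1; module)
    omega
  · have h1 := key 2 1 (by convert h using 1; module)
    omega
  · have h1 := key 1 2 (by convert h using 1; module)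
    omega

theorem so6 {j j' : Fin 3} (h : j ≠ j') {a b : Fin 6 → ℤ} (ha : a ∈ Rts (ev6 j)) (hb : b ∈ Rts (ev6 j')) :
    SO chevE6 6 a b := by
  obtain ⟨i, i', h1, rfl⟩ := ha
  obtain ⟨k, k', h2, rfl⟩ := hb
  exact so_of_bl (rt6 j h1) (rt6 j' h2) (chk3 j j' i i' k k' h)

theorem disj6 {j j' : Fin 3} (h : j ≠ j') {a : Fin 6 → ℤ} (ha : a ∈ Rts (ev6 j)) : a ∉ Rts (ev6 j') := by
  rintro ⟨k, k', h2, e⟩
  obtain ⟨i, i', h1, e'⟩ := ha
  have h3 := chk3 j j' i i' k k' h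
  rw [← e, ← e', bl_rt (e' ▸ rt6 j h1)] at h3
  omega

variable {r : ℕ} [Fact r.Prime] {ζ : KK r} {t : YY chevE6 r}

theorem mem_PsA (h : StdA ζ t) {a : Fin 6 → ℤ} : a ∈ Ps hpE6 r {t} ↔ ∃ j, a ∈ Rts (ev6 j) := by
  rw [mem_Ps_one h.2.1, h.2.2, h.1.zpow_eq_one_iff_dvd, ← rt_iff hpE6]
  constructor
  · rintro ⟨⟨s, hs, rfl⟩, h1⟩
    obtain ⟨j, i, i', h2, h3⟩ := chk1 ⟨s, hs⟩ h1
    exact ⟨j, i, i', h2, funext h3⟩
  · rintro ⟨j, i, i', h1, rfl⟩
    exact ⟨rt6 j h1, (chk2 j i i' h1).1⟩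

theorem comp_of (h : StdA ζ t) (j : Fin 3) {S : Set (Fin 6 → ℤ)} (h1 : Rts (ev6 j) ⊆ S) (h2 : S ⊆ Ps hpE6 r {t}) :
    Comp chevE6 6 (ev6 j) S := by
  refine ⟨h1, fun a ha b hb hn => ?_⟩
  obtain ⟨j', h3⟩ := (mem_PsA h).1 (h2 hb)
  exact so6 (fun e : j = j' => hn (by rw [e]; exact h3)) ha h3

theorem sub6 (h : StdA ζ t) (j : Fin 3) : Rts (ev6 j) ⊆ Ps hpE6 r {t} := fun _ ha => (mem_PsA h).2 ⟨j, ha⟩

theorem comp6 (h : StdA ζ t) (j : Fin 3) : Comp chevE6 6 (ev6 j) (Ps hpE6 r {t}) := comp_of h j (sub6 h j) le_rfl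

end AA

open AA

/-- **[DecA]** -/
theorem boxDecA : BoxDecA := by
  intro r _ ζ t h
  refine Dec.step _ 2 (ev6 0) (afr6 0) le_rfl (fun _ => rfl) (comp6 h 0) ?_
  refine Dec.step _ 2 (ev6 1) (afr6 1) le_rfl (fun _ => rfl)
    (comp_of h 1 (fun a ha => ⟨sub6 h 1 ha, disj6 (by decide) ha⟩) Set.sdiff_subset) ?_
  refine Dec.step _ 2 (ev6 2) (afr6 2) le_rfl (fun _ => rfl)
    (comp_of h 2 (fun a ha => ⟨⟨sub6 h 2 ha, disj6 (by decide) ha⟩, disj6 (by decide) ha⟩)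
      (Set.sdiff_subset.trans Set.sdiff_subset)) ?_
  refine Dec.base _ (Set.eq_empty_of_forall_notMem ?_)
  rintro a ⟨⟨⟨h0, h1⟩, h2⟩, h3⟩
  obtain ⟨j, hj⟩ := (mem_PsA h).1 h0
  fin_cases j
  · exact h1 hj
  · exact h2 hj
  · exact h3 hj

end Cfsg.Agent.BHZ.Exc
end
end

-- part: BHZ/Exc/CovIA
section
prune_inst 0x10105d004500000000180012c0003c26a2000000106b880108a103040f888b222023af0119d010034010aac00034004000100040400000000a00020000000100100802048148a004000090801004400000000000000000000000000000000000000000000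
set_option linter.all false
open scoped Cfsg.Agent.FastGrp

/-!
# S4806, exceptional groups: general lemmas for `Triv` and `Dec` (helper56)

* `det_sum` : the sum of the roots of a level set of a functional vanishing on `S` is trivial on `T ⊓ ⟨X a | a ∈ S⟩`;
* `Cert`, `eq_one_of_cert`, `triv_of_cert` : a lattice criterion for `Triv`;
* `Triv.conj`, `Dec.map`, `dec_of_kac` : invariance under the Weyl group;
* `conn_of_nmk`, `conn_D4` : connected centralizers.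
-/

set_option autoImplicit false

namespace Cfsg.Agent.BHZ.Exc.CovI

open CoxeterSystem Cfsg Cfsg.Lie Cfsg.Lie.ChevalleyDatum
open Cfsg.Agent.ChevalleyStructure Cfsg.Agent.ChevalleyStructure.Elts Cfsg.Agent.ChevalleyStructure.CoxeterGeom
  Cfsg.Agent.ChevalleyStructure.CoxeterGeomTypes
open Cfsg.Agent.Tits.Roots Cfsg.Agent.Tits.Core Cfsg.Agent.Nodes Cfsg.Agent.Nodes.Reps Cfsg.Agent.Nodes.BNOf
  Cfsg.Agent.Nodes.RGDChev Cfsg.Agent.Nodes.Bruhat
open Cfsg.Agent.KFacts.RgdField Cfsg.Agent.KFacts.RgdChevCoord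
open Cfsg.Agent.BpExc Cfsg.Agent.BpExc.TorCent Cfsg.Agent.BpExc.TorChev Cfsg.Agent.BpExc.Tow
  Cfsg.Agent.BpExc.TowChev Cfsg.Agent.BpExc.Fr Cfsg.Agent.BpExc.LangFr
open Cfsg.Agent.H469.Exc Cfsg.Agent.H795.SetCent Cfsg.Agent.H129.TorusChar Cfsg.Agent.DS.Ex Cfsg.Agent.DS.Nt
open Cfsg.Agent.H46.Gen (AFr Rt Pr rt_iff)
open Cfsg.Agent.H931.KC (Kac bb)

section Det

variable {I K : Type*} [Fintype I] [DecidableEq I] [Field K]

theorem entry_eq_zero {w : I → K} {A : Matrix I I K} (h : A * Matrix.diagonal w = Matrix.diagonal w * A) {i j : I}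
    (hij : w i ≠ w j) : A i j = 0 := by
  have h1 := congrFun (congrFun h i) j
  rw [Matrix.mul_diagonal, Matrix.diagonal_mul, mul_comm] at h1
  by_contra h2
  exact hij (mul_right_cancel₀ h2 h1).symm

theorem block_mul {w : I → K} {A : Matrix I I K} (h : A * Matrix.diagonal w = Matrix.diagonal w * A) (B : Matrix I I K)
    (q : I → Prop) [DecidablePred q] {u : K} (hq : ∀ i, q i ↔ w i = u) :
    (A * B).toBlock q q = A.toBlock q q * B.toBlock q q := by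
  rw [Matrix.toBlock_mul_eq_add q q q A B]
  have h1 : A.toBlock q (fun i => ¬ q i) = 0 := by
    ext i j
    exact entry_eq_zero h fun e => j.2 ((hq j).2 (e ▸ (hq i).1 i.2))
  rw [h1, Matrix.zero_mul, add_zero]

end Det

/-- the sum of the roots of a level set -/
def lvl (D : ChevalleyDatum) (l : ℕ) (g : (Fin l → ℤ) →+ ℤ) (k : ℤ) : Fin l → ℤ :=
  ∑ s ∈ (Finset.range D.nroots).filter fun s => g (vec D l s) = k, vec D l s

/-- the lattice criterion -/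
def Cert (D : ChevalleyDatum) (l p : ℕ) (S : Set (Fin l → ℤ)) : Prop :=
  ∀ H : AddSubgroup (Fin l → ℤ), (∀ a ∈ S, a ∈ H) → (∀ (d : ℤ) (x : Fin l → ℤ), ¬ (p : ℤ) ∣ d → d • x ∈ H → x ∈ H) →
    (∀ g : (Fin l → ℤ) →+ ℤ, (∀ a ∈ S, g a = 0) → ∀ k, lvl D l g k ∈ H) → ∀ i, sr i ∈ H

/-- the roots of the centralizer of the element with the Kac coordinates `c` -/
def SK (D : ChevalleyDatum) (l p : ℕ) (c : Fin l → ℕ) : Set (Fin l → ℤ) := {a | Rt D l a ∧ (p : ℤ) ∣ bb c a}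

variable {D : ChevalleyDatum} {l : ℕ} {M : CoxeterMatrix (Fin l)} {hp : IsType D l M} {r : ℕ} [Fact r.Prime]

theorem exists_sep (r : ℕ) [Fact r.Prime] (B : ℕ) : ∃ u : KK r, u ≠ 0 ∧ ∀ x : ℤ, |x| ≤ B → u ^ x = 1 → x = 0 := by
  have hr : r.Prime := Fact.out
  have h1 : ((r * B + 1 : ℕ) : KK r) ≠ 0 := by
    rw [Nat.cast_add, Nat.cast_mul, CharP.cast_eq_zero, zero_mul, zero_add, Nat.cast_one]
    exact one_ne_zero
  have : NeZero ((r * B + 1 : ℕ) : KK r) := ⟨h1⟩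
  obtain ⟨u, hu⟩ := HasEnoughRootsOfUnity.exists_primitiveRoot (KK r) (r * B + 1)
  refine ⟨u, hu.ne_zero (Nat.succ_ne_zero _), fun x hx h => ?_⟩
  refine Int.eq_zero_of_abs_lt_dvd ((hu.zpow_eq_one_iff_dvd x).1 h) ?_
  have h2 : (B : ℤ) ≤ r * B := by exact_mod_cast Nat.le_mul_of_pos_left B hr.pos
  push_cast
  omega

/-- **The determinant on a level set.** -/
theorem det_sum {S : Set (Fin l → ℤ)} (hS : ∀ a ∈ S, IsRoot M.toCoxeterSystem hp.isCartan a)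
    (g : (Fin l → ℤ) →+ ℤ) (hg : ∀ a ∈ S, g a = 0) (k : ℤ) {c : YY D r} (hc : c ∈ RGD.Sup (XX D l (KK r)) S)
    (hT : c ∈ TT D (KK r)) : cX hp c (lvl D l g k) = 1 := by
  classical
  obtain ⟨u, hu0, hu⟩ := exists_sep r (∑ s : Fin D.nroots, (g (vec D l s) - k).natAbs)
  obtain ⟨t, ht, hχ⟩ := exists_tor' hp (isMC_zpow hu0 g)
  let q : D.Idx → Prop := fun j => wtc hp t j = u ^ k
  have hq : ∀ s : Fin D.nroots, q (Sum.inr s) ↔ g (vec D l s) = k := fun s => by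
    show cX hp t (vec D l s) = u ^ k ↔ _
    rw [hχ]
    refine ⟨fun h => sub_eq_zero.1 (hu _ ?_ (by rw [zpow_sub₀ hu0, h, div_self (zpow_ne_zero _ hu0)])), fun h => by rw [h]⟩
    rw [Int.abs_eq_natAbs]
    exact_mod_cast Finset.single_le_sum (f := fun s : Fin D.nroots => (g (vec D l s) - k).natAbs)
      (fun _ _ => Nat.zero_le _) (Finset.mem_univ s)
  let mt : YY D r → Matrix D.Idx D.Idx (KK r) := fun y => ((y : GL D.Idx (KK r)) : Matrix D.Idx D.Idx (KK r))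
  have hmul : ∀ a b, mt (a * b) = mt a * mt b := fun _ _ => rfl
  have hd : ∀ y ∈ TT D (KK r), mt y = Matrix.diagonal (wtc hp y) := fun y hy => H83.RootCount.coe_eq_diagonal hp hy
  let f : Subgroup.centralizer ({t} : Set (YY D r)) →* KK r :=
    { toFun := fun y => ((mt y).toBlock q q).det
      map_one' := by
        show ((1 : Matrix D.Idx D.Idx (KK r)).toBlock q q).det = 1
        rw [Matrix.toBlock_one_self, Matrix.det_one]
      map_mul' := fun a b => by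
        show ((mt (a * b)).toBlock q q).det = _
        rw [hmul, block_mul (w := wtc hp t) (by
          rw [← hd t ht, ← hmul, ← hmul, Subgroup.mem_centralizer_singleton_iff.1 a.2]) _ q (fun _ => Iff.rfl),
          Matrix.det_mul] }
  have h1 : RGD.Sup (XX D l (KK r)) S ≤ f.toHomUnits.ker.map (Subgroup.centralizer ({t} : Set (YY D r))).subtype := by
    refine RGD.Sup_le fun a ha y hy => ?_
    have h2 : y ∈ Subgroup.centralizer ({t} : Set (YY D r)) := Subgroup.mem_centralizer_singleton_iff.2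
      (comm_X ht (hS a ha) (by rw [hχ, hg a ha, zpow_zero]) hy).symm
    refine ⟨⟨y, h2⟩, Units.ext ?_, rfl⟩
    show f ⟨y, h2⟩ = 1
    have h3 : f ⟨y, h2⟩ ^ r = 1 := by
      rw [← map_pow, show (⟨y, h2⟩ : Subgroup.centralizer ({t} : Set (YY D r))) ^ r = 1 from
        Subtype.ext (X_pow hp (hS a ha) hy), map_one]
    have h4 : (f ⟨y, h2⟩ - 1) ^ r = 0 := by rw [sub_pow_char, h3, one_pow, sub_self]
    exact sub_eq_zero.1 (pow_eq_zero_iff (Fact.out : r.Prime).ne_zero |>.1 h4)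
  obtain ⟨y, hy, rfl⟩ := h1 hc
  have h2 : ((mt y).toBlock q q).det = 1 := congrArg Units.val hy
  rw [hd y hT, Matrix.toBlock_diagonal_self, Matrix.det_diagonal,
    ← Finset.prod_subtype (Finset.univ.filter q) (fun j => by simp) (wtc hp (y : YY D r)), Finset.prod_filter,
    Fintype.prod_sum_type, Finset.prod_eq_one (fun j _ => by split_ifs <;> rfl), one_mul] at h2
  unfold lvl
  rw [(isMC_cX hp hT).sum, Finset.prod_filter, Finset.prod_range]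
  exact (Finset.prod_congr rfl fun s _ => if_congr (hq s).symm rfl rfl).trans h2

/-- **The lattice criterion**, in the adjoint group. -/
theorem eq_one_of_cert {p : ℕ} (hpp : p.Prime) {S : Set (Fin l → ℤ)} (hS : ∀ a ∈ S, IsRoot M.toCoxeterSystem hp.isCartan a)
    (h : Cert D l p S) {c : YY D r} (hc : c ∈ RGD.Sup (XX D l (KK r)) S) (hT : c ∈ TT D (KK r))
    (h1 : ∀ a ∈ S, cX hp c a = 1) {n : ℕ} (hn : c ^ p ^ n = 1) : c = 1 := by
  have hm := isMC_cX hp hT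
  let H : AddSubgroup (Fin l → ℤ) :=
    { carrier := {x | cX hp c x = 1}
      zero_mem' := hm.zero
      add_mem' := fun {x y} hx hy => by
        show cX hp c (x + y) = 1
        rw [hm.add, show cX hp c x = 1 from hx, show cX hp c y = 1 from hy, one_mul]
      neg_mem' := fun {x} hx => by
        show cX hp c (-x) = 1
        rw [hm.neg, show cX hp c x = 1 from hx, inv_one] }
  refine cX_inj hp hT (one_mem _) fun i => ?_
  rw [cX_one]
  refine h H h1 (fun d x hd hx => ?_) (fun g hg k => det_sum hS g hg k hc hT) i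
  have h2 : cX hp c x ^ d = 1 := by rw [← hm.zsmul]; exact hx
  have h3 : cX hp c x ^ p ^ n = 1 := by rw [← cX_pow hp hT, hn, cX_one]
  have h4 : cX hp c x ^ d.natAbs = 1 := by
    rcases Int.natAbs_eq d with e | e
    · rwa [e, zpow_natCast] at h2
    · rwa [e, zpow_neg, zpow_natCast, inv_eq_one] at h2
  have h5 := pow_gcd_eq_one.2 ⟨h4, h3⟩
  rwa [(Nat.Coprime.pow_right n (((Nat.Prime.coprime_iff_not_dvd hpp).2 fun e => hd (Int.natCast_dvd.2 e)).symm)).gcd_eq_one,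
    pow_one] at h5

theorem triv_of_cert {p : ℕ} (hpp : p.Prime) {S : Set (Fin l → ℤ)}
    (hS : ∀ a ∈ S, IsRoot M.toCoxeterSystem hp.isCartan a) (h : Cert D l p S) :
    Triv hp p (MonoidHom.id (YY D r)) S :=
  fun _ hc hT h1 _ hn => eq_one_of_cert hpp hS h (θ_mem_Sup hc) hT h1 hn

section Conj

variable {L : Type} [Group L] {θ : L →* YY D r} {p : ℕ}

/-- **`Triv` is invariant under the Weyl group.** -/
theorem triv_conj (hs : Function.Surjective θ) {S : Set (Fin l → ℤ)}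
    (hS : ∀ a ∈ S, IsRoot M.toCoxeterSystem hp.isCartan a) (h : Triv hp p θ S) (w : M.Group) :
    Triv hp p θ (repAut M.toCoxeterSystem hp.isCartan w '' S) := by
  intro c hc hT h1 n hn
  obtain ⟨k₀, hk⟩ := exists_RP hp r w⁻¹
  obtain ⟨k, rfl⟩ := hs k₀
  have e : θ (k * c * k⁻¹) = θ k * θ c * (θ k)⁻¹ := by rw [map_mul, map_mul, map_inv]
  have h2 := h (k * c * k⁻¹) (RP_Mh hk (by
      rintro _ ⟨a, ha, rfl⟩
      exact (hS a ha).act w) (by
      rintro _ ⟨a, ha, rfl⟩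
      show rep _ _ w⁻¹ (rep _ _ w a) ∈ S
      rwa [rep_inv_apply]) hc) (by rw [e]; exact hk.conj_mem hT) (fun a ha => by
      have h3 := hk.cX hT (rep M.toCoxeterSystem hp.isCartan w a)
      rw [rep_inv_apply] at h3
      rw [e, h3]
      exact h1 _ ⟨a, ha, rfl⟩) n (by rw [conj_pow, hn, mul_one, mul_inv_cancel])
  calc c = k⁻¹ * (k * c * k⁻¹) * k := by group
    _ = 1 := by rw [h2, mul_one, inv_mul_cancel]

end Conj

section Map

variable {e : (Fin l → ℤ) ≃+ (Fin l → ℤ)} (he : ∀ a, Rt D l (e a) ↔ Rt D l a)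

include he

theorem so_map {a b : Fin l → ℤ} (h : SO D l a b) : SO D l (e a) (e b) :=
  ⟨fun h1 => h.1 (e.injective (by rw [h1, map_neg])), fun m n hm hn h1 => h.2 m n hm hn ((he _).1 (by
    rwa [map_add, map_zsmul, map_zsmul]))⟩

theorem pr_map {a b : Fin l → ℤ} (h : Pr D l a b) : Pr D l (e a) (e b) :=
  ⟨(he _).2 h.ra, (he _).2 h.rb, by rw [← map_add]; exact (he _).2 h.rs, by rw [← map_sub, he]; exact h.nd,
    by rw [← map_zsmul, ← map_add, he]; exact h.n1, by rw [← map_zsmul, ← map_add, he]; exact h.n2⟩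

theorem afr_map {n : ℕ} {ev : Fin n → Fin l → ℤ} (h : AFr D l ev) : AFr D l fun i => e (ev i) := by
  refine ⟨fun i j hij => ?_, fun i j k h1 h2 h3 => ?_, fun i j k m h1 h2 h3 h4 h5 h6 => ?_⟩
  · rw [← map_sub, he]
    exact h.rt i j hij
  · rw [← map_sub, ← map_sub]
    exact pr_map he (h.pr i j k h1 h2 h3)
  · rw [← map_sub, ← map_sub]
    exact so_map he (h.comm i j k m h1 h2 h3 h4 h5 h6)

omit he in
theorem rts_map {n : ℕ} (ev : Fin n → Fin l → ℤ) : Rts (fun i => e (ev i)) = e '' Rts ev := by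
  ext a
  constructor
  · rintro ⟨i, j, hij, rfl⟩
    exact ⟨_, ⟨i, j, hij, rfl⟩, map_sub e _ _⟩
  · rintro ⟨_, ⟨i, j, hij, rfl⟩, rfl⟩
    exact ⟨i, j, hij, map_sub e _ _⟩

/-- **Transport of `Dec`.** -/
theorem dec_map {p : ℕ} {P P' : Set (Fin l → ℤ) → Prop} {S₀ : Set (Fin l → ℤ)} (hP : ∀ S ⊆ S₀, P S → P' (e '' S))
    {S : Set (Fin l → ℤ)} (h : Dec D l p P S) (hS : S ⊆ S₀) : Dec D l p P' (e '' S) := by
  induction h with
  | base S h => exact .base _ (hP S hS h)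
  | step S n ev h1 h2 h3 h4 _ ih =>
    refine .step _ n (fun i => e (ev i)) (afr_map he h1) h2 h3 ⟨?_, ?_⟩ ?_
    · rw [rts_map]
      exact Set.image_mono h4.1
    · rw [rts_map]
      rintro _ ⟨a, ha, rfl⟩ _ ⟨b, hb, rfl⟩ hn
      exact so_map he (h4.2 a ha b hb fun h => hn ⟨b, h, rfl⟩)
    · rw [rts_map, ← Set.image_sdiff e.injective]
      exact ih (Set.sdiff_subset.trans hS)

end Map

theorem dec_mono {p : ℕ} {P P' : Set (Fin l → ℤ) → Prop} {S₀ : Set (Fin l → ℤ)} (hP : ∀ S ⊆ S₀, P S → P' S)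
    {S : Set (Fin l → ℤ)} (h : Dec D l p P S) (hS : S ⊆ S₀) : Dec D l p P' S := by
  induction h with
  | base S h => exact .base _ (hP S hS h)
  | step S n ev h1 h2 h3 h4 _ ih => exact .step _ n ev h1 h2 h3 h4 (ih (Set.sdiff_subset.trans hS))

theorem Ps_eq_image {p : ℕ} {ζ : KK r} (hζ : IsPrimitiveRoot ζ p) {t : YY D r} (ht : t ∈ TT D (KK r)) {w : M.Group}
    {c : Fin l → ℕ} (h : ∀ x, cX hp t (rep M.toCoxeterSystem hp.isCartan w x) = ζ ^ bb c x) :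
    Ps hp r {t} = repAut M.toCoxeterSystem hp.isCartan w '' SK D l p c := by
  ext a
  rw [mem_Ps_one ht]
  constructor
  · rintro ⟨h1, h2⟩
    refine ⟨rep M.toCoxeterSystem hp.isCartan w⁻¹ a, ⟨(rt_iff hp _).2 (h1.act _), ?_⟩, rep_apply_inv _ _ _ _⟩
    rw [← hζ.zpow_eq_one_iff_dvd, ← h, rep_apply_inv, h2]
  · rintro ⟨b, ⟨h1, h2⟩, rfl⟩
    refine ⟨((rt_iff hp _).1 h1).act w, ?_⟩
    show cX hp t (rep _ _ w b) = 1
    rw [h, hζ.zpow_eq_one_iff_dvd]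
    exact h2

/-- **From the standard position to an arbitrary element of the torus.** -/
theorem dec_of_kac {L : Type} [Group L] {θ : L →* YY D r} (hs : Function.Surjective θ) {p : ℕ} {ζ : KK r}
    (hζ : IsPrimitiveRoot ζ p) {t : YY D r} (ht : t ∈ TT D (KK r)) {w : M.Group} {c : Fin l → ℕ}
    (h : ∀ x, cX hp t (rep M.toCoxeterSystem hp.isCartan w x) = ζ ^ bb c x)
    (hd : Dec D l p (Triv hp p θ) (SK D l p c)) : Dec D l p (Triv hp p θ) (Ps hp r {t}) := by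
  rw [Ps_eq_image hζ ht h]
  refine dec_map (S₀ := {a | IsRoot M.toCoxeterSystem hp.isCartan a}) (fun a => ?_)
    (fun S hS h1 => triv_conj hs hS h1 w) hd fun a ha => (rt_iff hp _).1 ha.1
  rw [rt_iff hp M.toCoxeterSystem, rt_iff hp M.toCoxeterSystem]
  refine ⟨fun h1 => ?_, fun h1 => h1.act w⟩
  have h2 := IsRoot.act h1 w⁻¹
  change IsRoot _ _ (rep _ _ w⁻¹ (rep _ _ w a)) at h2
  rwa [rep_inv_apply] at h2

/-! ### connected centralizers -/

theorem conn_of_nmk (h1 : H931.KC.nmk D l = 1) {p : ℕ} (hpp : p.Prime) (hpr : p ≠ r) {t : YY D r}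
    (ht : t ∈ TT D (KK r)) (htp : t ^ p = 1) {x : YY D r} (hx : x * t = t * x) : x ∈ DZ hp r {t} := by
  have := finW hp
  obtain ⟨m, hm, w, hw, k, h2, -, rfl⟩ := form hp (Set.finite_singleton t) (Set.singleton_subset_iff.2 ht) (c := x)
    fun s hs => by rw [hs, hx]
  have h3 := H931.KC.card_PP_le hp (cast_ne_zero hpp hpr) ht htp
  rw [H931.KC.card_mk, h1] at h3
  have h4 : w = 1 := congrArg Subtype.val ((Finite.card_le_one_iff_subsingleton.1 h3).elim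
    (⟨w, mem_PP_of_PPZ hw⟩ : PP M.toCoxeterSystem hp.isCartan (ch hp) t) 1)
  rw [h4] at h2
  exact mul_mem (Mz_le_DZ hm) (T_le_DZ h2.mem_T)

theorem eqD4 {M : CoxeterMatrix (Fin 4)} (hp : IsType chevD4 4 M) : M = coxeterD4 := by
  simp only [IsType, typeList, List.mem_cons, List.not_mem_nil, or_false, Prod.mk.injEq] at hp
  rcases hp with ⟨h1, h⟩ | ⟨h1, h⟩ | ⟨h1, h⟩ | ⟨h1, h⟩ | ⟨h1, h⟩ | ⟨h1, h⟩ | ⟨h1, h⟩
  · exact absurd (congrArg Sigma.fst h) (by simp)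
  · exact absurd (congrArg Sigma.fst h) (by simp)
  · simpa using h
  · exact absurd (congrArg ChevalleyDatum.nroots h1) (by decide +kernel)
  · exact absurd (congrArg Sigma.fst h) (by simp)
  · exact absurd (congrArg Sigma.fst h) (by simp)
  · exact absurd (congrArg Sigma.fst h) (by simp)

theorem parD4 : H897.T5Conn.Par coxeterD4 1 ![1, 1, 1, 1] 1 := ⟨by decide +kernel, rfl, by decide +kernel⟩

set_option backward.isDefEq.respectTransparency false in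
theorem nD4 : ∀ i j : Fin 4, coxeterD4 i j ≠ 4 ∧ coxeterD4 i j ≠ 6 := by decide

theorem conn_D4 {M : CoxeterMatrix (Fin 4)} (hp : IsType chevD4 4 M) {p : ℕ} (hpp : p.Prime) (hpr : p ≠ r) (h2 : p ≠ 2)
    {t : YY chevD4 r} (ht : t ∈ TT chevD4 (KK r)) (htp : t ^ p = 1) {x : YY chevD4 r} (hx : x * t = t * x) :
    x ∈ DZ hp r {t} := by
  have := finW hp
  have hF : H897.T5Lat.Frm M.toCoxeterSystem hp.isCartan (H897.T5Lat.bf (cartanOf chevD4 4)) := by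
    obtain rfl := eqD4 hp
    exact parD4.frm _ hp.isCartan (fun i j => (nD4 i j).1) (fun i j => (nD4 i j).2)
  exact mem_DZ.2 (H897.T5Cent.cent_form hp M.toCoxeterSystem (locFin r) r (H897.T5Cent.con_of_frm hp
    M.toCoxeterSystem (locFin r) r hpp hpr invC_D4 ((Nat.coprime_primes Nat.prime_two hpp).2 h2.symm) hF) ht htp hx)

end Cfsg.Agent.BHZ.Exc.CovI
end

-- part: BHZ/Exc/CovIIB
section
set_option linter.all false
open scoped Cfsg.Agent.FastGrp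

/-!
# S4806, exceptional groups (helper25): case II

* `conn6` : connected centralizers in the universal group of type `E₆` (the argument takes place in `E₇`);
* `triv_of_cert7`, `CK7`, `CKA` : the table of the centralizers of the elements of order `3`;
* `boxCovII`.
-/

set_option autoImplicit false
set_option synthInstance.maxSize 4000

namespace Cfsg.Agent.BHZ.Exc

open CoxeterSystem Cfsg Cfsg.Lie Cfsg.Lie.ChevalleyDatum
open Cfsg.Agent.ChevalleyStructure Cfsg.Agent.ChevalleyStructure.Elts Cfsg.Agent.ChevalleyStructure.CoxeterGeom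
  Cfsg.Agent.ChevalleyStructure.CoxeterGeomTypes
open Cfsg.Agent.Tits.Roots Cfsg.Agent.Tits.Core Cfsg.Agent.Nodes Cfsg.Agent.Nodes.Reps Cfsg.Agent.Nodes.BNOf
  Cfsg.Agent.Nodes.RGDChev Cfsg.Agent.Nodes.Bruhat
open Cfsg.Agent.KFacts.RgdField Cfsg.Agent.KFacts.RgdChevCoord
open Cfsg.Agent.BpExc Cfsg.Agent.BpExc.TorCent Cfsg.Agent.BpExc.TorChev Cfsg.Agent.BpExc.Tow
  Cfsg.Agent.BpExc.TowChev Cfsg.Agent.BpExc.Fr Cfsg.Agent.BpExc.LangFr
open Cfsg.Agent.H469.Exc Cfsg.Agent.H795.SetCent Cfsg.Agent.H129.TorusChar Cfsg.Agent.DS.Ex Cfsg.Agent.DS.Nt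
open scoped commutatorElement
open Cfsg.Agent.H46.Gen (AFr Rt Pr rt_iff)
open Cfsg.Agent.H931.KC (Kac bb psi al ok_E7)
open Cfsg.Agent.H92.NE (bl bl_rep)
open Cfsg.Agent.BHZ.Exc.CovI Cfsg.Agent.BHZ.Exc.TY Cfsg.Agent.BHZ.Exc.AA

namespace CovII

variable {r : ℕ} [Fact r.Prime]

/-! ### connected centralizers -/

/-- the invariant form of `E₇` -/
def B7 : Fin 7 → Fin 7 → ℤ := ![![2, 0, -1, 0, 0, 0, 0], ![0, 2, 0, -1, 0, 0, 0], ![-1, 0, 2, -1, 0, 0, 0],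
  ![0, -1, -1, 2, -1, 0, 0], ![0, 0, 0, -1, 2, -1, 0], ![0, 0, 0, 0, -1, 2, -1], ![0, 0, 0, 0, 0, -1, 2]]

/-! ### linear forms on the packed root tables -/

private def ln7 (a0 a1 a2 a3 a4 a5 a6 x : ℕ) : ℕ :=
  Nat.add (Nat.mul a0 (RootVecTab.dig x 6)) (Nat.add (Nat.mul a1 (RootVecTab.dig x 5)) (Nat.add (Nat.mul a2 (RootVecTab.dig x 4))
    (Nat.add (Nat.mul a3 (RootVecTab.dig x 3)) (Nat.add (Nat.mul a4 (RootVecTab.dig x 2))
      (Nat.add (Nat.mul a5 (RootVecTab.dig x 1)) (Nat.mul a6 (RootVecTab.dig x 0)))))))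

private def tsN (p0 p1 p2 p3 p4 p5 p6 n0 n1 n2 n3 n4 n5 n6 a b x : ℕ) : Bool :=
  Nat.beq (Nat.add (ln7 p0 p1 p2 p3 p4 p5 p6 x) a) (Nat.add (ln7 n0 n1 n2 n3 n4 n5 n6 x) b)

private def tst (G : Fin 7 → ℤ) (k : ℤ) : ℕ → Bool :=
  tsN (G 0).toNat (G 1).toNat (G 2).toNat (G 3).toNat (G 4).toNat (G 5).toNat (G 6).toNat
    (-G 0).toNat (-G 1).toNat (-G 2).toNat (-G 3).toNat (-G 4).toNat (-G 5).toNat (-G 6).toNat
    (-(8 * (G 0 + G 1 + G 2 + G 3 + G 4 + G 5 + G 6) + k)).toNat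
    (8 * (G 0 + G 1 + G 2 + G 3 + G 4 + G 5 + G 6) + k).toNat

/-- `x` is the code of `v` -/
private def Cd (x : ℕ) (v : Fin 7 → ℤ) : Prop := ∀ m : Fin 7, v m = (RootVecTab.dig x (6 - m) : ℤ) - 8

private theorem ln7_cast (a0 a1 a2 a3 a4 a5 a6 : ℕ) {x : ℕ} {v : Fin 7 → ℤ} (h : Cd x v) :
    (ln7 a0 a1 a2 a3 a4 a5 a6 x : ℤ) = a0 * (v 0 + 8) + a1 * (v 1 + 8) + a2 * (v 2 + 8) + a3 * (v 3 + 8) +
      a4 * (v 4 + 8) + a5 * (v 5 + 8) + a6 * (v 6 + 8) := by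
  rw [h 0, h 1, h 2, h 3, h 4, h 5, h 6]
  show ((a0 * RootVecTab.dig x 6 + (a1 * RootVecTab.dig x 5 + (a2 * RootVecTab.dig x 4 + (a3 * RootVecTab.dig x 3 +
    (a4 * RootVecTab.dig x 2 + (a5 * RootVecTab.dig x 1 + a6 * RootVecTab.dig x 0))))) : ℕ) : ℤ) =
    a0 * ((RootVecTab.dig x 6 : ℤ) - 8 + 8) + a1 * ((RootVecTab.dig x 5 : ℤ) - 8 + 8) + a2 * ((RootVecTab.dig x 4 : ℤ) - 8 + 8) +
    a3 * ((RootVecTab.dig x 3 : ℤ) - 8 + 8) + a4 * ((RootVecTab.dig x 2 : ℤ) - 8 + 8) + a5 * ((RootVecTab.dig x 1 : ℤ) - 8 + 8) +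
    a6 * ((RootVecTab.dig x 0 : ℤ) - 8 + 8)
  push_cast
  ring

private theorem tst_iff {G : Fin 7 → ℤ} {k : ℤ} {x : ℕ} {v : Fin 7 → ℤ} (h : Cd x v) :
    tst G k x = true ↔ psi G v = k := by
  show Nat.beq (ln7 _ _ _ _ _ _ _ x + _) (ln7 _ _ _ _ _ _ _ x + _) = true ↔ ∑ i, v i * G i = k
  rw [RootVec.beq_iff, ← Int.natCast_inj, Int.natCast_add, Int.natCast_add, ln7_cast _ _ _ _ _ _ _ h,
    ln7_cast _ _ _ _ _ _ _ h, Fin.sum_univ_seven]
  have e : ∀ a : ℤ, (a.toNat : ℤ) = a + (-a).toNat := fun a => by rw [← Int.toNat_sub_toNat_neg a]; omega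
  rw [e (G 0), e (G 1), e (G 2), e (G 3), e (G 4), e (G 5), e (G 6),
    e (8 * (G 0 + G 1 + G 2 + G 3 + G 4 + G 5 + G 6) + k)]
  exact ⟨fun h => by linear_combination h, fun h => by linear_combination h⟩

private theorem cd7 {s : ℕ} (hs : s < 126) : Cd (RootVecTab.code chevE7 s) (vec chevE7 7 s) :=
  fun m => RootVec.rt_of_lt (D := chevE7) hs m.2

private def e7 (s : ℕ) : ℕ := Nat.add (Nat.mul 64 (RootVecTab.code chevE6 s)) 8

private noncomputable def _root_.Cfsg.Agent.LsF.f886365_0 : {f // @Cfsg.Agent.ChevalleyStructure.RootVecTab.dig = f} := ⟨_, by first | (delta Cfsg.Agent.ChevalleyStructure.RootVecTab.dig; rewrite [Cfsg.Agent.LsF.nmul_pat]; exact rfl) | exact rfl⟩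
private noncomputable def _root_.Cfsg.Agent.LsF.f886365_1 : {f // @Cfsg.Agent.ChevalleyStructure.RootVecTab.packTab = f} := ⟨_, by first | (delta Cfsg.Agent.ChevalleyStructure.RootVecTab.packTab; rewrite [Cfsg.Agent.LsF.instDecEq_eq, Cfsg.Agent.LsF.ite_eq]; exact rfl) | exact rfl⟩
private noncomputable def _root_.Cfsg.Agent.LsF.f886365_2 : {f // @Cfsg.Agent.ChevalleyStructure.RootVecTab.code = f} := ⟨_, by first | (delta Cfsg.Agent.ChevalleyStructure.RootVecTab.code; rewrite [Cfsg.Agent.LsF.f886365_1.2, Cfsg.Agent.LsF.nmul_pat, Cfsg.Agent.LsF.npow_pat]; exact rfl) | exact rfl⟩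
private noncomputable def _root_.Cfsg.Agent.LsF.f886365_3 : {f // @Cfsg.Agent.ChevalleyStructure.RootVec.rt = f} := ⟨_, by first | (delta Cfsg.Agent.ChevalleyStructure.RootVec.rt; rewrite [Cfsg.Agent.LsF.f886365_0.2, Cfsg.Agent.LsF.f886365_2.2, Cfsg.Agent.LsF.nsub_pat, Cfsg.Agent.LsF.isub_pat, Cfsg.Agent.LsF.icast_pat, Cfsg.Agent.LsF.decLt_eq, Cfsg.Agent.LsF.dAnd_eq, Cfsg.Agent.LsF.ite_eq]; exact rfl) | exact rfl⟩
private noncomputable def _root_.Cfsg.Agent.LsF.f886365_4 : {f // @Cfsg.Agent.Nodes.RGDChev.vec = f} := ⟨_, by first | (delta Cfsg.Agent.Nodes.RGDChev.vec; rewrite [Cfsg.Agent.LsF.f886365_3.2]; exact rfl) | exact rfl⟩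
private noncomputable def _root_.Cfsg.Agent.LsF.f886365_5 : {f // @Cfsg.Agent.BHZ.Exc.CovII.e7 = f} := ⟨_, by first | (delta Cfsg.Agent.BHZ.Exc.CovII.e7; rewrite [Cfsg.Agent.LsF.f886365_2.2]; exact rfl) | exact rfl⟩
private theorem cd6 : ∀ s < 72, Cd (e7 s) (ex7 (vec chevE6 6 s)) := by
  show ∀ s < 72, ∀ m : Fin 7, ex7 (vec chevE6 6 s) m = (RootVecTab.dig (e7 s) (6 - m) : ℤ) - 8
  (refine of_decide_eq_true ?_; (try (rewrite [Cfsg.Agent.LsF.f886365_4.2, Cfsg.Agent.LsF.f886365_0.2, Cfsg.Agent.LsF.f886365_5.2, Cfsg.Agent.LsF.nsub_pat, Cfsg.Agent.LsF.isub_pat, Cfsg.Agent.LsF.icast_pat, Cfsg.Agent.LsF.instIDecEq_eq, Cfsg.Agent.LsF.dBallLT_eq, Cfsg.Agent.LsF.dForallFin_eq, Cfsg.Agent.LsF.decide_eq])); decide +kernel)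

private def U7 : Fin 6 → Fin 7 → ℤ := fun i j => ∑ a, ex7 (al chevE6 6 (rho (some i))) a * B7 a j

private def k7 : Fin 6 → ℤ := fun i => bl B7 (sr 6) (ex7 (al chevE6 6 (some i)))

private noncomputable def _root_.Cfsg.Agent.LsF.f886365_6 : {f // @Cfsg.Agent.BHZ.Exc.CovII.ln7 = f} := ⟨_, by first | (delta Cfsg.Agent.BHZ.Exc.CovII.ln7; rewrite [Cfsg.Agent.LsF.f886365_0.2]; exact rfl) | exact rfl⟩
private noncomputable def _root_.Cfsg.Agent.LsF.f886365_7 : {f // @Cfsg.Agent.BHZ.Exc.CovII.tsN = f} := ⟨_, by first | (delta Cfsg.Agent.BHZ.Exc.CovII.tsN; rewrite [Cfsg.Agent.LsF.f886365_6.2]; exact rfl) | exact rfl⟩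
private noncomputable def _root_.Cfsg.Agent.LsF.f886365_8 : {f // @Cfsg.Agent.BHZ.Exc.CovII.tst = f} := ⟨_, by first | (delta Cfsg.Agent.BHZ.Exc.CovII.tst; rewrite [Cfsg.Agent.LsF.f886365_7.2, Cfsg.Agent.LsF.iadd_pat, Cfsg.Agent.LsF.imul_pat, Cfsg.Agent.LsF.ineg_pat, Cfsg.Agent.LsF.toNat_eq]; exact rfl) | exact rfl⟩
private noncomputable def _root_.Cfsg.Agent.LsF.f886365_9 : {f // @Cfsg.Agent.H931.KC.hr = f} := ⟨_, by first | (delta Cfsg.Agent.H931.KC.hr; rewrite [Cfsg.Agent.LsF.f886365_4.2, Cfsg.Agent.LsF.nsub_pat]; exact rfl) | exact rfl⟩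
private noncomputable def _root_.Cfsg.Agent.LsF.f886365_10 : {f // @Cfsg.Agent.H931.KC.al = f} := ⟨_, by first | (delta Cfsg.Agent.H931.KC.al Function.update Pi.single Cfsg.Agent.Tits.Roots.sr; rewrite [Cfsg.Agent.LsF.f886365_9.2, Cfsg.Agent.LsF.instINeg_eq, Cfsg.Agent.LsF.dFinEq_eq, Cfsg.Agent.LsF.dite_eq]; (try delta Cfsg.Agent.H931.KC.al.match_1); (try delta Option.casesOn); exact rfl) | exact rfl⟩
private noncomputable def _root_.Cfsg.Agent.LsF.f886365_11 : {f // @Cfsg.Agent.BHZ.Exc.rho = f} := ⟨_, by first | (delta Cfsg.Agent.BHZ.Exc.rho; rewrite [Cfsg.Agent.LsF.vecCons_eq]; (try delta Cfsg.Agent.BHZ.Exc.rho.match_1); (try delta Option.casesOn); exact rfl) | exact rfl⟩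
private noncomputable def _root_.Cfsg.Agent.LsF.f886365_12 : {f // @Cfsg.Agent.BHZ.Exc.CovII.B7 = f} := ⟨_, by first | (delta Cfsg.Agent.BHZ.Exc.CovII.B7; rewrite [Cfsg.Agent.LsF.ineg_pat, Cfsg.Agent.LsF.vecCons_eq]; exact rfl) | exact rfl⟩
private noncomputable def _root_.Cfsg.Agent.LsF.f886365_13 : {f // @Cfsg.Agent.BHZ.Exc.CovII.U7 = f} := ⟨_, by first | (delta Cfsg.Agent.BHZ.Exc.CovII.U7; rewrite [Cfsg.Agent.LsF.sumF_pat, Cfsg.Agent.LsF.f886365_10.2, Cfsg.Agent.LsF.f886365_11.2, Cfsg.Agent.LsF.f886365_12.2, Cfsg.Agent.LsF.iadd_pat, Cfsg.Agent.LsF.imul_pat, Cfsg.Agent.LsF.iACM_eq]; exact rfl) | exact rfl⟩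
private noncomputable def _root_.Cfsg.Agent.LsF.f886365_14 : {f // @Cfsg.Agent.BHZ.Exc.CovII.k7 = f} := ⟨_, by first | (delta Cfsg.Agent.BHZ.Exc.CovII.k7 Function.update Pi.single Cfsg.Agent.Tits.Roots.sr; rewrite [Cfsg.Agent.LsF.f886365_12.2, Cfsg.Agent.LsF.f886365_10.2, Cfsg.Agent.LsF.dFinEq_eq, Cfsg.Agent.LsF.dite_eq]; exact rfl) | exact rfl⟩
private theorem tab_rotb : ((List.range 126).all fun s =>
    !((List.finRange 6).all fun i => tst (U7 i) (k7 i) (RootVecTab.code chevE7 s)) ||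
      decide (∀ m, vec chevE7 7 s m = (sr 6 + ex7 ![2, 2, 3, 4, 3, 2] : Fin 7 → ℤ) m)) = true := by
  ((try (delta Cfsg.Agent.Tits.Roots.sr Function.update Pi.single; rewrite [Cfsg.Agent.LsF.padd_pat, Cfsg.Agent.LsF.f886365_8.2, Cfsg.Agent.LsF.f886365_13.2, Cfsg.Agent.LsF.f886365_14.2, Cfsg.Agent.LsF.f886365_2.2, Cfsg.Agent.LsF.f886365_4.2, Cfsg.Agent.LsF.iadd_pat, Cfsg.Agent.LsF.vecCons_eq, Cfsg.Agent.LsF.or_eq, Cfsg.Agent.LsF.not_eq, Cfsg.Agent.LsF.all_eq, Cfsg.Agent.LsF.range_eq, Cfsg.Agent.LsF.instIDecEq_eq, Cfsg.Agent.LsF.dFinEq_eq, Cfsg.Agent.LsF.dForallFin_eq, Cfsg.Agent.LsF.finRange_eq, Cfsg.Agent.LsF.dite_eq, Cfsg.Agent.LsF.decide_eq])); decide +kernel)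

theorem tab_rot : ∀ s : Fin chevE7.nroots, (∀ i : Fin 6, bl B7 (vec chevE7 7 s) (ex7 (al chevE6 6 (rho (some i)))) =
    bl B7 (sr 6) (ex7 (al chevE6 6 (some i)))) →
    ∀ m, vec chevE7 7 s m = (sr 6 + ex7 ![2, 2, 3, 4, 3, 2] : Fin 7 → ℤ) m := by
  intro s h
  have h1 := List.all_eq_true.1 tab_rotb s (List.mem_range.2 s.2)
  have h2 : ((List.finRange 6).all fun i => tst (U7 i) (k7 i) (RootVecTab.code chevE7 s)) = true :=
    List.all_eq_true.2 fun i _ => (tst_iff (cd7 s.2)).2 (Eq.trans (by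
      show ∑ j, vec chevE7 7 s j * ∑ a, ex7 (al chevE6 6 (rho (some i))) a * B7 a j =
        ∑ a, ∑ j, ex7 (al chevE6 6 (rho (some i))) a * B7 a j * vec chevE7 7 s j
      rw [Finset.sum_comm]
      exact Finset.sum_congr rfl fun j _ => by rw [mul_comm, Finset.sum_mul]) (h i))
  rw [h2] at h1
  exact of_decide_eq_true h1

theorem rot_ne {v : CoxeterMatrix.E₆.Group}
    (hv : ∀ i, rep CoxeterMatrix.E₆.toCoxeterSystem hpE6.isCartan v (al chevE6 6 i) = al chevE6 6 (rho i))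
    {k a : St6 r} (hk : RP hpE6 r v (th6 r k)) (ha : th6 r a ∈ TT chevE6 (KK r)) (hc : k * a = a * k) :
    cX hpE6 (th6 r a) ![2, 2, 3, 4, 3, 2] = 1 := by
  obtain ⟨w, h1, h2⟩ := je7.rp hk
  obtain ⟨s, hs, e⟩ := (isRoot_iff hpE7 CoxeterMatrix.E₇.toCoxeterSystem _).1
    ((isRoot_sr CoxeterMatrix.E₇.toCoxeterSystem hpE7.isCartan 6).act w)
  have h3 := funext (tab_rot ⟨s, hs⟩ fun i => by
    show bl B7 (vec chevE7 7 s) _ = _
    rw [e, ← hv, ← h2]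
    exact bl_rep hpE7 ok_E7.1 w _ _)
  have h4 := h1.cX_of_comm (je7.tor ha).1 (by rw [← map_mul, hc, map_mul]) (sr 6)
  have hm := isMC_cX hpE7 (je7.tor ha).1
  rw [← e, show vec chevE7 7 s = _ from h3, hm.add, (je7.tor ha).2] at h4
  exact mul_left_cancel₀ (hm.ne_zero _) (h4.trans (mul_one _).symm)

theorem rot_ne' {v : CoxeterMatrix.E₆.Group} (hv : Rot v) {k a : St6 r} (hk : RP hpE6 r v (th6 r k))
    (ha : th6 r a ∈ TT chevE6 (KK r)) (hc : k * a = a * k) : cX hpE6 (th6 r a) ![2, 2, 3, 4, 3, 2] = 1 := by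
  rcases hv with hv | hv
  · exact rot_ne hv hk ha hc
  · refine rot_ne (v := v⁻¹) (k := k⁻¹) (fun i => by rw [← hv, rep_inv_apply]) (by rw [map_inv]; exact hk.inv) ha ?_
    calc k⁻¹ * a = k⁻¹ * (a * k) * k⁻¹ := by group
      _ = a * k⁻¹ := by rw [← hc]; group

theorem conn6 (hr : r ≠ 3) (a x : St6 r) (ha : th6 r a ∈ TT chevE6 (KK r)) (h3 : th6 r a ^ 3 = 1) (hx : x * a = a * x) :
    th6 r x ∈ DZ hpE6 r {th6 r a} := by
  by_contra hn
  have := fin6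
  have C := cov0_six hr
  have hc : r.Coprime 3 := (Nat.coprime_primes Fact.out Nat.prime_three).2 hr
  obtain ⟨ζ, hζ⟩ := exists_prim (p := r) Nat.prime_three hr.symm
  obtain ⟨m, hm, y, hy, hy1, k, hk, -, e⟩ := form6 ha (by rw [← map_mul, hx, map_mul]) hn
  obtain ⟨w, hrot, h⟩ := pp6 hr hζ ha h3 hy hy1
  obtain ⟨m', hm', rfl⟩ := exists_Mh hpE6 C hc (fun _ => Ps_root) hm
  have h1 : m' * a = a * m' := T_comm_Mh C hc ha (fun _ => Ps_root) (fun _ h => ((mem_Ps_one ha).1 h).2) hm'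
  have h2 : th6 r (m'⁻¹ * x) = k := by rw [map_mul, map_inv, e, inv_mul_cancel_left]
  obtain ⟨n₀, hn₀⟩ := exists_RP hpE6 r w
  obtain ⟨n, rfl⟩ := C.surj n₀
  have e1 : th6 r (n⁻¹ * a * n) = (th6 r n)⁻¹ * th6 r a * (th6 r n)⁻¹⁻¹ := by rw [map_mul, map_mul, map_inv, inv_inv]
  have h4 := rot_ne' hrot (k := n⁻¹ * (m'⁻¹ * x) * n) (a := n⁻¹ * a * n)
    (by rw [map_mul, map_mul, map_inv, h2]; exact (hn₀.inv.mul hk).mul hn₀) (by rw [e1]; exact hn₀.inv.conj_mem ha) (by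
      calc n⁻¹ * (m'⁻¹ * x) * n * (n⁻¹ * a * n) = n⁻¹ * m'⁻¹ * (x * a) * n := by group
        _ = n⁻¹ * m'⁻¹ * (a * m') * m'⁻¹ * x * n := by rw [hx]; group
        _ = _ := by rw [← h1]; group)
  have h5 := hn₀.inv.cX ha (rep CoxeterMatrix.E₆.toCoxeterSystem hpE6.isCartan w ![2, 2, 3, 4, 3, 2])
  rw [rep_inv_apply, ← e1, h4] at h5
  rcases h with h | h <;> rw [h, eq_comm, hζ.zpow_eq_one_iff_dvd] at h5 <;> exact absurd h5 (by decide)

/-! ### the table -/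

theorem triv_of_cert7 (hr : r ≠ 3) {S : Set (Fin 6 → ℤ)}
    (hS : ∀ a ∈ S, IsRoot CoxeterMatrix.E₆.toCoxeterSystem hpE6.isCartan a) (h : Cert chevE7 7 3 (ex7 '' S)) :
    Triv hpE6 3 (th6 r) S := by
  intro c hc hT h1 n hn
  refine j7_inj ((eq_one_of_cert (hp := hpE7) Nat.prime_three ?_ h (je7.mem_Sup hr hS hc) (je7.tor hT).1 ?_ (n := n)
    ?_).trans (map_one _).symm)
  · rintro _ ⟨a, ha, rfl⟩
    exact (je7 (r := r)).isRoot (hS a ha)
  · rintro _ ⟨a, ha, rfl⟩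
    rw [(je7.tor hT).2]
    exact h1 a ha
  · rw [← map_pow, hn, map_one]

/-- the certificate for `Triv` -/
def CK7 (c : Fin 6 → ℕ) (W G : Fin 7 → Fin 7 → ℤ) (K : Fin 7 → ℤ) (C : Fin 7 → Fin 7 → ℤ) (d : ℤ) : Prop :=
  (∀ j : Fin 7, (∃ s : Fin chevE6.nroots, (∀ m, W j m = ex7 (vec chevE6 6 s) m) ∧ (3 : ℤ) ∣ bb c (vec chevE6 6 s)) ∨
    ((∀ s : Fin chevE6.nroots, (3 : ℤ) ∣ bb c (vec chevE6 6 s) → psi (G j) (ex7 (vec chevE6 6 s)) = 0) ∧
      ∀ m, W j m = lvl chevE7 7 (psi (G j)) (K j) m)) ∧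
  (∀ i m, ∑ j, C i j * W j m = d * (sr i : Fin 7 → ℤ) m) ∧ ¬ (3 : ℤ) ∣ d

/-- the certificate for the type `A₅` -/
def CKA (c : Fin 6 → ℕ) (ev : Fin 6 → Fin 6 → ℤ) : Prop :=
  (∀ s : Fin chevE6.nroots, (3 : ℤ) ∣ bb c (vec chevE6 6 s) → ∃ i j, i ≠ j ∧ ∀ m, vec chevE6 6 s m = ev i m - ev j m) ∧
  (∀ i j, i ≠ j → (3 : ℤ) ∣ bb c (ev i - ev j) ∧ ∃ s : Fin chevE6.nroots, ∀ m, vec chevE6 6 s m = ev i m - ev j m) ∧
  (∀ i j p, i ≠ j → j ≠ p → i ≠ p → bl B6 (ev i - ev j) (ev j - ev p) = -1) ∧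
  ∀ i j, i ≠ j → ∀ p, j ≠ p → i ≠ p → ∀ q, p ≠ q → i ≠ q → j ≠ q → bl B6 (ev i - ev j) (ev p - ev q) = 0

theorem SK_root {c : Fin 6 → ℕ} : ∀ a ∈ SK chevE6 6 3 c, IsRoot CoxeterMatrix.E₆.toCoxeterSystem hpE6.isCartan a :=
  fun _ ha => (rt_iff hpE6 _).1 ha.1

theorem CK7.triv (hr : r ≠ 3) {c : Fin 6 → ℕ} {W G : Fin 7 → Fin 7 → ℤ} {K : Fin 7 → ℤ} {C : Fin 7 → Fin 7 → ℤ} {d : ℤ}
    (h : CK7 c W G K C d) : Triv hpE6 3 (th6 r) (SK chevE6 6 3 c) := by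
  refine triv_of_cert7 hr SK_root fun H h1 h2 h3 i => ?_
  have hW : ∀ j, W j ∈ H := fun j => by
    rcases h.1 j with ⟨s, e, hs⟩ | ⟨h4, e⟩
    · rw [show W j = _ from funext e]
      exact h1 _ ⟨_, ⟨⟨s, s.2, rfl⟩, hs⟩, rfl⟩
    · rw [show W j = _ from funext e]
      refine h3 _ ?_ _
      rintro _ ⟨_, ⟨⟨s, hs, rfl⟩, h5⟩, rfl⟩
      exact h4 ⟨s, hs⟩ h5
  refine h2 d _ h.2.2 ?_
  have e : d • (sr i : Fin 7 → ℤ) = ∑ j, C i j • W j := by
    funext m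
    rw [Finset.sum_apply]
    exact (h.2.1 i m).symm
  rw [e]
  exact sum_mem fun j _ => H.zsmul_mem (hW j) _

theorem triv_empty : Triv hpE6 3 (th6 r) ∅ := fun c hc _ _ _ _ => by rwa [Mh_empty, Subgroup.mem_bot] at hc

theorem pr_of_bl {a b : Fin 6 → ℤ} (ha : Rt chevE6 6 a) (hb : Rt chevE6 6 b) (hs : Rt chevE6 6 (a + b))
    (h : bl B6 a b = -1) : Pr chevE6 6 a b := by
  have key : ∀ m n : ℤ, Rt chevE6 6 (m • a + n • b) → m * m * 2 + 2 * m * n * (-1) + n * n * 2 = 2 := fun m n h0 => by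
    have h1 := bl_rt h0
    rwa [bl_comb, bl_rt ha, bl_rt hb, h] at h1
  refine ⟨ha, hb, hs, fun h => ?_, fun h => ?_, fun h => ?_⟩
  · have h1 := key (-1) 1 (by convert h using 1; module)
    omega
  · have h1 := key 2 1 (by convert h using 1; module)
    omega
  · have h1 := key 1 2 (by convert h using 1; module)
    omega

theorem CKA.dec {c : Fin 6 → ℕ} {ev : Fin 6 → Fin 6 → ℤ} (h : CKA c ev) :
    Dec chevE6 6 3 (Triv hpE6 3 (th6 r)) (SK chevE6 6 3 c) := by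
  have hr : ∀ i j, i ≠ j → Rt chevE6 6 (ev i - ev j) := fun i j hij => by
    obtain ⟨-, s, hs⟩ := h.2.1 i j hij
    exact ⟨s, s.2, funext hs⟩
  have h1 : SK chevE6 6 3 c ⊆ Rts ev := by
    rintro _ ⟨⟨s, hs, rfl⟩, h1⟩
    obtain ⟨i, j, hij, e⟩ := h.1 ⟨s, hs⟩ h1
    exact ⟨i, j, hij, funext e⟩
  refine .step _ 5 ev ⟨hr, fun i j p h1 h2 h3 => pr_of_bl (hr i j h1) (hr j p h2) ?_ (h.2.2.1 i j p h1 h2 h3),
    fun i j p q h1 h2 h3 h4 h5 h6 => so_of_bl (hr i j h1) (hr p q h2) (h.2.2.2 i j h1 p h3 h5 q h2 h4 h6)⟩ (by norm_num)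
    (fun _ => rfl) ⟨?_, fun a _ b hb hn => absurd (h1 hb) hn⟩ (.base _ ?_)
  · rw [sub_add_sub_cancel]
    exact hr i p h3
  · rintro _ ⟨i, j, hij, rfl⟩
    exact ⟨hr i j hij, (h.2.1 i j hij).1⟩
  · rw [Set.sdiff_eq_empty.2 h1]
    exact triv_empty

theorem Ps_eq_SK {ζ : KK r} (hζ : IsPrimitiveRoot ζ 3) {t : YY chevE6 r} (ht : t ∈ TT chevE6 (KK r)) {c : Fin 6 → ℕ}
    (h : ∀ x, cX hpE6 t x = ζ ^ bb c x) : Ps hpE6 r {t} = SK chevE6 6 3 c := by
  ext a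
  rw [mem_Ps_one ht, h, hζ.zpow_eq_one_iff_dvd, ← rt_iff hpE6]
  rfl

theorem bb6 (c : Fin 6 → ℕ) (x : Fin 6 → ℤ) :
    bb c x = x 0 * c 0 + x 1 * c 1 + x 2 * c 2 + x 3 * c 3 + x 4 * c 4 + x 5 * c 5 := by
  show ∑ i, x i * (c i : ℤ) = _
  rw [Fin.sum_univ_six]

theorem decA6 (hr : r ≠ 3) : Dec chevE6 6 3 (Triv hpE6 3 (th6 r)) (SK chevE6 6 3 ![0, 0, 0, 1, 0, 0]) := by
  obtain ⟨ζ, hζ⟩ := exists_prim (p := r) Nat.prime_three hr.symm
  obtain ⟨t, ht, h⟩ := exists_tor' hpE6 (isMC_zpow (hζ.ne_zero three_ne_zero) (bb ![0, 0, 0, 1, 0, 0]))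
  rw [← Ps_eq_SK hζ ht h]
  refine dec_mono (S₀ := Set.univ) (fun S _ e => ?_) (boxDecA r ζ t ⟨hζ, ht, fun x => ?_⟩) (Set.subset_univ _)
  · rw [e]
    exact triv_empty
  · rw [h, bb6]
    simp

private def b3 (c : Fin 6 → ℕ) (x : ℕ) : Bool :=
  Nat.beq (Nat.mod (Nat.add (ln7 (c 0) (c 1) (c 2) (c 3) (c 4) (c 5) 0 x) (c 0 + c 1 + c 2 + c 3 + c 4 + c 5)) 3) 0

private theorem b3_of {c : Fin 6 → ℕ} {s : ℕ} (hs : s < 72) (h : (3 : ℤ) ∣ bb c (vec chevE6 6 s)) :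
    b3 c (e7 s) = true := by
  have e := ln7_cast (c 0) (c 1) (c 2) (c 3) (c 4) (c 5) 0 (cd6 s hs)
  obtain ⟨t, ht⟩ := h
  rw [bb6] at ht
  refine RootVec.beq_iff.2 (Nat.mod_eq_zero_of_dvd (Int.natCast_dvd_natCast.1 ⟨t + 3 * (c 0 + c 1 + c 2 + c 3 + c 4 + c 5), ?_⟩))
  show ((ln7 (c 0) (c 1) (c 2) (c 3) (c 4) (c 5) 0 (e7 s) + (c 0 + c 1 + c 2 + c 3 + c 4 + c 5) : ℕ) : ℤ) = _
  rw [Int.natCast_add, e]
  show (c 0 : ℤ) * (vec chevE6 6 s 0 + 8) + c 1 * (vec chevE6 6 s 1 + 8) + c 2 * (vec chevE6 6 s 2 + 8) +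
    c 3 * (vec chevE6 6 s 3 + 8) + c 4 * (vec chevE6 6 s 4 + 8) + c 5 * (vec chevE6 6 s 5 + 8) + _ + _ = _
  push_cast
  linear_combination ht

private def wc (w : Fin 7 → ℤ) : ℕ :=
  ((((((w 0 * 64 + w 1) * 64 + w 2) * 64 + w 3) * 64 + w 4) * 64 + w 5) * 64 + w 6 + 0x8208208208).toNat

private noncomputable def smN (f : ℕ → ℕ) (n : ℕ) : ℕ := Nat.rec 0 (fun k ih => Nat.add (f k) ih) n

private theorem smN_eq (f : ℕ → ℕ) (n : ℕ) : (smN f n : ℤ) = ∑ s ∈ Finset.range n, (f s : ℤ) := by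
  induction n with
  | zero => rfl
  | succ n ih =>
    rw [Finset.sum_range_succ, ← ih, add_comm (smN f n : ℤ)]
    rfl

private noncomputable def ck7b (c : Fin 6 → ℕ) (W G : Fin 7 → Fin 7 → ℤ) (K : Fin 7 → ℤ) : Bool :=
  (List.finRange 7).all fun j =>
    ((List.range 72).any fun s => Nat.beq (e7 s) (wc (W j)) &&
      decide ((∀ m, W j m = ex7 (vec chevE6 6 s) m) ∧ (3 : ℤ) ∣ bb c (vec chevE6 6 s))) ||
    (((List.range 72).all fun s => !b3 c (e7 s) || tst (G j) 0 (e7 s)) &&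
      (List.finRange 7).all fun m => decide (W j m + 1008 = (smN (fun s =>
        bif tst (G j) (K j) (RootVecTab.code chevE7 s) then RootVecTab.dig (RootVecTab.code chevE7 s) (6 - m) else 8) 126 : ℕ)))

private theorem ck7_of {c : Fin 6 → ℕ} {W G : Fin 7 → Fin 7 → ℤ} {K : Fin 7 → ℤ} {C : Fin 7 → Fin 7 → ℤ} {d : ℤ}
    (h : ck7b c W G K = true) (h' : (∀ i m, ∑ j, C i j * W j m = d * (sr i : Fin 7 → ℤ) m) ∧ ¬ (3 : ℤ) ∣ d) :
    CK7 c W G K C d := by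
  refine ⟨fun j => ?_, h'⟩
  have h1 := List.all_eq_true.1 h j (List.mem_finRange j)
  rw [Bool.or_eq_true, Bool.and_eq_true] at h1
  refine h1.imp (fun h2 => ?_) fun h2 => ⟨fun s hs => ?_, fun m => ?_⟩
  · obtain ⟨s, hs, h3⟩ := List.any_eq_true.1 h2
    exact ⟨⟨s, List.mem_range.1 hs⟩, of_decide_eq_true (Bool.and_eq_true_iff.1 h3).2⟩
  · have h3 := List.all_eq_true.1 h2.1 s (List.mem_range.2 s.2)
    rw [b3_of s.2 hs] at h3
    exact (tst_iff (cd6 s s.2)).1 h3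
  · have h3 := of_decide_eq_true (List.all_eq_true.1 h2.2 m (List.mem_finRange m))
    rw [smN_eq, ← eq_sub_iff_add_eq] at h3
    show _ = (∑ s ∈ (Finset.range 126).filter fun s => psi (G j) (vec chevE7 7 s) = K j, vec chevE7 7 s) m
    rw [h3, Finset.sum_apply, Finset.sum_filter, show (1008 : ℤ) = ∑ s ∈ Finset.range 126, 8 by
      rw [Finset.sum_const, Finset.card_range]; rfl, ← Finset.sum_sub_distrib]
    refine Finset.sum_congr rfl fun s hs => ?_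
    have h4 := cd7 (Finset.mem_range.1 hs)
    by_cases h5 : psi (G j) (vec chevE7 7 s) = K j
    · rw [if_pos h5, (tst_iff h4).2 h5, h4 m]
      rfl
    · rw [if_neg h5, Bool.eq_false_iff.2 fun h6 => h5 ((tst_iff h4).1 h6)]
      rfl

private noncomputable def ckab (c : Fin 6 → ℕ) (ev : Fin 6 → Fin 6 → ℤ) : Bool :=
  ((List.range 72).all fun s => !b3 c (e7 s) || (List.finRange 6).any fun i => (List.finRange 6).any fun j =>
    Nat.beq (Nat.add (e7 s) (wc (ex7 (ev j)))) (Nat.add (wc (ex7 (ev i))) 0x8208208208) &&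
      decide (i ≠ j ∧ ∀ m, vec chevE6 6 s m = ev i m - ev j m)) &&
  (((List.finRange 6).all fun i => (List.finRange 6).all fun j => decide (i = j) ||
    (decide ((3 : ℤ) ∣ bb c (ev i - ev j)) && (List.range 72).any fun s =>
      Nat.beq (Nat.add (e7 s) (wc (ex7 (ev j)))) (Nat.add (wc (ex7 (ev i))) 0x8208208208) &&
        decide (∀ m, vec chevE6 6 s m = ev i m - ev j m))) &&
  decide (∀ i j, bl B6 (ev i) (ev j) = (if i = j then 1 else 0) + (if i = 5 then 0 else 1) - if j = 5 then 1 else 0))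

private theorem cka_of {c : Fin 6 → ℕ} {ev : Fin 6 → Fin 6 → ℤ} (h : ckab c ev = true) : CKA c ev := by
  obtain ⟨h1, h2⟩ := Bool.and_eq_true_iff.1 h
  obtain ⟨h2, h3⟩ := Bool.and_eq_true_iff.1 h2
  have h4 := of_decide_eq_true h3
  have e : ∀ i j p q, bl B6 (ev i - ev j) (ev p - ev q) = (if i = p then 1 else 0) - (if i = q then 1 else 0) -
      ((if j = p then 1 else 0) - if j = q then 1 else 0) := fun i j p q => by
    have e1 : ∀ x, bl B6 (ev i - ev j) x = bl B6 (ev i) x - bl B6 (ev j) x := fun x => by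
      show ∑ a, ∑ b, x a * B6 a b * (ev i - ev j) b = ∑ a, ∑ b, x a * B6 a b * ev i b - ∑ a, ∑ b, x a * B6 a b * ev j b
      simp only [Pi.sub_apply, mul_sub, Finset.sum_sub_distrib]
    rw [e1, map_sub, map_sub, h4, h4, h4, h4]
    ring
  refine ⟨fun s hs => ?_, fun i j hij => ?_, fun i j p a b d => ?_, fun i j _ p a b q _ d f => ?_⟩
  · have h5 := List.all_eq_true.1 h1 s (List.mem_range.2 s.2)
    rw [b3_of s.2 hs] at h5
    obtain ⟨i, -, h6⟩ := List.any_eq_true.1 h5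
    obtain ⟨j, -, h7⟩ := List.any_eq_true.1 h6
    exact ⟨i, j, of_decide_eq_true (Bool.and_eq_true_iff.1 h7).2⟩
  · have h5 := List.all_eq_true.1 (List.all_eq_true.1 h2 i (List.mem_finRange i)) j (List.mem_finRange j)
    rw [decide_eq_false hij, Bool.false_or, Bool.and_eq_true] at h5
    obtain ⟨s, hs, h6⟩ := List.any_eq_true.1 h5.2
    exact ⟨of_decide_eq_true h5.1, ⟨s, List.mem_range.1 hs⟩, of_decide_eq_true (Bool.and_eq_true_iff.1 h6).2⟩
  · rw [e, if_neg a, if_neg d, if_pos rfl, if_neg b]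
    rfl
  · rw [e, if_neg b, if_neg d, if_neg a, if_neg f]
    rfl

private noncomputable def _root_.Cfsg.Agent.LsF.f886365_15 : {f // @Cfsg.Agent.BHZ.Exc.CovII.wc = f} := ⟨_, by first | (delta Cfsg.Agent.BHZ.Exc.CovII.wc; rewrite [Cfsg.Agent.LsF.iadd_pat, Cfsg.Agent.LsF.imul_pat, Cfsg.Agent.LsF.toNat_eq]; exact rfl) | exact rfl⟩
private noncomputable def _root_.Cfsg.Agent.LsF.f886365_16 : {f // @Cfsg.Agent.H931.KC.bb = f} := ⟨_, by first | (delta Cfsg.Agent.H931.KC.bb; rewrite [Cfsg.Agent.LsF.icast_pat]; exact rfl) | exact rfl⟩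
private noncomputable def _root_.Cfsg.Agent.LsF.f886365_17 : {f // @Cfsg.Agent.BHZ.Exc.CovII.b3 = f} := ⟨_, by first | (delta Cfsg.Agent.BHZ.Exc.CovII.b3; rewrite [Cfsg.Agent.LsF.f886365_6.2, Cfsg.Agent.LsF.nadd_pat]; exact rfl) | exact rfl⟩
private noncomputable def _root_.Cfsg.Agent.LsF.f886365_18 : {f // @Cfsg.Agent.BHZ.Exc.CovII.ck7b = f} := ⟨_, by first | (delta Cfsg.Agent.BHZ.Exc.CovII.ck7b; rewrite [Cfsg.Agent.LsF.f886365_5.2, Cfsg.Agent.LsF.f886365_15.2, Cfsg.Agent.LsF.f886365_4.2, Cfsg.Agent.LsF.f886365_16.2, Cfsg.Agent.LsF.f886365_17.2, Cfsg.Agent.LsF.f886365_8.2, Cfsg.Agent.LsF.f886365_2.2, Cfsg.Agent.LsF.f886365_0.2, Cfsg.Agent.LsF.nsub_pat, Cfsg.Agent.LsF.iadd_pat, Cfsg.Agent.LsF.icast_pat, Cfsg.Agent.LsF.and_eq, Cfsg.Agent.LsF.or_eq, Cfsg.Agent.LsF.not_eq, Cfsg.Agent.LsF.cond_eq, Cfsg.Agent.LsF.all_eq, Cfsg.Agent.LsF.any_eq, Cfsg.Agent.LsF.range_eq, Cfsg.Agent.LsF.instIDecEq_eq,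 Cfsg.Agent.LsF.dAnd_eq, Cfsg.Agent.LsF.dForallFin_eq, Cfsg.Agent.LsF.finRange_eq, Cfsg.Agent.LsF.idDvd_eq, Cfsg.Agent.LsF.decide_eq]; exact rfl) | exact rfl⟩
theorem ck0 : CK7 ![0, 0, 1, 0, 0, 0]
    ![![1, 0, 0, 0, 0, 0, 0], ![0, 1, 0, 0, 0, 0, 0], ![0, 0, 0, 1, 0, 0, 0], ![0, 0, 0, 0, 1, 0, 0],
      ![0, 0, 0, 0, 0, 1, 0], ![-10, -13, -20, -26, -19, -12, -5], ![-3, -4, -6, -8, -6, -4, -2]]
    ![![0, 0, 0, 0, 0, 0, 0], ![0, 0, 0, 0, 0, 0, 0], ![0, 0, 0, 0, 0, 0, 0], ![0, 0, 0, 0, 0, 0, 0],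
      ![0, 0, 0, 0, 0, 0, 0], ![0, 0, -1, 0, 0, 0, -1], ![0, 0, -1, 0, 0, 0, 0]]
    ![0, 0, 0, 0, 0, 1, 3]
    ![![10, 0, 0, 0, 0, 0, 0], ![0, 10, 0, 0, 0, 0, 0], ![-5, -6, -12, -8, -4, -2, 5], ![0, 0, 10, 0, 0, 0, 0],
      ![0, 0, 0, 10, 0, 0, 0], ![0, 0, 0, 0, 10, 0, 0], ![0, -2, -4, -6, -8, 6, -20]] 10 :=
  ck7_of (by ((try (rewrite [Cfsg.Agent.LsF.f886365_18.2, Cfsg.Agent.LsF.ineg_pat, Cfsg.Agent.LsF.vecCons_eq])); decide +kernel)) (by decide +kernel)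

theorem ck1 : CK7 ![0, 0, 0, 0, 1, 0]
    ![![1, 0, 0, 0, 0, 0, 0], ![0, 1, 0, 0, 0, 0, 0], ![0, 0, 1, 0, 0, 0, 0], ![0, 0, 0, 1, 0, 0, 0],
      ![0, 0, 0, 0, 0, 1, 0], ![-8, -12, -16, -24, -20, -15, -10], ![-6, -9, -12, -18, -15, -10, -5]]
    ![![0, 0, 0, 0, 0, 0, 0], ![0, 0, 0, 0, 0, 0, 0], ![0, 0, 0, 0, 0, 0, 0], ![0, 0, 0, 0, 0, 0, 0],
      ![0, 0, 0, 0, 0, 0, 0], ![0, 0, 0, 0, -1, 0, -1], ![0, 0, 0, 0, -1, 0, 0]]
    ![0, 0, 0, 0, 0, 3, 3]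
    ![![10, 0, 0, 0, 0, 0, 0], ![0, 10, 0, 0, 0, 0, 0], ![0, 0, 10, 0, 0, 0, 0], ![0, 0, 0, 10, 0, 0, 0],
      ![-4, -6, -8, -12, -5, 1, -2], ![0, 0, 0, 0, 10, 0, 0], ![0, 0, 0, 0, -5, -3, 4]] 10 :=
  ck7_of (by ((try (rewrite [Cfsg.Agent.LsF.f886365_18.2, Cfsg.Agent.LsF.ineg_pat, Cfsg.Agent.LsF.vecCons_eq])); decide +kernel)) (by decide +kernel)

theorem ck2 : CK7 ![1, 1, 0, 0, 0, 0]
    ![![0, 0, 1, 0, 0, 0, 0], ![0, 0, 0, 1, 0, 0, 0], ![0, 0, 0, 0, 1, 0, 0], ![0, 0, 0, 0, 0, 1, 0],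
      ![-1, -2, -2, -3, -2, -1, 0], ![8, 2, 8, 8, 6, 4, 2], ![3, 2, 4, 5, 4, 3, 2]]
    ![![0, 0, 0, 0, 0, 0, 0], ![0, 0, 0, 0, 0, 0, 0], ![0, 0, 0, 0, 0, 0, 0], ![0, 0, 0, 0, 0, 0, 0],
      ![0, 0, 0, 0, 0, 0, 0], ![2, -1, 0, 0, 0, 0, 0], ![2, -1, 0, 0, 0, 0, 1]]
    ![0, 0, 0, 0, 0, 2, 3]
    ![![-8, -6, -4, -2, 0, 2, -2], ![-6, -12, -8, -4, -5, -1, 1], ![10, 0, 0, 0, 0, 0, 0], ![0, 10, 0, 0, 0, 0, 0],
      ![0, 0, 10, 0, 0, 0, 0], ![0, 0, 0, 10, 0, 0, 0], ![-2, -4, -6, -8, 5, -2, 7]] 10 :=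
  ck7_of (by ((try (rewrite [Cfsg.Agent.LsF.f886365_18.2, Cfsg.Agent.LsF.ineg_pat, Cfsg.Agent.LsF.vecCons_eq])); decide +kernel)) (by decide +kernel)

theorem ck3 : CK7 ![1, 0, 0, 0, 1, 0]
    ![![0, 1, 0, 0, 0, 0, 0], ![0, 0, 1, 0, 0, 0, 0], ![0, 0, 0, 1, 0, 0, 0], ![0, 0, 0, 0, 0, 1, 0],
      ![-1, -2, -2, -3, -2, -1, 0], ![0, -2, -2, -4, -4, -3, -2], ![4, -2, 0, -4, -6, -4, -2]]
    ![![0, 0, 0, 0, 0, 0, 0], ![0, 0, 0, 0, 0, 0, 0], ![0, 0, 0, 0, 0, 0, 0], ![0, 0, 0, 0, 0, 0, 0],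
      ![0, 0, 0, 0, 0, 0, 0], ![2, 0, 0, 0, -1, 0, -1], ![2, 0, 0, 0, -1, 0, 0]]
    ![0, 0, 0, 0, 0, 3, 2]
    ![![-4, -8, -6, 0, -2, -2, 2], ![10, 0, 0, 0, 0, 0, 0], ![0, 10, 0, 0, 0, 0, 0], ![0, 0, 10, 0, 0, 0, 0],
      ![-8, -6, -12, -5, -4, 1, -1], ![0, 0, 0, 10, 0, 0, 0], ![6, 2, 4, -5, 8, -7, 2]] 10 :=
  ck7_of (by ((try (rewrite [Cfsg.Agent.LsF.f886365_18.2, Cfsg.Agent.LsF.ineg_pat, Cfsg.Agent.LsF.vecCons_eq])); decide +kernel)) (by decide +kernel)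

theorem ck4 : CK7 ![0, 1, 0, 0, 0, 1]
    ![![1, 0, 0, 0, 0, 0, 0], ![0, 0, 1, 0, 0, 0, 0], ![0, 0, 0, 1, 0, 0, 0], ![0, 0, 0, 0, 1, 0, 0],
      ![-1, -2, -2, -3, -2, -1, 0], ![-7, -10, -14, -21, -18, -15, -10], ![-4, -5, -8, -12, -11, -10, -5]]
    ![![0, 0, 0, 0, 0, 0, 0], ![0, 0, 0, 0, 0, 0, 0], ![0, 0, 0, 0, 0, 0, 0], ![0, 0, 0, 0, 0, 0, 0],
      ![0, 0, 0, 0, 0, 0, 0], ![0, 1, 0, 0, 0, -2, -1], ![0, 1, 0, 0, 0, -2, 0]]
    ![0, 0, 0, 0, 0, 3, 3]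
    ![![10, 0, 0, 0, 0, 0, 0], ![-4, -8, -12, -6, -5, -1, 2], ![0, 10, 0, 0, 0, 0, 0], ![0, 0, 10, 0, 0, 0, 0],
      ![0, 0, 0, 10, 0, 0, 0], ![-2, -4, -6, -8, 0, 2, -4], ![0, 0, 0, 0, 5, -3, 4]] 10 :=
  ck7_of (by ((try (rewrite [Cfsg.Agent.LsF.f886365_18.2, Cfsg.Agent.LsF.ineg_pat, Cfsg.Agent.LsF.vecCons_eq])); decide +kernel)) (by decide +kernel)

theorem ck5 : CK7 ![0, 0, 1, 0, 0, 1]
    ![![1, 0, 0, 0, 0, 0, 0], ![0, 1, 0, 0, 0, 0, 0], ![0, 0, 0, 1, 0, 0, 0], ![0, 0, 0, 0, 1, 0, 0],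
      ![-1, -2, -2, -3, -2, -1, 0], ![-2, -5, -4, -10, -11, -12, -5], ![-1, -2, -2, -4, -4, -4, -2]]
    ![![0, 0, 0, 0, 0, 0, 0], ![0, 0, 0, 0, 0, 0, 0], ![0, 0, 0, 0, 0, 0, 0], ![0, 0, 0, 0, 0, 0, 0],
      ![0, 0, 0, 0, 0, 0, 0], ![0, 0, 1, 0, 0, -2, -1], ![0, 0, 1, 0, 0, -2, 0]]
    ![0, 0, 0, 0, 0, 1, 3]
    ![![10, 0, 0, 0, 0, 0, 0], ![0, 10, 0, 0, 0, 0, 0], ![-5, -8, -12, -6, -4, 2, -5], ![0, 0, 10, 0, 0, 0, 0],
      ![0, 0, 0, 10, 0, 0, 0], ![0, -4, -6, -8, -2, -4, 10], ![0, 6, 4, 2, 8, 6, -20]] 10 :=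
  ck7_of (by ((try (rewrite [Cfsg.Agent.LsF.f886365_18.2, Cfsg.Agent.LsF.ineg_pat, Cfsg.Agent.LsF.vecCons_eq])); decide +kernel)) (by decide +kernel)

theorem ck6 : CK7 ![1, 0, 0, 0, 0, 0]
    ![![0, 1, 0, 0, 0, 0, 0], ![0, 0, 1, 0, 0, 0, 0], ![0, 0, 0, 1, 0, 0, 0], ![0, 0, 0, 0, 1, 0, 0],
      ![0, 0, 0, 0, 0, 1, 0], ![-16, -17, -25, -34, -26, -18, -10], ![-2, -2, -3, -4, -3, -2, -1]]
    ![![0, 0, 0, 0, 0, 0, 0], ![0, 0, 0, 0, 0, 0, 0], ![0, 0, 0, 0, 0, 0, 0], ![0, 0, 0, 0, 0, 0, 0],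
      ![0, 0, 0, 0, 0, 0, 0], ![-1, 0, 0, 0, 0, 0, -1], ![-1, 0, 0, 0, 0, 0, 0]]
    ![0, 0, 0, 0, 0, 1, 2]
    ![![-3, -5, -6, -4, -2, 1, -10], ![4, 0, 0, 0, 0, 0, 0], ![0, 4, 0, 0, 0, 0, 0], ![0, 0, 4, 0, 0, 0, 0],
      ![0, 0, 0, 4, 0, 0, 0], ![0, 0, 0, 0, 4, 0, 0], ![-2, -2, -4, -4, -4, -2, 16]] 4 :=
  ck7_of (by ((try (rewrite [Cfsg.Agent.LsF.f886365_18.2, Cfsg.Agent.LsF.ineg_pat, Cfsg.Agent.LsF.vecCons_eq])); decide +kernel)) (by decide +kernel)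

theorem ck7 : CK7 ![2, 0, 0, 0, 0, 0]
    ![![0, 1, 0, 0, 0, 0, 0], ![0, 0, 1, 0, 0, 0, 0], ![0, 0, 0, 1, 0, 0, 0], ![0, 0, 0, 0, 1, 0, 0],
      ![0, 0, 0, 0, 0, 1, 0], ![-16, -17, -25, -34, -26, -18, -10], ![-2, -2, -3, -4, -3, -2, -1]]
    ![![0, 0, 0, 0, 0, 0, 0], ![0, 0, 0, 0, 0, 0, 0], ![0, 0, 0, 0, 0, 0, 0], ![0, 0, 0, 0, 0, 0, 0],
      ![0, 0, 0, 0, 0, 0, 0], ![-1, 0, 0, 0, 0, 0, -1], ![-1, 0, 0, 0, 0, 0, 0]]
    ![0, 0, 0, 0, 0, 1, 2]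
    ![![-3, -5, -6, -4, -2, 1, -10], ![4, 0, 0, 0, 0, 0, 0], ![0, 4, 0, 0, 0, 0, 0], ![0, 0, 4, 0, 0, 0, 0],
      ![0, 0, 0, 4, 0, 0, 0], ![0, 0, 0, 0, 4, 0, 0], ![-2, -2, -4, -4, -4, -2, 16]] 4 :=
  ck7_of (by ((try (rewrite [Cfsg.Agent.LsF.f886365_18.2, Cfsg.Agent.LsF.ineg_pat, Cfsg.Agent.LsF.vecCons_eq])); decide +kernel)) (by decide +kernel)

theorem ck8 : CK7 ![0, 0, 0, 0, 0, 1]
    ![![1, 0, 0, 0, 0, 0, 0], ![0, 1, 0, 0, 0, 0, 0], ![0, 0, 1, 0, 0, 0, 0], ![0, 0, 0, 1, 0, 0, 0],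
      ![0, 0, 0, 0, 1, 0, 0], ![-8, -12, -16, -24, -20, -16, -1], ![-10, -15, -20, -30, -25, -20, -10]]
    ![![0, 0, 0, 0, 0, 0, 0], ![0, 0, 0, 0, 0, 0, 0], ![0, 0, 0, 0, 0, 0, 0], ![0, 0, 0, 0, 0, 0, 0],
      ![0, 0, 0, 0, 0, 0, 0], ![0, 0, 0, 0, 0, -1, -1], ![0, 0, 0, 0, 0, -1, 0]]
    ![0, 0, 0, 0, 0, 1, 2]
    ![![140, 0, 0, 0, 0, 0, 0], ![0, 140, 0, 0, 0, 0, 0], ![0, 0, 140, 0, 0, 0, 0], ![0, 0, 0, 140, 0, 0, 0],
      ![0, 0, 0, 0, 140, 0, 0], ![-70, -105, -140, -210, -175, -10, 1], ![0, 0, 0, 0, 0, 20, -16]] 140 :=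
  ck7_of (by ((try (rewrite [Cfsg.Agent.LsF.f886365_18.2, Cfsg.Agent.LsF.ineg_pat, Cfsg.Agent.LsF.vecCons_eq])); decide +kernel)) (by decide +kernel)

theorem ck9 : CK7 ![0, 0, 0, 0, 0, 2]
    ![![1, 0, 0, 0, 0, 0, 0], ![0, 1, 0, 0, 0, 0, 0], ![0, 0, 1, 0, 0, 0, 0], ![0, 0, 0, 1, 0, 0, 0],
      ![0, 0, 0, 0, 1, 0, 0], ![-8, -12, -16, -24, -20, -16, -1], ![-10, -15, -20, -30, -25, -20, -10]]
    ![![0, 0, 0, 0, 0, 0, 0], ![0, 0, 0, 0, 0, 0, 0], ![0, 0, 0, 0, 0, 0, 0], ![0, 0, 0, 0, 0, 0, 0],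
      ![0, 0, 0, 0, 0, 0, 0], ![0, 0, 0, 0, 0, -1, -1], ![0, 0, 0, 0, 0, -1, 0]]
    ![0, 0, 0, 0, 0, 1, 2]
    ![![140, 0, 0, 0, 0, 0, 0], ![0, 140, 0, 0, 0, 0, 0], ![0, 0, 140, 0, 0, 0, 0], ![0, 0, 0, 140, 0, 0, 0],
      ![0, 0, 0, 0, 140, 0, 0], ![-70, -105, -140, -210, -175, -10, 1], ![0, 0, 0, 0, 0, 20, -16]] 140 :=
  ck7_of (by ((try (rewrite [Cfsg.Agent.LsF.f886365_18.2, Cfsg.Agent.LsF.ineg_pat, Cfsg.Agent.LsF.vecCons_eq])); decide +kernel)) (by decide +kernel)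

theorem ck10 : CK7 ![1, 0, 0, 0, 0, 2]
    ![![0, 1, 0, 0, 0, 0, 0], ![0, 0, 1, 0, 0, 0, 0], ![0, 0, 0, 1, 0, 0, 0], ![0, 0, 0, 0, 1, 0, 0],
      ![-1, -2, -2, -3, -2, -1, 0], ![-2, -10, -11, -20, -19, -18, -10], ![0, -1, -1, -2, -2, -2, -1]]
    ![![0, 0, 0, 0, 0, 0, 0], ![0, 0, 0, 0, 0, 0, 0], ![0, 0, 0, 0, 0, 0, 0], ![0, 0, 0, 0, 0, 0, 0],
      ![0, 0, 0, 0, 0, 0, 0], ![1, 0, 0, 0, 0, -1, -1], ![1, 0, 0, 0, 0, -1, 0]]
    ![0, 0, 0, 0, 0, 1, 2]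
    ![![-4, -5, -6, -3, -2, -1, 10], ![4, 0, 0, 0, 0, 0, 0], ![0, 4, 0, 0, 0, 0, 0], ![0, 0, 4, 0, 0, 0, 0],
      ![0, 0, 0, 4, 0, 0, 0], ![-4, -3, -6, -5, -2, 1, -10], ![4, 2, 4, 2, 4, -2, 16]] 4 :=
  ck7_of (by ((try (rewrite [Cfsg.Agent.LsF.f886365_18.2, Cfsg.Agent.LsF.ineg_pat, Cfsg.Agent.LsF.vecCons_eq])); decide +kernel)) (by decide +kernel)

theorem ck11 : CK7 ![2, 0, 0, 0, 0, 1]
    ![![0, 1, 0, 0, 0, 0, 0], ![0, 0, 1, 0, 0, 0, 0], ![0, 0, 0, 1, 0, 0, 0], ![0, 0, 0, 0, 1, 0, 0],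
      ![-1, -2, -2, -3, -2, -1, 0], ![-2, -10, -11, -20, -19, -18, -10], ![0, -1, -1, -2, -2, -2, -1]]
    ![![0, 0, 0, 0, 0, 0, 0], ![0, 0, 0, 0, 0, 0, 0], ![0, 0, 0, 0, 0, 0, 0], ![0, 0, 0, 0, 0, 0, 0],
      ![0, 0, 0, 0, 0, 0, 0], ![1, 0, 0, 0, 0, -1, -1], ![1, 0, 0, 0, 0, -1, 0]]
    ![0, 0, 0, 0, 0, 1, 2]
    ![![-4, -5, -6, -3, -2, -1, 10], ![4, 0, 0, 0, 0, 0, 0], ![0, 4, 0, 0, 0, 0, 0], ![0, 0, 4, 0, 0, 0, 0],
      ![0, 0, 0, 4, 0, 0, 0], ![-4, -3, -6, -5, -2, 1, -10], ![4, 2, 4, 2, 4, -2, 16]] 4 :=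
  ck7_of (by ((try (rewrite [Cfsg.Agent.LsF.f886365_18.2, Cfsg.Agent.LsF.ineg_pat, Cfsg.Agent.LsF.vecCons_eq])); decide +kernel)) (by decide +kernel)

theorem ck12 : CK7 ![1, 0, 0, 0, 0, 1]
    ![![0, 1, 0, 0, 0, 0, 0], ![0, 0, 1, 0, 0, 0, 0], ![0, 0, 0, 1, 0, 0, 0], ![0, 0, 0, 0, 1, 0, 0],
      ![-16, -17, -25, -34, -26, -18, -9], ![-16, -17, -25, -34, -26, -18, -10], ![-2, -2, -3, -4, -3, -2, -1]]
    ![![0, 0, 0, 0, 0, 0, 0], ![0, 0, 0, 0, 0, 0, 0], ![0, 0, 0, 0, 0, 0, 0], ![0, 0, 0, 0, 0, 0, 0],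
      ![-1, 0, 0, 0, 0, -1, 0], ![-1, 0, 0, 0, 0, 0, -1], ![-1, 0, 0, 0, 0, 0, 0]]
    ![0, 0, 0, 0, 2, 1, 2]
    ![![-1, -2, -2, -1, 1, 0, -9], ![2, 0, 0, 0, 0, 0, 0], ![0, 2, 0, 0, 0, 0, 0], ![0, 0, 2, 0, 0, 0, 0],
      ![0, 0, 0, 2, 0, 0, 0], ![-1, -1, -2, -2, -2, 1, 8], ![0, 0, 0, 0, 2, -2, 0]] 2 :=
  ck7_of (by ((try (rewrite [Cfsg.Agent.LsF.f886365_18.2, Cfsg.Agent.LsF.ineg_pat, Cfsg.Agent.LsF.vecCons_eq])); decide +kernel)) (by decide +kernel)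

private noncomputable def _root_.Cfsg.Agent.LsF.f886365_19 : {f // @Cfsg.Agent.BHZ.Exc.TY.B6 = f} := ⟨_, by first | (delta Cfsg.Agent.BHZ.Exc.TY.B6; rewrite [Cfsg.Agent.LsF.ineg_pat, Cfsg.Agent.LsF.vecCons_eq]; exact rfl) | exact rfl⟩
private noncomputable def _root_.Cfsg.Agent.LsF.f886365_20 : {f // @Cfsg.Agent.BHZ.Exc.CovII.ckab = f} := ⟨_, by first | (delta Cfsg.Agent.BHZ.Exc.CovII.ckab; rewrite [Cfsg.Agent.LsF.psub_pat, Cfsg.Agent.LsF.f886365_17.2, Cfsg.Agent.LsF.f886365_5.2, Cfsg.Agent.LsF.f886365_15.2, Cfsg.Agent.LsF.f886365_4.2, Cfsg.Agent.LsF.f886365_16.2, Cfsg.Agent.LsF.f886365_19.2, Cfsg.Agent.LsF.iadd_pat, Cfsg.Agent.LsF.isub_pat, Cfsg.Agent.LsF.and_eq, Cfsg.Agent.LsF.or_eq, Cfsg.Agent.LsF.not_eq, Cfsg.Agent.LsF.all_eq, Cfsg.Agent.LsF.any_eq, Cfsg.Agent.LsF.range_eq, Cfsg.Agent.LsF.instIDecEq_eq, Cfsg.Agent.LsF.dAnd_eq, Cfsg.Agent.LsF.dNot_eq, Cfsg.Agent.LsF.dFinEq_eq, Cfsg.Agent.LsF.dForallFin_eq,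 Cfsg.Agent.LsF.finRange_eq, Cfsg.Agent.LsF.idDvd_eq, Cfsg.Agent.LsF.ite_eq, Cfsg.Agent.LsF.decide_eq]; exact rfl) | exact rfl⟩
theorem ca0 : CKA ![0, 1, 0, 0, 0, 0]
    ![![1, 0, 1, 1, 1, 1], ![0, 0, 1, 1, 1, 1], ![0, 0, 0, 1, 1, 1], ![0, 0, 0, 0, 1, 1], ![0, 0, 0, 0, 0, 1],
      ![0, 0, 0, 0, 0, 0]] :=
  cka_of (by ((try (rewrite [Cfsg.Agent.LsF.f886365_20.2, Cfsg.Agent.LsF.vecCons_eq])); decide +kernel))

theorem ca1 : CKA ![1, 0, 1, 0, 0, 0]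
    ![![-1, -1, -2, -2, -1, 0], ![0, 1, 0, 1, 1, 1], ![0, 0, 0, 1, 1, 1], ![0, 0, 0, 0, 1, 1], ![0, 0, 0, 0, 0, 1],
      ![0, 0, 0, 0, 0, 0]] :=
  cka_of (by ((try (rewrite [Cfsg.Agent.LsF.f886365_20.2, Cfsg.Agent.LsF.ineg_pat, Cfsg.Agent.LsF.vecCons_eq])); decide +kernel))

theorem ca2 : CKA ![0, 0, 0, 0, 1, 1]
    ![![0, -1, -1, -2, -2, -1], ![1, 1, 1, 1, 0, 0], ![1, 0, 1, 1, 0, 0], ![1, 0, 1, 0, 0, 0], ![1, 0, 0, 0, 0, 0],
      ![0, 0, 0, 0, 0, 0]] :=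
  cka_of (by ((try (rewrite [Cfsg.Agent.LsF.f886365_20.2, Cfsg.Agent.LsF.ineg_pat, Cfsg.Agent.LsF.vecCons_eq])); decide +kernel))

theorem kac_tab : ∀ a0 ≤ 3, ∀ a1 ≤ 1, ∀ a2 ≤ 1, ∀ a3 ≤ 1, ∀ a4 ≤ 1, ∀ a5 ≤ 3,
    a0 + 2 * a1 + 2 * a2 + 3 * a3 + 2 * a4 + a5 ≤ 3 → (∀ i, 3 ∣ (![a0, a1, a2, a3, a4, a5] : Fin 6 → ℕ) i) ∨
    (![a0, a1, a2, a3, a4, a5] : Fin 6 → ℕ) ∈ ([![0, 0, 1, 0, 0, 0], ![0, 0, 0, 0, 1, 0], ![1, 1, 0, 0, 0, 0],
      ![1, 0, 0, 0, 1, 0], ![0, 1, 0, 0, 0, 1], ![0, 0, 1, 0, 0, 1], ![1, 0, 0, 0, 0, 0], ![2, 0, 0, 0, 0, 0],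
      ![0, 0, 0, 0, 0, 1], ![0, 0, 0, 0, 0, 2], ![1, 0, 0, 0, 0, 2], ![2, 0, 0, 0, 0, 1], ![1, 0, 0, 0, 0, 1],
      ![0, 1, 0, 0, 0, 0], ![1, 0, 1, 0, 0, 0], ![0, 0, 0, 0, 1, 1], ![0, 0, 0, 1, 0, 0]] : List (Fin 6 → ℕ)) := by
  decide +kernel

theorem dec6 (hr : r ≠ 3) (t : YY chevE6 r) (ht : t ∈ TT chevE6 (KK r)) (h3 : t ^ 3 = 1) (h1 : t ≠ 1) :
    Dec chevE6 6 3 (Triv hpE6 3 (th6 r)) (Ps hpE6 r {t}) := by
  have := fin6
  obtain ⟨ζ, hζ⟩ := exists_prim (p := r) Nat.prime_three hr.symm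
  obtain ⟨w, c, c0, K, h, -⟩ := H931.KC.exists_kac_pos hpE6 three_pos hζ ht h3
  have h4 : (c0 : ℤ) + (c 0 + 2 * c 1 + 2 * c 2 + 3 * c 3 + 2 * c 4 + c 5) = 3 := by
    have h5 := K.sum
    rw [hrE6, Fin.sum_univ_six] at h5
    simpa using h5
  have e : c = ![c 0, c 1, c 2, c 3, c 4, c 5] := by
    funext i
    fin_cases i <;> rfl
  have h5 := kac_tab (c 0) (by omega) (c 1) (by omega) (c 2) (by omega) (c 3) (by omega) (c 4) (by omega) (c 5) (by omega)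
    (by omega)
  rw [← e] at h5
  rcases h5 with h5 | h5
  · refine absurd (cX_inj hpE6 ht (one_mem _) fun i => ?_) h1
    rw [cX_one, ← rep_apply_inv CoxeterMatrix.E₆.toCoxeterSystem hpE6.isCartan w (sr i), h, hζ.zpow_eq_one_iff_dvd]
    show _ ∣ ∑ j, _ * (c j : ℤ)
    exact Finset.dvd_sum fun j _ => Dvd.dvd.mul_left (Int.natCast_dvd_natCast.2 (h5 j)) _
  refine dec_of_kac (cov0_six hr).surj hζ ht h ?_
  simp only [List.mem_cons, List.not_mem_nil, or_false] at h5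
  rcases h5 with rfl | rfl | rfl | rfl | rfl | rfl | rfl | rfl | rfl | rfl | rfl | rfl | rfl | rfl | rfl | rfl | rfl
  exacts [.base _ (ck0.triv hr), .base _ (ck1.triv hr), .base _ (ck2.triv hr), .base _ (ck3.triv hr),
    .base _ (ck4.triv hr), .base _ (ck5.triv hr), .base _ (ck6.triv hr), .base _ (ck7.triv hr), .base _ (ck8.triv hr),
    .base _ (ck9.triv hr), .base _ (ck10.triv hr), .base _ (ck11.triv hr), .base _ (ck12.triv hr), ca0.dec, ca1.dec,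
    ca2.dec, decA6 hr]

end CovII

open CovII

/-- **[CovII]** -/
theorem boxCovII : BoxCovII := by
  intro r _ hr
  obtain ⟨z, h1, h2⟩ := exists_z hr
  refine ⟨z, ⟨cov0_six hr, tcomm6, fun z hz => root6 z (by rw [hz]; exact one_mem _) three_pos, conn6 hr,
    fun t ht h3 h4 => Or.inl (dec6 hr t ht h3 h4)⟩, h1, h2, fun ζ t h => ?_⟩
  rw [Ps_eq_SK h.1 h.2.1 (c := ![1, 0, 0, 0, 0, 1]) fun x => by rw [h.2.2, bb6]; simp]
  exact ck12.triv hr

end Cfsg.Agent.BHZ.Exc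
end

-- part: BHZ/Exc/AG
section
set_option linter.all false
open scoped Cfsg.Agent.FastGrp

/-!
# S4806, exceptional groups, type `A₂³`: group theory (helper34)

`Act`, `Tri`, the diagonal `Tri.δ`, `exists_fixed`.
-/

set_option autoImplicit false
set_option linter.unusedSectionVars false
set_option maxRecDepth 100000

namespace Cfsg.Agent.BHZ.Exc

open CoxeterSystem Cfsg Cfsg.Lie Cfsg.Lie.ChevalleyDatum
open Cfsg.Agent.ChevalleyStructure Cfsg.Agent.ChevalleyStructure.Elts Cfsg.Agent.ChevalleyStructure.CoxeterGeom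
  Cfsg.Agent.ChevalleyStructure.CoxeterGeomTypes
open Cfsg.Agent.Tits.Roots Cfsg.Agent.Tits.Core Cfsg.Agent.Nodes Cfsg.Agent.Nodes.Reps Cfsg.Agent.Nodes.BNOf
  Cfsg.Agent.Nodes.RGDChev Cfsg.Agent.Nodes.Bruhat
open Cfsg.Agent.KFacts.RgdField Cfsg.Agent.KFacts.RgdChevCoord
open Cfsg.Agent.BpExc Cfsg.Agent.BpExc.TorCent Cfsg.Agent.BpExc.TorChev Cfsg.Agent.BpExc.Tow
  Cfsg.Agent.BpExc.TowChev Cfsg.Agent.BpExc.Fr Cfsg.Agent.BpExc.LangFr
open Cfsg.Agent.H469.Exc Cfsg.Agent.H795.SetCent Cfsg.Agent.H129.TorusChar Cfsg.Agent.DS.Ex Cfsg.Agent.DS.Nt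
open Cfsg.Agent.H46.Gen (AFr Rt xf)
open Cfsg.Agent.H321.Ker (cj stG stm sc)
open Cfsg.Agent.H931.KC (al)
open Cfsg.Agent.H665.NoPQ (HasDZ)
open scoped MatrixGroups
open Matrix.SpecialLinearGroup (transvection)

namespace AA

section Act

variable {S Y : Type*} [Group S] [Group Y] {φ : S →* Y} {y y' b : Y} {g g' : S}

/-- `y` acts on the image of `φ` as `g` -/
def Act (φ : S →* Y) (y : Y) (g : S) : Prop := ∀ m, y * φ m * y⁻¹ = φ (g * m * g⁻¹)

theorem Act.mul (h : Act φ y g) (h' : Act φ y' g') : Act φ (y * y') (g * g') := fun m => by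
  have e : y * y' * φ m * (y * y')⁻¹ = y * (y' * φ m * y'⁻¹) * y⁻¹ := by group
  rw [e, h', h]
  congr 1
  group

theorem Act.inv (h : Act φ y g) : Act φ y⁻¹ g⁻¹ := fun m => by
  have e := h (g⁻¹ * m * g⁻¹⁻¹)
  have e2 : g * (g⁻¹ * m * g⁻¹⁻¹) * g⁻¹ = m := by group
  rw [e2] at e
  rw [← e]
  group

theorem act_of_comm (h : ∀ m, y * φ m = φ m * y) : Act φ y 1 := fun m => by
  rw [h, mul_inv_cancel_right, one_mul, inv_one, mul_one]

theorem act_one : Act φ 1 1 := act_of_comm fun m => by rw [one_mul, mul_one]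

theorem Act.pow (h : Act φ y g) (n : ℕ) : Act φ (y ^ n) (g ^ n) := by
  induction n with
  | zero => rw [pow_zero, pow_zero]; exact act_one
  | succ n ih => rw [pow_succ, pow_succ]; exact ih.mul h

theorem act_self (g : S) : Act φ (φ g) g := fun m => by rw [map_mul, map_mul, map_inv]

theorem Act.comm (h : Act φ y g) {m : S} (hm : g * m = m * g) : y * φ m = φ m * y := by
  have e := h m
  rw [hm, mul_inv_cancel_right] at e
  calc y * φ m = y * φ m * y⁻¹ * y := by group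
    _ = φ m * y := by rw [e]

theorem Act.of_center (h : Act φ y g) (hg : g ∈ Subgroup.center S) (m : S) : y * φ m = φ m * y :=
  h.comm (Subgroup.mem_center_iff.1 hg m).symm

theorem Act.mul_center (h : Act φ y g) {c : S} (hc : c ∈ Subgroup.center S) : Act φ y (g * c) := fun m => by
  rw [h]
  congr 1
  have e := Subgroup.mem_center_iff.1 hc m
  calc g * m * g⁻¹ = g * (m * c) * c⁻¹ * g⁻¹ := by group
    _ = g * (c * m) * c⁻¹ * g⁻¹ := by rw [e]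
    _ = _ := by group

/-- three commuting conjugates -/
structure Tri (φ : S →* Y) (b : Y) : Prop where
  c1 : ∀ m m', φ m * (b * φ m' * b⁻¹) = b * φ m' * b⁻¹ * φ m
  c2 : ∀ m m', φ m * (b⁻¹ * φ m' * b) = b⁻¹ * φ m' * b * φ m
  b3 : b ^ 3 ∈ Subgroup.center Y

theorem Tri.sq (h : Tri φ b) (x : Y) : b * (b * x * b⁻¹) * b⁻¹ = b⁻¹ * x * b := by
  have e := Subgroup.mem_center_iff.1 h.b3 x
  calc b * (b * x * b⁻¹) * b⁻¹ = b⁻¹ * (b ^ 3 * x) * (b ^ 3)⁻¹ * b := by rw [pow_three]; group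
    _ = b⁻¹ * (x * b ^ 3) * (b ^ 3)⁻¹ * b := by rw [e]
    _ = _ := by group

theorem Tri.c3 (h : Tri φ b) (m m' : S) :
    b * φ m * b⁻¹ * (b⁻¹ * φ m' * b) = b⁻¹ * φ m' * b * (b * φ m * b⁻¹) := by
  rw [← h.sq]
  calc b * φ m * b⁻¹ * (b * (b * φ m' * b⁻¹) * b⁻¹) = b * (φ m * (b * φ m' * b⁻¹)) * b⁻¹ := by group
    _ = b * (b * φ m' * b⁻¹ * φ m) * b⁻¹ := by rw [h.c1]
    _ = _ := by group

/-- the product of three components -/
def tri (φ : S →* Y) (b : Y) (g0 g1 g2 : S) : Y := φ g0 * (b * φ g1 * b⁻¹) * (b⁻¹ * φ g2 * b)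

theorem Tri.mul (h : Tri φ b) (g0 g1 g2 h0 h1 h2 : S) :
    tri φ b (g0 * h0) (g1 * h1) (g2 * h2) = tri φ b g0 g1 g2 * tri φ b h0 h1 h2 := by
  unfold tri
  have e1 : b * φ (g1 * h1) * b⁻¹ = b * φ g1 * b⁻¹ * (b * φ h1 * b⁻¹) := by rw [map_mul]; group
  have e2 : b⁻¹ * φ (g2 * h2) * b = b⁻¹ * φ g2 * b * (b⁻¹ * φ h2 * b) := by rw [map_mul]; group
  rw [e1, e2, map_mul]
  have a1 := h.c1 h0 g1
  have a2 := h.c2 h0 g2
  have a3 := h.c3 h1 g2
  generalize b * φ g1 * b⁻¹ = u1 at *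
  generalize b * φ h1 * b⁻¹ = v1 at *
  generalize b⁻¹ * φ g2 * b = u2 at *
  generalize b⁻¹ * φ h2 * b = v2 at *
  calc φ g0 * φ h0 * (u1 * v1) * (u2 * v2) = φ g0 * (φ h0 * u1) * (v1 * u2) * v2 := by group
    _ = φ g0 * u1 * (φ h0 * u2) * v1 * v2 := by rw [a1, a3]; group
    _ = _ := by rw [a2]; group

theorem tri_one : tri φ b 1 1 1 = 1 := by
  unfold tri
  rw [map_one]
  group

theorem Tri.pow (h : Tri φ b) (g0 g1 g2 : S) (n : ℕ) : tri φ b g0 g1 g2 ^ n = tri φ b (g0 ^ n) (g1 ^ n) (g2 ^ n) := by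
  induction n with
  | zero => simp only [pow_zero, tri_one]
  | succ n ih => rw [pow_succ, pow_succ, pow_succ, pow_succ, h.mul, ih]

theorem Tri.rot (h : Tri φ b) (g0 g1 g2 : S) : b * tri φ b g0 g1 g2 * b⁻¹ = tri φ b g2 g0 g1 := by
  unfold tri
  calc b * (φ g0 * (b * φ g1 * b⁻¹) * (b⁻¹ * φ g2 * b)) * b⁻¹
      = b * φ g0 * b⁻¹ * (b * (b * φ g1 * b⁻¹) * b⁻¹ * φ g2) := by group
    _ = b * φ g0 * b⁻¹ * φ g2 * (b⁻¹ * φ g1 * b) := by rw [h.sq, ← h.c2]; group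
    _ = _ := by rw [← h.c1]

theorem Tri.act0 (h : Tri φ b) (g0 g1 g2 : S) : Act φ (tri φ b g0 g1 g2) g0 := by
  have e := ((act_self (φ := φ) g0).mul (act_of_comm fun m => (h.c1 m g1).symm)).mul
    (act_of_comm fun m => (h.c2 m g2).symm)
  rwa [mul_one, mul_one] at e

theorem Tri.act1 (h : Tri φ b) (g0 g1 g2 : S) : Act φ (b⁻¹ * tri φ b g0 g1 g2 * b) g1 := by
  rw [← h.sq, h.rot, h.rot]
  exact h.act0 _ _ _

theorem Tri.act2 (h : Tri φ b) (g0 g1 g2 : S) : Act φ (b * tri φ b g0 g1 g2 * b⁻¹) g2 := by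
  rw [h.rot]
  exact h.act0 _ _ _

theorem conj_tri {h0 h1 h2 : S} (a0 : Act φ y h0) (a1 : Act φ (b⁻¹ * y * b) h1) (a2 : Act φ (b * y * b⁻¹) h2)
    (g0 g1 g2 : S) : y * tri φ b g0 g1 g2 * y⁻¹ = tri φ b (h0 * g0 * h0⁻¹) (h1 * g1 * h1⁻¹) (h2 * g2 * h2⁻¹) := by
  unfold tri
  rw [← a0, ← a1, ← a2]
  group

/-- the diagonal -/
def Tri.δ (h : Tri φ b) : S →* Y := MonoidHom.mk' (fun g => tri φ b g g g) fun g g' => h.mul g g g g' g' g'

theorem Tri.δ_apply (h : Tri φ b) (g : S) : h.δ g = tri φ b g g g := rfl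

theorem Tri.b_δ (h : Tri φ b) (g : S) : b * h.δ g = h.δ g * b := by
  have e := h.rot g g g
  rw [h.δ_apply]
  calc b * tri φ b g g g = b * tri φ b g g g * b⁻¹ * b := by group
    _ = _ := by rw [e]

theorem Tri.bpow_δ (h : Tri φ b) (k : ℕ) (g : S) : b ^ k * h.δ g = h.δ g * b ^ k :=
  (Commute.pow_left (h.b_δ g) k).eq

theorem Tri.act_δ (h : Tri φ b) {u : S} (a0 : Act φ y u) (a1 : Act φ (b⁻¹ * y * b) u) (a2 : Act φ (b * y * b⁻¹) u) :
    Act h.δ y u := fun g => conj_tri a0 a1 a2 g g g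

theorem Tri.comm_δ (h : Tri φ b) {h0 h1 h2 : S} (a0 : Act φ y h0) (a1 : Act φ (b⁻¹ * y * b) h1)
    (a2 : Act φ (b * y * b⁻¹) h2) (e0 : h0 * g = g * h0) (e1 : h1 * g = g * h1) (e2 : h2 * g = g * h2) :
    y * h.δ g = h.δ g * y := by
  have e := conj_tri a0 a1 a2 g g g
  rw [e0, e1, e2, mul_inv_cancel_right, mul_inv_cancel_right, mul_inv_cancel_right] at e
  rw [h.δ_apply]
  calc y * tri φ b g g g = y * tri φ b g g g * y⁻¹ * y := by group
    _ = _ := by rw [e]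

/-- an endomorphism which permutes the components -/
theorem Tri.map_δ (h : Tri φ b) {α : Y →* Y} {z : Y} (hz : z ∈ Subgroup.center Y) (hb : α b = b * z) {k : ℕ}
    {τ : S → S} (hα : ∀ m, α (φ m) = b ^ k * φ (τ m) * (b ^ k)⁻¹) (g : S) : α (h.δ g) = h.δ (τ g) := by
  have e1 : ∀ x, b * z * x * (b * z)⁻¹ = b * x * b⁻¹ := fun x => by
    have e := Subgroup.mem_center_iff.1 hz x
    calc b * z * x * (b * z)⁻¹ = b * (z * x) * z⁻¹ * b⁻¹ := by group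
      _ = b * (x * z) * z⁻¹ * b⁻¹ := by rw [e]
      _ = _ := by group
  have e2 : ∀ x, (b * z)⁻¹ * x * (b * z) = b⁻¹ * x * b := fun x => by
    have e := Subgroup.mem_center_iff.1 hz (b⁻¹ * x * b)
    calc (b * z)⁻¹ * x * (b * z) = z⁻¹ * (b⁻¹ * x * b * z) := by group
      _ = z⁻¹ * (z * (b⁻¹ * x * b)) := by rw [e]
      _ = _ := by group
  have e3 : α (h.δ g) = b ^ k * h.δ (τ g) * (b ^ k)⁻¹ := by
    rw [h.δ_apply, h.δ_apply]
    unfold tri
    simp only [map_mul, map_inv]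
    rw [hb, e1, e2, hα]
    group
  rw [e3, h.bpow_δ, mul_inv_cancel_right]

/-- the diagonal kills an element of order `3` which is moved by a central element of order `3` -/
theorem Tri.δ_eq_one (h : Tri φ b) {z : Y} (hz : z ∈ Subgroup.center Y) (hz3 : z ^ 3 = 1) (hg : g ^ 3 = 1)
    (e : b * φ g * b⁻¹ = φ g * z) : h.δ g = 1 := by
  have hc : Commute (φ g) z := Subgroup.mem_center_iff.1 hz _
  have e2 : b⁻¹ * φ g * b = φ g * z * z := by
    rw [← h.sq, e]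
    have e3 := Subgroup.mem_center_iff.1 hz b⁻¹
    calc b * (φ g * z) * b⁻¹ = b * φ g * (z * b⁻¹) := by group
      _ = b * φ g * b⁻¹ * z := by rw [← e3]; group
      _ = _ := by rw [e]
  rw [h.δ_apply]
  unfold tri
  rw [e, e2]
  calc φ g * (φ g * z) * (φ g * z * z) = φ g * φ g * (z * φ g) * z * z := by group
    _ = φ g ^ 3 * z ^ 3 := by rw [← hc.eq, pow_three, pow_three]; simp only [mul_assoc]
    _ = 1 := by rw [← map_pow, hg, map_one, hz3, mul_one]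

end Act

/-- an endomorphism of order `3` of an abelian group has a fixed point of order `3` -/
theorem exists_fixed {L : Type*} [Group L] {H : Subgroup L} (hc : ∀ x ∈ H, ∀ y ∈ H, x * y = y * x) {f : L →* L}
    (hf : ∀ x ∈ H, f x ∈ H) (h3 : ∀ x ∈ H, f (f (f x)) = x) {u : L} (hu : u ∈ H) (h1 : u ≠ 1) {n : ℕ}
    (hn : u ^ 3 ^ n = 1) : ∃ v ∈ H, v ≠ 1 ∧ v ^ 3 = 1 ∧ f v = v := by
  obtain ⟨a, ha, ha1, ha3⟩ : ∃ a ∈ H, a ≠ 1 ∧ a ^ 3 = 1 := by
    induction n generalizing u with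
    | zero => exact absurd (by simpa using hn) h1
    | succ n ih =>
      by_cases h : u ^ 3 = 1
      · exact ⟨u, hu, h1, h⟩
      · exact ih (pow_mem hu 3) h (by rw [← pow_mul, ← pow_succ']; exact hn)
  have step : ∀ x ∈ H, x ^ 3 = 1 → f x * x⁻¹ ∈ H ∧ (f x * x⁻¹) ^ 3 = 1 := fun x hx hx3 => by
    refine ⟨mul_mem (hf x hx) (inv_mem hx), ?_⟩
    rw [Commute.mul_pow (hc _ (hf x hx) _ (inv_mem hx)), ← map_pow, inv_pow, hx3, map_one, inv_one, mul_one]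
  by_cases e1 : f a * a⁻¹ = 1
  · exact ⟨a, ha, ha1, ha3, mul_inv_eq_one.1 e1⟩
  obtain ⟨hb, hb3⟩ := step a ha ha3
  by_cases e2 : f (f a * a⁻¹) * (f a * a⁻¹)⁻¹ = 1
  · exact ⟨_, hb, e1, hb3, mul_inv_eq_one.1 e2⟩
  obtain ⟨hd, hd3⟩ := step _ hb hb3
  refine ⟨_, hd, e2, hd3, ?_⟩
  have a1 := hf a ha
  have a2 := hf _ a1
  have p1 : f a ^ 3 = 1 := by rw [← map_pow, ha3, map_one]
  have p2 : f (f a) ^ 3 = 1 := by rw [← map_pow, p1, map_one]
  simp only [map_mul, map_inv]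
  rw [h3 a ha]
  have c1 : Commute a (f a) := hc _ ha _ a1
  have c2 : Commute a (f (f a)) := hc _ ha _ a2
  have c3 : Commute (f a) (f (f a)) := hc _ a1 _ a2
  generalize f (f a) = x2 at *
  generalize f a = x1 at *
  have i1 : x1⁻¹ = x1 * x1 := by rw [inv_eq_iff_mul_eq_one, ← pow_three, p1]
  have i2 : x2⁻¹ = x2 * x2 := by rw [inv_eq_iff_mul_eq_one, ← pow_three, p2]
  calc a * x2⁻¹ * (x2 * x1⁻¹)⁻¹ = a * (x2⁻¹ * x1) * x2⁻¹ := by group
    _ = a * x1 * (x2⁻¹ * x2⁻¹) := by rw [← c3.inv_right.eq]; group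
    _ = a * x1 * x2 := by
      congr 1
      rw [← mul_inv_rev, ← i2, inv_inv]
    _ = x2 * (a * x1) := ((c2.mul_left c3).eq)
    _ = x2 * (x1⁻¹ * x1⁻¹) * a := by
      rw [← mul_inv_rev, ← i1, inv_inv, c1.eq, mul_assoc]
    _ = x2 * x1⁻¹ * (a * x1⁻¹) := by rw [c1.inv_right.eq]; group
    _ = _ := by group

end AA

end Cfsg.Agent.BHZ.Exc
end

-- part: BHZ/Exc/TAI
section
set_option linter.all false

/-!
# S4806, box TA: the interface between the geometric and the group theoretic half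
-/

set_option autoImplicit false

namespace Cfsg.Agent.BHZ.Exc

open Cfsg Cfsg.Agent.H469.Exc
open Cfsg.Agent.H321.Ker (stG stm sc)
open scoped MatrixGroups
open Matrix.SpecialLinearGroup (toGL)

/-- `Act y h` : `y` acts on the component as `h`; `ν` : the fixed points of the component map to `X`. -/
structure TAD {r : ℕ} [Fact r.Prime] (p : ℕ) {n : ℕ} (e : ℕ) (Dm : GL (Fin (n + 1)) (KK r)) (uni : Bool) {X : Type}
    [Group X] (a : X) (Act : X → GL (Fin (n + 1)) (KK r) → Prop)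
    (ν : (stm r e Dm uni).eqLocus (MonoidHom.id _) →* X) : Prop where
  he : 0 < e
  one : Act a 1
  mul : ∀ y h y' h', Act y h → Act y' h' → Act (y * y') (h * h')
  inv : ∀ y h, Act y h → Act y⁻¹ h⁻¹
  uniq : ∀ y h h', Act y h → Act y h' → h⁻¹ * h' ∈ Geo.scalars (Fin (n + 1)) (KK r)
  smul : ∀ y h c, Act y h → Act y (h * sc (n + 1) c)
  frob : ∀ y h, Act y h → ∃ c, stG r e Dm uni h = sc (n + 1) c * h
  self : ∀ m, Act (ν m) (toGL m.1)
  conj : ∀ y h m m', Act y h → h * toGL m.1 * h⁻¹ = toGL m'.1 → y * ν m * y⁻¹ = ν m'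
  reg : ∀ y, y * a = a * y → ¬ p ∣ orderOf y → ∃ h, Act y h

/-- the group theoretic half of TA -/
def BoxTA2 : Prop := ∀ (r : ℕ) [Fact r.Prime] (p c : ℕ) [Fact p.Prime], p ≠ 2 → p ≠ r → ∀ (n e : ℕ)
  (Dm : GL (Fin (n + 1)) (KK r)) (uni : Bool) (X : Type) [Group X] [Finite X] (Q : Subgroup X), LocX p c X Q →
  ∀ a ∈ Q, ∀ (Act : X → GL (Fin (n + 1)) (KK r) → Prop) (ν : (stm r e Dm uni).eqLocus (MonoidHom.id _) →* X),
    TAD p e Dm uni a Act ν → ∀ d ∈ Q, ∀ d' ∈ Q, ∀ h h', Act d h → Act d' h' → h * h' = h' * h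

end Cfsg.Agent.BHZ.Exc
end

-- part: BHZ/Exc/Frob6A
section
prune_inst 0x30307d00050000000018000280003c66a0000000106b8800186003040ec29b220003a70108501a0200102a900004004000100050403000002a008200400505011429100690580c0040000080f804000000000000000000000000000000041000200000000
set_option linter.all false
open scoped Cfsg.Agent.FastGrp

/-!
# S4806, exceptional groups: the normal form of a Frobenius map (helper37)

* `rigid` : an automorphism which is linear on all root groups and trivial on the simple ones is trivial;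
* `eq_conj_mul` : two automorphisms of the form `Frm e g` differ by a torus element;
* `exists_nf` : type `E₆`, `σ = conj y * sg0 π`, `π` trivial or the graph symmetry.
-/

set_option autoImplicit false
set_option linter.unusedSectionVars false

namespace Cfsg.Agent.BHZ.Exc.Six

open CoxeterSystem Cfsg Cfsg.Lie Cfsg.Lie.ChevalleyDatum
open Cfsg.Agent.ChevalleyStructure Cfsg.Agent.ChevalleyStructure.Elts Cfsg.Agent.ChevalleyStructure.CoxeterGeom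
  Cfsg.Agent.ChevalleyStructure.CoxeterGeomTypes
open Cfsg.Agent.Tits.Roots Cfsg.Agent.Nodes Cfsg.Agent.Nodes.BNOf Cfsg.Agent.Nodes.RGDChev Cfsg.Agent.Nodes.Coroot
open Cfsg.Agent.KFacts.RgdChevCoord
open Cfsg.Agent.BpExc Cfsg.Agent.BpExc.TowChev Cfsg.Agent.BpExc.Fr Cfsg.Agent.BpExc.LangFr
open Cfsg.Agent.H469.Exc Cfsg.Agent.H129.TorusChar Cfsg.Agent.DS.Ex Cfsg.Agent.DS.Nt
open Cfsg.Agent.H720.TwFr (permE rho6 sig6)

section Gen

variable {D : ChevalleyDatum} {l : ℕ} {M : CoxeterMatrix (Fin l)} {hp : IsType D l M} {r : ℕ} [Fact r.Prime]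

theorem center_YY (hD : Typ D) (r : ℕ) [Fact r.Prime] : Subgroup.center (YY D r) = ⊥ := by
  obtain ⟨h1, h2⟩ := S1054.result (F := KK r) D (by rcases hD with rfl | rfl | rfl | rfl <;> simp)
  rcases h1.eq_bot_or_eq_top_of_normal (Subgroup.center (YY D r)) inferInstance with h | h
  · exact h
  · exact absurd ⟨⟨fun x y => Subgroup.mem_center_iff.1 (h ▸ Subgroup.mem_top y) x⟩⟩ h2

theorem cX_act {a : Fin l → ℤ} (ha : IsRoot M.toCoxeterSystem hp.isCartan a) {t : YY D r} (ht : t ∈ TT D (KK r))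
    (s : KK r) : t * xc hp a s * t⁻¹ = xc hp a (cX hp t a * s) := by
  rw [cX_root hp M.toCoxeterSystem ht ha]
  obtain ⟨s', hs, rfl⟩ := (isRoot_iff hp M.toCoxeterSystem a).1 ha
  exact (act hp hs ht).2 s

theorem mem_Xj {E : Lev (KK r)} {a : Fin l → ℤ} (ha : IsRoot M.toCoxeterSystem hp.isCartan a) {y : YY D r} :
    y ∈ Xj hp E a ↔ ∃ s ∈ E.1, xc hp a s = y := by
  have := charP_lev r E.1
  have C := coords (K := ↥E.1) hp M.toCoxeterSystem r
  constructor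
  · rintro ⟨u, hu, rfl⟩
    obtain ⟨s, rfl⟩ := ((C.coord a ha).mem u).1 hu
    exact ⟨s, s.2, (emb_xc hp E.1.subtype a s).symm⟩
  · rintro ⟨s, hs, rfl⟩
    exact ⟨xc hp a (⟨s, hs⟩ : ↥E.1), ((C.coord a ha).mem _).2 ⟨_, rfl⟩, emb_xc hp _ a _⟩

/-- homomorphisms which agree on the root elements -/
theorem ext_xc {H : Type*} [Group H] {f f' : YY D r →* H}
    (h : ∀ a, IsRoot M.toCoxeterSystem hp.isCartan a → ∀ s, f (xc hp a s) = f' (xc hp a s)) (y : YY D r) :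
    f y = f' y := by
  induction y using FamExt.group_induction hp with
  | h1 => rw [map_one, map_one]
  | hm a b ha hb => rw [map_mul, map_mul, ha, hb]
  | hi a ha => rw [map_inv, map_inv, ha]
  | hx s hs t => exact h _ ((isRoot_iff hp M.toCoxeterSystem _).2 ⟨s, hs, rfl⟩) t

/-- **Rigidity.** -/
theorem rigid (hD : Typ D) {β : MulAut (YY D r)}
    (hx : ∀ a, IsRoot M.toCoxeterSystem hp.isCartan a → ∃ c : KK r, c ≠ 0 ∧ ∀ s, β (xc hp a s) = xc hp a (c * s))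
    (h1 : ∀ i s, β (xc hp (sr i) s) = xc hp (sr i) s) : β = 1 := by
  have := finW hp
  have hfix : ∀ t ∈ TT D (KK r), β t = t := by
    intro t ht
    have h2 : ∀ y, (MulAut.conj (β t)).toMonoidHom y = (MulAut.conj t).toMonoidHom y := by
      refine ext_xc (hp := hp) fun a ha s => ?_
      obtain ⟨c, hc, e⟩ := hx a ha
      have h2 := congrArg β (cX_act (hp := hp) ha ht (c⁻¹ * s))
      rw [map_mul, map_mul, map_inv, e, e, mul_inv_cancel_left₀ hc, mul_left_comm, mul_inv_cancel_left₀ hc,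
        ← cX_act ha ht] at h2
      exact h2
    have h3 : t⁻¹ * β t ∈ Subgroup.center (YY D r) := by
      refine Subgroup.mem_center_iff.2 fun y => ?_
      have h4 : β t * y * (β t)⁻¹ = t * y * t⁻¹ := h2 y
      calc y * (t⁻¹ * β t) = t⁻¹ * (t * y * t⁻¹) * β t := by group
        _ = t⁻¹ * β t * y := by rw [← h4]; group
    rw [center_YY hD, Subgroup.mem_bot] at h3
    exact (inv_mul_eq_one.1 h3).symm
  choose c hc0 hc using fun i : Fin l => hx (-sr i) (isRoot_sr _ _ i).neg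
  have key : ∀ a, IsRoot M.toCoxeterSystem hp.isCartan a → ∀ s : KK r, β (xc hp a s) = xc hp a s := by
    intro a ha s
    obtain ⟨E, hE⟩ := exists_lev (locFin r) (insert s (Set.range c)) ((Set.finite_range c).insert s)
    have R := (tw hp r).rgd E
    have hcE : ∀ i, c i ∈ E.1 := fun i => hE (Set.mem_insert_of_mem _ ⟨i, rfl⟩)
    have hpos : ∀ i, ∀ x ∈ Xj hp E (sr i), β x = x := by
      intro i x hx
      obtain ⟨u, -, rfl⟩ := (mem_Xj (isRoot_sr _ _ i)).1 hx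
      exact h1 i u
    have hTj : ∀ t ∈ Tj hp E, β t = t := fun t ht => hfix t (by
      rw [← TLe hp r]
      exact Tow.le_TL E ht)
    have Dβ : KFacts.RgdDiag.Diag (Tj hp E) (Xj hp E) β 1 := by
      refine ⟨fun t => ⟨fun h => ?_, fun h => ?_⟩, fun i x => ⟨fun h => ?_, fun h => ?_⟩,
        fun i x => ⟨fun h => ?_, fun h => ?_⟩⟩
      · rwa [β.injective (hTj _ h)] at h
      · rwa [hTj _ h]
      · rwa [β.injective (hpos i _ h)] at h
      · rw [hpos i _ h]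
        exact h
      · obtain ⟨u, hu, e⟩ := (mem_Xj (isRoot_sr _ _ i).neg).1 h
        refine (mem_Xj (isRoot_sr _ _ i).neg).2 ⟨(c i)⁻¹ * u, mul_mem (inv_mem (hcE i)) hu, β.injective ?_⟩
        rw [hc, mul_inv_cancel_left₀ (hc0 i), e]
      · obtain ⟨u, hu, rfl⟩ := (mem_Xj (isRoot_sr _ _ i).neg).1 h
        exact (mem_Xj (isRoot_sr _ _ i).neg).2 ⟨c i * u, mul_mem (hcE i) hu, (hc i u).symm⟩
    have h2 : RGD.Sup (Xj hp E) {x | IsRoot M.toCoxeterSystem hp.isCartan x} ≤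
        β.toMonoidHom.eqLocus (MonoidHom.id (YY D r)) :=
      KFacts.RgdRigid.Sup_le_of_simple R (fun i x hx => hpos i x hx)
        (fun i x hx => KFacts.RgdRigid.Diag.apply_neg R Dβ (hpos i) hx)
    exact h2 (RGD.le_Sup (X := Xj hp E) (S := {x | IsRoot M.toCoxeterSystem hp.isCartan x}) ha
      ((mem_Xj ha).2 ⟨s, hE (Set.mem_insert _ _), rfl⟩))
  ext1 y
  exact ext_xc (hp := hp) (f := β.toMonoidHom) (f' := MonoidHom.id _) key y

variable (hp) in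
/-- `σ` has the form of a Frobenius map on the root groups -/
def Frm (e : ℕ) (σ : MulAut (YY D r)) (g : (Fin l → ℤ) ≃+ (Fin l → ℤ)) : Prop :=
  ∀ a, IsRoot M.toCoxeterSystem hp.isCartan a →
    ∃ u : KK r, u ≠ 0 ∧ ∀ s : KK r, σ (xc hp a s) = xc hp (g a) (u * s ^ r ^ e)

variable {e : ℕ} {σ σ' : MulAut (YY D r)} {g g' : (Fin l → ℤ) ≃+ (Fin l → ℤ)}

theorem Frm.of_fr (h : IsFrob r e σ)
    (F : Fr M.toCoxeterSystem hp.isCartan (TT D (KK r)) (XX D l (KK r)) σ g) : Frm hp e σ g :=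
  fun _ ha => HX.fr_xc hp M.toCoxeterSystem h F ha

theorem Frm.mul_conj (h : Frm hp e σ g) {w : M.Group} {k : YY D r} (hk : RP hp r w k) :
    Frm hp e (σ * MulAut.conj k) ((repAut M.toCoxeterSystem hp.isCartan w).trans g) := by
  intro a ha
  obtain ⟨c, hc0, hc⟩ := Frm.of_fr (IsFrob.conj k) hk.fr a ha
  obtain ⟨u, hu0, hu⟩ := h _ (ha.act w)
  refine ⟨u * c ^ r ^ e, mul_ne_zero hu0 (pow_ne_zero _ hc0), fun s => ?_⟩
  rw [MulAut.mul_apply, hc, pow_zero, pow_one, repAut_apply, hu, mul_pow, mul_assoc]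
  rfl

/-- **Two maps of the same form differ by a torus element.** -/
theorem eq_conj_mul (hD : Typ D) (h : Frm hp e σ g) (h' : Frm hp e σ' g) :
    ∃ t ∈ TT D (KK r), σ = σ' * MulAut.conj t := by
  have hq : 0 < r ^ e := pow_pos (Fact.out : r.Prime).pos e
  have hinj : ∀ a b : KK r, a ^ r ^ e = b ^ r ^ e → a = b := fun a b hab =>
    (FamField.frb (KK r) r e).injective (by rw [FamField.frb_apply, FamField.frb_apply, hab])
  have hx : ∀ a, IsRoot M.toCoxeterSystem hp.isCartan a →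
      ∃ c : KK r, c ≠ 0 ∧ ∀ s, (σ'⁻¹ * σ) (xc hp a s) = xc hp a (c * s) := by
    intro a ha
    obtain ⟨u, hu0, hu⟩ := h a ha
    obtain ⟨v, hv0, hv⟩ := h' a ha
    obtain ⟨c, hc⟩ := IsAlgClosed.exists_pow_nat_eq (v⁻¹ * u) hq
    refine ⟨c, fun h0 => ?_, fun s => σ'.injective ?_⟩
    · rw [h0, zero_pow hq.ne'] at hc
      exact mul_ne_zero (inv_ne_zero hv0) hu0 hc.symm
    · rw [MulAut.mul_apply, MulAut.apply_inv_self, hu, hv, mul_pow, hc, ← mul_assoc, mul_inv_cancel_left₀ hv0]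
  choose c hc0 hc using fun i : Fin l => hx (sr i) (isRoot_sr _ _ i)
  obtain ⟨t, ht, hch⟩ := exists_tor hp hD (IsMC.of_prod c hc0)
  have hsr : ∀ i, cX hp t (sr i) = c i := by
    intro i
    rw [hch, Finset.prod_eq_single i]
    · rw [sr_self, zpow_one]
    · intro j _ hj
      rw [sr_ne hj, zpow_zero]
    · intro h
      exact absurd (Finset.mem_univ i) h
  have hinv : ∀ a, IsRoot M.toCoxeterSystem hp.isCartan a → ∀ s,
      (MulAut.conj t)⁻¹ (xc hp a s) = xc hp a ((cX hp t a)⁻¹ * s) := by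
    intro a ha s
    apply (MulAut.conj t).injective
    rw [MulAut.apply_inv_self, MulAut.conj_apply, cX_act ha ht,
      mul_inv_cancel_left₀ ((isMC_cX hp ht).ne_zero a)]
  have h1 : (MulAut.conj t)⁻¹ * (σ'⁻¹ * σ) = 1 := by
    refine rigid (hp := hp) hD (fun a ha => ?_) fun i s => ?_
    · obtain ⟨b, hb0, hb⟩ := hx a ha
      refine ⟨(cX hp t a)⁻¹ * b, mul_ne_zero (inv_ne_zero ((isMC_cX hp ht).ne_zero a)) hb0, fun s => ?_⟩
      rw [MulAut.mul_apply, hb, hinv a ha, mul_assoc]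
    · rw [MulAut.mul_apply, hc, hinv _ (isRoot_sr _ _ i), hsr, inv_mul_cancel_left₀ (hc0 i)]
  refine ⟨t, ht, ?_⟩
  rw [inv_mul_eq_one.1 h1, mul_inv_cancel_left]

/-- an automorphism of the root system which preserves the positive roots permutes the simple roots -/
theorem exists_perm (hg : ∀ a, IsRoot M.toCoxeterSystem hp.isCartan (g a) ↔ IsRoot M.toCoxeterSystem hp.isCartan a)
    (hpos : ∀ a, IsRoot M.toCoxeterSystem hp.isCartan a → 0 ≤ a → 0 ≤ g a) (i : Fin l) : ∃ j, g (sr i) = sr j := by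
  have hi := isRoot_sr M.toCoxeterSystem hp.isCartan i
  have hbr := (hg _).2 hi
  have hb0 : 0 ≤ g (sr i) := hpos _ hi (sr_nonneg i)
  obtain ⟨j, hj⟩ := Function.ne_iff.1 hbr.ne_zero
  have ha : ∀ k, IsRoot M.toCoxeterSystem hp.isCartan (g.symm (sr k)) := fun k => by
    rw [← hg, g.apply_symm_apply]
    exact isRoot_sr _ _ k
  have ha0 : ∀ k, 0 ≤ g.symm (sr k) := by
    intro k
    rcases (ha k).pos_or_neg with h | h
    · exact h
    · have h1 := hpos _ (ha k).neg (neg_nonneg.2 h)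
      rw [map_neg, g.apply_symm_apply] at h1
      have h2 := h1 k
      rw [Pi.neg_apply, sr_self] at h2
      exact absurd h2 (by norm_num)
  have h1 : (sr i : Fin l → ℤ) = ∑ k, g (sr i) k • g.symm (sr k) := by
    conv_lhs => rw [← g.symm_apply_apply (sr i), IsMC.eq_sum_sr (g (sr i)), map_sum]
    exact Finset.sum_congr rfl fun k _ => map_zsmul _ _ _
  have h2 : g.symm (sr j) = sr i := by
    refine (ha j).eq_sr (ha0 j) i fun m hm => ?_
    have h3 := congrFun h1 m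
    rw [sr_ne hm, Finset.sum_apply, eq_comm, Finset.sum_eq_zero_iff_of_nonneg] at h3
    · have h4 := h3 j (Finset.mem_univ j)
      simp only [Pi.smul_apply, smul_eq_mul] at h4
      exact (mul_eq_zero.1 h4).resolve_left hj
    · intro k _
      simp only [Pi.smul_apply, smul_eq_mul]
      exact mul_nonneg (hb0 k) (ha0 k m)
  exact ⟨j, by rw [← h2, g.apply_symm_apply]⟩

end Gen

section Six

variable {r : ℕ} [Fact r.Prime]

set_option synthInstance.maxSize 4000 in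
set_option synthInstance.maxHeartbeats 200000 in
theorem cartan_aux : ∀ d b : Fin 6, cartanOf chevE6 6 b d = -1 → ∀ c : Fin 6, cartanOf chevE6 6 c d = -1 →
    cartanOf chevE6 6 c b = 0 → ∀ e : Fin 6, cartanOf chevE6 6 e d = -1 → cartanOf chevE6 6 e b = 0 →
    cartanOf chevE6 6 e c = 0 → ∀ a : Fin 6, cartanOf chevE6 6 a c = -1 → cartanOf chevE6 6 a d = 0 →
    ∀ f : Fin 6, cartanOf chevE6 6 f e = -1 → cartanOf chevE6 6 f d = 0 →
    (a = 0 ∧ b = 1 ∧ c = 2 ∧ d = 3 ∧ e = 4 ∧ f = 5) ∨ (a = 5 ∧ b = 1 ∧ c = 4 ∧ d = 3 ∧ e = 2 ∧ f = 0) := by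
  decide +kernel

theorem cartan_val : cartanOf chevE6 6 1 3 = -1 ∧ cartanOf chevE6 6 2 3 = -1 ∧ cartanOf chevE6 6 2 1 = 0 ∧
    cartanOf chevE6 6 4 3 = -1 ∧ cartanOf chevE6 6 4 1 = 0 ∧ cartanOf chevE6 6 4 2 = 0 ∧
    cartanOf chevE6 6 0 2 = -1 ∧ cartanOf chevE6 6 0 3 = 0 ∧ cartanOf chevE6 6 5 4 = -1 ∧
    cartanOf chevE6 6 5 3 = 0 := by
  decide +kernel

theorem cartan_perm {f : Fin 6 → Fin 6} (h : ∀ i j, cartanOf chevE6 6 (f i) (f j) = cartanOf chevE6 6 i j) :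
    (∀ i, f i = (1 : Equiv.Perm (Fin 6)) i) ∨ ∀ i, f i = rho6 i := by
  obtain ⟨h1, h2, h3, h4, h5, h6, h7, h8, h9, h10⟩ := cartan_val
  rcases cartan_aux (f 3) (f 1) ((h _ _).trans h1) (f 2) ((h _ _).trans h2) ((h _ _).trans h3) (f 4)
    ((h _ _).trans h4) ((h _ _).trans h5) ((h _ _).trans h6) (f 0) ((h _ _).trans h7) ((h _ _).trans h8) (f 5)
    ((h _ _).trans h9) ((h _ _).trans h10) with ⟨e0, e1, e2, e3, e4, e5⟩ | ⟨e0, e1, e2, e3, e4, e5⟩
  · left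
    intro i
    fin_cases i
    exacts [e0, e1, e2, e3, e4, e5]
  · right
    intro i
    fin_cases i
    exacts [e0, e1, e2, e3, e4, e5]

theorem permE_sr (π : Equiv.Perm (Fin 6)) (i : Fin 6) : permE π (sr i) = sr (π i) := by
  funext j
  show sr i (π.symm j) = sr (π i) j
  simp only [sr, Pi.single_apply, Equiv.symm_apply_eq]

/-- **The automorphisms of the root system `E₆`.** -/
theorem exists_weyl {g : (Fin 6 → ℤ) ≃+ (Fin 6 → ℤ)}
    (hg : ∀ a, IsRoot CoxeterMatrix.E₆.toCoxeterSystem hpE6.isCartan (g a) ↔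
      IsRoot CoxeterMatrix.E₆.toCoxeterSystem hpE6.isCartan a) :
    ∃ (v : CoxeterMatrix.E₆.Group) (π : Equiv.Perm (Fin 6)), (π = 1 ∨ π = rho6) ∧
      (repAut CoxeterMatrix.E₆.toCoxeterSystem hpE6.isCartan v).trans g = permE π := by
  have := finW hpE6
  obtain ⟨v, -, hv⟩ := exists_adjust (cs := CoxeterMatrix.E₆.toCoxeterSystem) (h := hpE6.isCartan)
    {a | IsRoot CoxeterMatrix.E₆.toCoxeterSystem hpE6.isCartan a} ⊤
    (fun a ⟨w, i, h⟩ => ⟨w, i, h, Subgroup.mem_top _⟩) g fun a ha => (hg a).2 ha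
  obtain ⟨g', hg'⟩ : ∃ g', g' = (repAut CoxeterMatrix.E₆.toCoxeterSystem hpE6.isCartan v).trans g := ⟨_, rfl⟩
  have h1 : ∀ a, IsRoot CoxeterMatrix.E₆.toCoxeterSystem hpE6.isCartan (g' a) ↔
      IsRoot CoxeterMatrix.E₆.toCoxeterSystem hpE6.isCartan a := by
    intro a
    rw [hg', AddEquiv.trans_apply, hg, repAut_apply]
    refine ⟨fun h => ?_, fun h => h.act v⟩
    have h2 := h.act v⁻¹
    rwa [rep_inv_apply] at h2
  choose f hf using exists_perm (hp := hpE6) h1 fun a ha h0 => by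
    rw [hg']
    exact hv a ha h0
  have h2 : ∀ i j, cartanOf chevE6 6 (f i) (f j) = cartanOf chevE6 6 i j := by
    intro i j
    have h3 := H123.ExcComb.cpr_g h1 (isRoot_sr _ _ j) (isRoot_sr _ _ i)
    rwa [hf, hf, cpr_sr, cpr_sr, sr, sr, pairing_single, pairing_single, mul_one, mul_one] at h3
  have key : ∀ π : Equiv.Perm (Fin 6), (∀ i, f i = π i) → g' = permE π := by
    intro π hπ
    ext1 x
    rw [IsMC.eq_sum_sr x, map_sum, map_sum]
    exact Finset.sum_congr rfl fun i _ => by rw [map_zsmul, map_zsmul, hf, hπ, permE_sr]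
  rcases cartan_perm h2 with h | h
  · exact ⟨v, 1, Or.inl rfl, hg'.symm.trans (key 1 h)⟩
  · exact ⟨v, rho6, Or.inr rfl, hg'.symm.trans (key rho6 h)⟩

variable (r) in
/-- `σ` is one of the two standard Frobenius maps -/
def IsStd (e : ℕ) (π : Equiv.Perm (Fin 6)) (σ : MulAut (YY chevE6 r)) : Prop :=
  (π = 1 ∧ σ = FamUntw.phi chevE6 (KK r) r e) ∨ (π = rho6 ∧ σ = sig6 (KK r) r e)

variable {e : ℕ} {π : Equiv.Perm (Fin 6)} {σ σ0 : MulAut (YY chevE6 r)} {g : (Fin 6 → ℤ) ≃+ (Fin 6 → ℤ)}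

theorem IsStd.frob (h : IsStd r e π σ) : IsFrob r e σ := by
  rcases h with ⟨-, rfl⟩ | ⟨-, rfl⟩
  · exact FamInst.phi_isFrob r e
  · exact H720.TwFr.isFrob_sig6 r e

theorem IsStd.fr (h : IsStd r e π σ) : Fr CoxeterMatrix.E₆.toCoxeterSystem hpE6.isCartan (TT chevE6 (KK r))
    (XX chevE6 6 (KK r)) σ (permE π) := by
  rcases h with ⟨rfl, rfl⟩ | ⟨rfl, rfl⟩
  · exact FamInst.phi_fr hpE6 _ r (locFin r) e
  · exact H720.TwFr.fr_sig6 (locFin r) r hpE6 _ e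

theorem exists_isStd (e : ℕ) (hπ : π = 1 ∨ π = rho6) : ∃ σ0, IsStd r e π σ0 := by
  rcases hπ with h | h
  · exact ⟨_, Or.inl ⟨h, rfl⟩⟩
  · exact ⟨_, Or.inr ⟨h, rfl⟩⟩

/-- **The normal form.** -/
theorem exists_nf (hg : ∀ a, IsRoot CoxeterMatrix.E₆.toCoxeterSystem hpE6.isCartan (g a) ↔
      IsRoot CoxeterMatrix.E₆.toCoxeterSystem hpE6.isCartan a) (h : Frm hpE6 e σ g) :
    ∃ (π : Equiv.Perm (Fin 6)) (σ0 : MulAut (YY chevE6 r)) (v : CoxeterMatrix.E₆.Group) (k : YY chevE6 r),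
      IsStd r e π σ0 ∧ RP hpE6 r v k ∧ σ = σ0 * MulAut.conj k ∧
        g = (repAut CoxeterMatrix.E₆.toCoxeterSystem hpE6.isCartan v).trans (permE π) := by
  obtain ⟨v, π, hπ, hv⟩ := exists_weyl hg
  obtain ⟨σ0, h0⟩ := exists_isStd (r := r) e hπ
  obtain ⟨k, hk⟩ := exists_RP hpE6 r v
  have h1 := h.mul_conj hk
  rw [hv] at h1
  obtain ⟨t, ht, h2⟩ := eq_conj_mul (Or.inr (Or.inl rfl)) h1 (Frm.of_fr h0.frob h0.fr)
  refine ⟨π, σ0, v⁻¹, t * k⁻¹, h0, ?_, ?_, ?_⟩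
  · have h3 := (RP.of_mem (hp := hpE6) ht).mul hk.inv
    rwa [one_mul] at h3
  · rw [map_mul, ← mul_assoc, ← h2, map_inv, mul_inv_cancel_right]
  · rw [← hv]
    ext1 x
    rw [AddEquiv.trans_apply, AddEquiv.trans_apply, repAut_apply, repAut_apply, rep_apply_inv]

theorem frob_of_frm (hg : ∀ a, IsRoot CoxeterMatrix.E₆.toCoxeterSystem hpE6.isCartan (g a) ↔
      IsRoot CoxeterMatrix.E₆.toCoxeterSystem hpE6.isCartan a) (h : Frm hpE6 e σ g) :
    IsFrob r e σ ∧ Fr CoxeterMatrix.E₆.toCoxeterSystem hpE6.isCartan (TT chevE6 (KK r)) (XX chevE6 6 (KK r)) σ g := by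
  obtain ⟨π, σ0, v, k, h0, hk, h1, h2⟩ := exists_nf hg h
  have h3 := h0.frob.mul (IsFrob.conj k)
  have h4 := h0.fr.mul hk.fr
  rw [add_zero, ← h1] at h3
  rw [← h1, ← h2] at h4
  exact ⟨h3, h4⟩

end Six

end Cfsg.Agent.BHZ.Exc.Six
end

-- part: BHZ/Exc/Full6
section
prune_inst 0x10303504040000000000000040003c46a2000100102b880109010a040680af0200200f20b18012034000a2140038004000100050400000000a000000011c0481002842060240a104060090800804400000000000000000000000000000000000200000000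
set_option linter.all false
open scoped Cfsg.Agent.FastGrp

-- part: BHZ/Exc/St6
section
/-!
# S4806, exceptional groups: the universal group of type `E₆` and its torus (helper37)

`th r : St r →* YY chevE6 r`, `Ph r : (Fin 6 → Kˣ) →* St r`; `th_ker`, `th_expo`, `finite_ker`, `mem_range_Ph`
(`θ⁻¹ T = range Ph`); the action of a lift of a standard Frobenius map (`lift_pos`, `lift_neg`, `lift_Ph`, `lift_z`).
-/

set_option autoImplicit false
set_option linter.unusedSectionVars false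

namespace Cfsg.Agent.BHZ.Exc.Six

open CoxeterSystem Cfsg Cfsg.Lie Cfsg.Lie.ChevalleyDatum
open Cfsg.Agent.ChevalleyStructure Cfsg.Agent.ChevalleyStructure.Elts Cfsg.Agent.ChevalleyStructure.CoxeterGeom
  Cfsg.Agent.ChevalleyStructure.CoxeterGeomTypes Cfsg.Agent.ChevalleyStructure.StBasic
  Cfsg.Agent.ChevalleyStructure.NPerm
open Cfsg.Agent.Tits.Roots Cfsg.Agent.Nodes Cfsg.Agent.Nodes.BNOf Cfsg.Agent.Nodes.RGDChev
open Cfsg.Agent.KFacts.RgdChevCoord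
open Cfsg.Agent.BpExc Cfsg.Agent.BpExc.Fr Cfsg.Agent.BpExc.LangFr
open Cfsg.Agent.H469.Exc Cfsg.Agent.DS.Ex Cfsg.Agent.DS.Nt
open Cfsg.Agent.H720.TwFr (permE rho6 sig6)
open Cfsg.Agent.ChevalleyStructure.GraphSymm (symmE6)

section Cent

variable {L Y : Type*} [Group L] [Group Y] {θ : L →* Y} {p : ℕ}

theorem lift_exists (hs : Function.Surjective θ) (he : ∀ z, θ z = 1 → z ^ p = 1) {u : Y} {m : ℕ} (hu : u ^ m = 1)
    (hm : m.Coprime p) : ∃ x : L, θ x = u ∧ x ^ m = 1 := by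
  obtain ⟨y, rfl⟩ := hs u
  obtain ⟨k, hk1, hk2⟩ := Nat.chineseRemainder hm 1 0
  refine ⟨y ^ k, ?_, ?_⟩
  · rw [map_pow, pow_eq_pow_of_modEq hk1 hu, pow_one]
  · rw [← pow_mul, mul_comm, pow_mul, pow_eq_pow_of_modEq hk2 (he _ (by rw [map_pow, hu])), pow_zero]

theorem lift_eq (hc : θ.ker ≤ Subgroup.center L) (he : ∀ z, θ z = 1 → z ^ p = 1) {x y : L} (hxy : θ x = θ y)
    {m : ℕ} (hx : x ^ m = 1) (hy : y ^ m = 1) (hm : m.Coprime p) : x = y := by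
  have h0 : θ (x * y⁻¹) = 1 := by rw [map_mul, map_inv, hxy, mul_inv_cancel]
  have h1 : (x * y⁻¹) ^ m = 1 := by
    have h3 : Commute (x * y⁻¹) y := (Subgroup.mem_center_iff.1 (hc h0) y).symm
    have h2 : x ^ m = (x * y⁻¹) ^ m * y ^ m := by rw [← h3.mul_pow, inv_mul_cancel_right]
    rwa [hx, hy, mul_one, eq_comm] at h2
  have h2 := pow_gcd_eq_one.2 ⟨h1, he _ h0⟩
  rw [hm.gcd_eq_one, pow_one] at h2
  exact mul_inv_eq_one.1 h2

end Cent

variable (r : ℕ) [hr : Fact r.Prime]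

/-- the universal group (`St6 r` of the interface) -/
abbrev St : Type := chevE6.SteinbergGroup (KK r)

/-- the covering (`th6 r` of the interface) -/
noncomputable def th : St r →* YY chevE6 r := StTheta.theta hpE6.inList (KK r)

theorem th_surj : Function.Surjective (th r) := StTheta.theta_surjective _

theorem th_ker : (th r).ker = Subgroup.center (St r) := H65.MultE.ker_theta _

theorem exists_Ph : ∃ Φ : (Fin 6 → (KK r)ˣ) →* St r,
    (∀ (i : Fin 6) (x : (KK r)ˣ), Φ (Pi.mulSingle i x) = sth chevE6 (chevE6.simple i) (x : KK r)) ∧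
      Function.Injective Φ ∧ Subgroup.center (St r) ≤ Φ.range ∧
      ∀ t, Φ t ∈ Subgroup.center (St r) ↔ ∀ s < chevE6.nroots, ∏ i : Fin 6, t i ^ chevE6.cartan i s = 1 := by
  obtain ⟨Φ, h1, h2, h3⟩ := StCenter.exists_Phi (KK r) chevE6 (by simp)
  obtain ⟨Φ', h1', h2', -⟩ := H59.ESixCover.exists_torus (KK r)
  have h4 : Φ = Φ' := MonoidHom.pi_ext fun i x => (h1 i x).trans (h1' i x).symm
  exact ⟨Φ, h1, h4 ▸ h2', h2, h3⟩

/-- the torus of the universal group -/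
noncomputable def Ph : (Fin 6 → (KK r)ˣ) →* St r := (exists_Ph r).choose

variable {r}

theorem Ph_single (i : Fin 6) (x : (KK r)ˣ) :
    Ph r (Pi.mulSingle i x) = sth chevE6 (chevE6.simple i) (x : KK r) := (exists_Ph r).choose_spec.1 i x

theorem Ph_inj : Function.Injective (Ph r) := (exists_Ph r).choose_spec.2.1

theorem center_le : Subgroup.center (St r) ≤ (Ph r).range := (exists_Ph r).choose_spec.2.2.1

theorem Ph_mem_center (t : Fin 6 → (KK r)ˣ) : Ph r t ∈ Subgroup.center (St r) ↔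
    ∀ s < chevE6.nroots, ∏ i : Fin 6, t i ^ chevE6.cartan i s = 1 := (exists_Ph r).choose_spec.2.2.2 t

theorem th_cent : (th r).ker ≤ Subgroup.center (St r) := (th_ker r).le

theorem simple_lt6 (i : Fin 6) : chevE6.simple i < chevE6.nroots := simple_lt hpE6.inList (lt_rank hpE6 i)

theorem inv_tab : ∀ i k : Fin 6, ∑ j : Fin 6, chevE6.cartan i (chevE6.simple j) *
    (![![4,3,5,6,4,2],![3,6,6,9,6,3],![5,6,10,12,8,4],![6,9,12,18,12,6],![4,6,8,12,10,5],![2,3,4,6,5,4]] :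
      Fin 6 → Fin 6 → ℤ) j k = if i = k then 3 else 0 := by
  decide +kernel

theorem cube_of_center {t : Fin 6 → (KK r)ˣ} (h : Ph r t ∈ Subgroup.center (St r)) (k : Fin 6) : t k ^ 3 = 1 := by
  have h1 := StTorus.eval_eq_one (fun i j : Fin 6 => chevE6.cartan i (chevE6.simple j)) _
    (fun i => if i = k then 3 else 0) (fun i => inv_tab i k) t
    fun j => (Ph_mem_center t).1 h _ (simple_lt6 j)
  rw [Finset.prod_eq_single k] at h1
  · rw [if_pos rfl] at h1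
    exact (zpow_natCast (t k) 3).symm.trans h1
  · intro i _ hi
    rw [if_neg hi, zpow_zero]
  · intro h2
    exact absurd (Finset.mem_univ k) h2

theorem th_expo (z : St r) (hz : th r z = 1) : z ^ 3 = 1 := by
  have h1 := th_cent hz
  obtain ⟨t, rfl⟩ := center_le h1
  rw [← map_pow, show t ^ 3 = 1 from funext (cube_of_center h1), map_one]

theorem finite_ker : Finite (th r).ker := by
  have h : ∀ z : (th r).ker, ∃ t : Fin 6 → rootsOfUnity 3 (KK r), Ph r (fun i => t i) = z := by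
    rintro ⟨z, hz⟩
    have h1 := th_cent hz
    obtain ⟨t, rfl⟩ := center_le h1
    exact ⟨fun i => ⟨t i, cube_of_center h1 i⟩, rfl⟩
  choose f hf using h
  exact Finite.of_injective f fun a b hab => Subtype.ext (by rw [← hf a, hab, hf b])

theorem th_stGen {s : ℕ} (hs : s < chevE6.nroots) (t : KK r) :
    th r (chevE6.stGen (KK r) s t) = xc hpE6 (vec chevE6 6 s) t := by
  apply Subtype.ext
  rw [coe_xc hpE6 hs]
  exact StTheta.thetaGL_stGen _ s t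

theorem th_sth (j : Fin 6) (c : KK r) : th r (sth chevE6 (chevE6.simple j) c) = hc hpE6 j c := by
  apply Subtype.ext
  apply Units.ext
  exact (theta_sth (th r) (fun s t _ => StTheta.theta_stGen _ s t) _ c).trans (coe_hG _ _ _).symm

/-- **The preimage of the torus.** -/
theorem mem_range_Ph {m : St r} (hm : th r m ∈ TT chevE6 (KK r)) : m ∈ (Ph r).range := by
  have h1 : th r m ∈ (Ph r).range.map (th r) := by
    refine (Subgroup.closure_le _).2 ?_ (TorChev.TT_le hpE6 hm)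
    rintro _ ⟨j, c, hc0, rfl⟩
    exact ⟨_, ⟨Pi.mulSingle j (Units.mk0 c hc0), rfl⟩, by rw [Ph_single, th_sth]; rfl⟩
  obtain ⟨u, hu, e⟩ := h1
  have h2 : u⁻¹ * m ∈ (Ph r).range := center_le (th_cent (by
    rw [MonoidHom.mem_ker, map_mul, map_inv, e, inv_mul_cancel]))
  have h3 := mul_mem hu h2
  rwa [mul_inv_cancel_left] at h3

theorem stGen_pow (s : ℕ) (t : KK r) : chevE6.stGen (KK r) s t ^ r = 1 := by
  have h : ∀ n : ℕ, chevE6.stGen (KK r) s t ^ n = chevE6.stGen (KK r) s (n * t) := by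
    intro n
    induction n with
    | zero => rw [pow_zero, Nat.cast_zero, zero_mul, stGen_zero]
    | succ n ih => rw [pow_succ, ih, stGen_mul, Nat.cast_succ, add_mul, one_mul]
  rw [h, CharP.cast_eq_zero, zero_mul, stGen_zero]

theorem cop3 (h3 : r ≠ 3) (n : ℕ) : (r ^ n).Coprime 3 :=
  Nat.Coprime.pow_left n ((Nat.coprime_primes hr.out Nat.prime_three).2 h3)

/-! ### the standard Frobenius maps -/

variable {e : ℕ} {π : Equiv.Perm (Fin 6)} {σ : MulAut (YY chevE6 r)}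

theorem phi_xc (e : ℕ) {s : ℕ} (hs : s < chevE6.nroots) (t : KK r) :
    FamUntw.phi chevE6 (KK r) r e (xc hpE6 (vec chevE6 6 s) t) = xc hpE6 (vec chevE6 6 s) (t ^ r ^ e) := by
  unfold FamUntw.phi
  rw [CpAut.RgdUntw.fld_xc hpE6 _ hs, FamField.frb_apply]

theorem sig_xc (e : ℕ) (s : Fin chevE6.nroots) (hs : symmE6.ε s = 1) (t : KK r) :
    sig6 (KK r) r e (xc hpE6 (vec chevE6 6 s) t) = xc hpE6 (vec chevE6 6 (symmE6.σ s)) (t ^ r ^ e) := by
  rw [MulAut.mul_apply, phi_xc e s.2]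
  apply Subtype.ext
  rw [FamTw.Gr.coe_gr, coe_xc hpE6 s.2, coe_xc hpE6 (symmE6.σ s).2, FamTw.Gr.P_xG, hs, Int.cast_one, one_mul]

theorem neg_lt6 (i : Fin 6) : chevE6.neg (chevE6.simple i) < chevE6.nroots := neg_lt hpE6.inList (simple_lt6 i)

theorem neg_map6 (i : Fin 6) : (symmE6.σ ⟨chevE6.neg (chevE6.simple i), neg_lt6 i⟩).val =
    chevE6.neg (chevE6.simple (rho6 i)) := by
  have h := (symmE6.neg_iff ⟨chevE6.simple i, simple_lt6 i⟩ ⟨chevE6.neg (chevE6.simple i), neg_lt6 i⟩).2 rfl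
  rw [h, H720.TwFr.simple_map6 i]
  rfl

theorem IsStd.pos (h : IsStd r e π σ) (i : Fin 6) (t : KK r) :
    σ (xc hpE6 (vec chevE6 6 (chevE6.simple i)) t) = xc hpE6 (vec chevE6 6 (chevE6.simple (π i))) (t ^ r ^ e) := by
  rcases h with ⟨h1, h2⟩ | ⟨h1, h2⟩
  · rw [h1, h2, phi_xc e (simple_lt6 i), Equiv.Perm.one_apply]
  · rw [h1, h2]
    have h3 := sig_xc e ⟨chevE6.simple i, simple_lt6 i⟩ (H720.TwFr.simple_eps6 i) t
    rwa [H720.TwFr.simple_map6 i] at h3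

theorem IsStd.neg (h : IsStd r e π σ) (i : Fin 6) (t : KK r) :
    σ (xc hpE6 (vec chevE6 6 (chevE6.neg (chevE6.simple i))) t) =
      xc hpE6 (vec chevE6 6 (chevE6.neg (chevE6.simple (π i)))) (t ^ r ^ e) := by
  rcases h with ⟨h1, h2⟩ | ⟨h1, h2⟩
  · rw [h1, h2, phi_xc e (neg_lt6 i), Equiv.Perm.one_apply]
  · rw [h1, h2]
    have h3 := sig_xc e ⟨chevE6.neg (chevE6.simple i), neg_lt6 i⟩
      ((symmE6.ε_neg ⟨chevE6.simple i, simple_lt6 i⟩ _ rfl).trans (H720.TwFr.simple_eps6 i)) t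
    rwa [neg_map6 i] at h3

section Lift

variable (h3 : r ≠ 3) (h : IsStd r e π σ) {σL : MulAut (St r)} (hL : ∀ x, th r (σL x) = σ (th r x))

include h3 h hL

theorem lift_pos (i : Fin 6) (t : KK r) : σL (chevE6.stGen (KK r) (chevE6.simple i) t) =
    chevE6.stGen (KK r) (chevE6.simple (π i)) (t ^ r ^ e) := by
  refine lift_eq th_cent th_expo ?_ (m := r) (by rw [← map_pow, stGen_pow, map_one]) (stGen_pow _ _)
    (pow_one r ▸ cop3 h3 1)
  rw [hL, th_stGen (simple_lt6 i), th_stGen (simple_lt6 _), h.pos]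

theorem lift_neg (i : Fin 6) (t : KK r) : σL (chevE6.stGen (KK r) (chevE6.neg (chevE6.simple i)) t) =
    chevE6.stGen (KK r) (chevE6.neg (chevE6.simple (π i))) (t ^ r ^ e) := by
  refine lift_eq th_cent th_expo ?_ (m := r) (by rw [← map_pow, stGen_pow, map_one]) (stGen_pow _ _)
    (pow_one r ▸ cop3 h3 1)
  rw [hL, th_stGen (neg_lt6 i), th_stGen (neg_lt6 _), h.neg]

theorem lift_stn (i : Fin 6) (t : KK r) :
    σL (stn chevE6 (chevE6.simple i) t) = stn chevE6 (chevE6.simple (π i)) (t ^ r ^ e) := by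
  rw [stn_eq, stn_eq, map_mul, map_mul, lift_pos h3 h hL, lift_neg h3 h hL, ← iterateFrobenius_def,
    ← iterateFrobenius_def, map_neg, map_inv₀]

theorem lift_sth (i : Fin 6) (t : KK r) :
    σL (sth chevE6 (chevE6.simple i) t) = sth chevE6 (chevE6.simple (π i)) (t ^ r ^ e) := by
  rw [sth_eq, sth_eq, map_mul, map_inv, lift_stn h3 h hL, lift_stn h3 h hL, one_pow]

/-- **The action on the torus.** -/
theorem lift_Ph (t : Fin 6 → (KK r)ˣ) : σL (Ph r t) = Ph r fun i => t (π.symm i) ^ r ^ e := by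
  let κ : (Fin 6 → (KK r)ˣ) →* (Fin 6 → (KK r)ˣ) :=
    { toFun := fun t i => t (π.symm i) ^ r ^ e
      map_one' := funext fun i => one_pow _
      map_mul' := fun a b => funext fun i => mul_pow _ _ _ }
  have h1 : σL.toMonoidHom.comp (Ph r) = (Ph r).comp κ := by
    refine MonoidHom.pi_ext fun i x => ?_
    have h2 : κ (Pi.mulSingle i x) = Pi.mulSingle (π i) (x ^ r ^ e) := by
      funext j
      show (Pi.mulSingle i x : Fin 6 → (KK r)ˣ) (π.symm j) ^ r ^ e = _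
      by_cases hj : j = π i
      · rw [hj, π.symm_apply_apply, Pi.mulSingle_eq_same, Pi.mulSingle_eq_same]
      · rw [Pi.mulSingle_eq_of_ne hj, Pi.mulSingle_eq_of_ne (fun h => hj (by rw [← h, π.apply_symm_apply])), one_pow]
    show σL (Ph r (Pi.mulSingle i x)) = Ph r (κ (Pi.mulSingle i x))
    rw [h2, Ph_single, Ph_single, lift_sth h3 h hL, Units.val_pow_eq_pow_val]
  exact DFunLike.congr_fun h1 t

/-- **The centre is fixed** if `3 ∣ q - 1`, resp. `3 ∣ q + 1`. -/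
theorem lift_z (hq : (π = 1 ∧ r ^ e % 3 = 1) ∨ (π = rho6 ∧ r ^ e % 3 = 2)) :
    ∃ z : St r, z ≠ 1 ∧ th r z = 1 ∧ σL z = z := by
  have h0 : ((3 : ℕ) : KK r) ≠ 0 := by
    intro h0
    rw [CharP.cast_eq_zero_iff (KK r) r] at h0
    exact h3 ((Nat.prime_dvd_prime_iff_eq hr.out Nat.prime_three).1 h0)
  have : NeZero ((3 : ℕ) : KK r) := ⟨h0⟩
  obtain ⟨ζ, hζ⟩ := HasEnoughRootsOfUnity.exists_primitiveRoot (KK r) 3
  obtain ⟨ω, hω⟩ : ∃ ω : (KK r)ˣ, (ω : KK r) = ζ := ⟨Units.mk0 ζ (hζ.ne_zero (by norm_num)), rfl⟩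
  have hω3 : ω ^ 3 = 1 := Units.ext (by rw [Units.val_pow_eq_pow_val, hω, hζ.pow_eq_one, Units.val_one])
  have hω1 : ω ≠ 1 := fun h1 => hζ.ne_one (by norm_num) (by rw [← hω, h1, Units.val_one])
  have hk : ∀ s < chevE6.nroots, (3 : ℤ) ∣ ∑ i : Fin 6, (![1, 0, 2, 0, 1, 2] : Fin 6 → ℤ) i * chevE6.cartan i s := by
    decide +kernel
  have h1 : Ph r (fun i => ω ^ (![1, 0, 2, 0, 1, 2] : Fin 6 → ℤ) i) ∈ Subgroup.center (St r) :=
    H59.ESixCover.mem_center_of (Φ := Ph r) Ph_mem_center hω3 _ hk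
  refine ⟨_, fun h2 => hω1 ?_, (th_ker r).ge h1, ?_⟩
  · have h4 := congrFun (Ph_inj (h2.trans (map_one _).symm)) 0
    simpa using h4
  · rw [lift_Ph h3 h hL]
    congr 1
    funext i
    have h4 : ∀ a : (KK r)ˣ, a ^ 3 = 1 → a ^ r ^ e = a ^ (r ^ e % 3) := fun a ha => pow_eq_pow_mod _ ha
    have h5 : (ω ^ (![1, 0, 2, 0, 1, 2] : Fin 6 → ℤ) (π.symm i)) ^ 3 = 1 := by
      rw [← zpow_natCast, ← zpow_mul, mul_comm, zpow_mul, zpow_natCast, hω3, one_zpow]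
    rw [h4 _ h5]
    rcases hq with ⟨h6, h7⟩ | ⟨h6, h7⟩
    · rw [h6, h7, pow_one]
      rfl
    · have h8 : ∀ i : Fin 6, (3 : ℤ) ∣ (![1, 0, 2, 0, 1, 2] : Fin 6 → ℤ) (rho6.symm i) * (2 : ℕ) -
          (![1, 0, 2, 0, 1, 2] : Fin 6 → ℤ) i := by decide +kernel
      obtain ⟨c, hc⟩ := h8 i
      rw [h6, h7, ← zpow_natCast, ← zpow_mul, eq_add_of_sub_eq hc, zpow_add, zpow_mul,
        show ω ^ (3 : ℤ) = 1 from (zpow_natCast ω 3).trans hω3, one_zpow, one_mul]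

end Lift

end Cfsg.Agent.BHZ.Exc.Six
end

-- part: BHZ/Exc/Full6A
section
/-!
# S4806, exceptional groups: the fixed points in the universal group of type `E₆` (helper37)

`Mod σ S` : the finite group `S` inside the fixed points of a standard Frobenius map; `G0 σL` : the subgroup generated by
the fixed `r`-elements; `full_std`, `full` : all fixed points of `σL` lie in `G0 σL`.
-/

set_option autoImplicit false
set_option linter.unusedSectionVars false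

namespace Cfsg.Agent.BHZ.Exc.Six

open CoxeterSystem Cfsg Cfsg.Lie Cfsg.Lie.ChevalleyDatum
open Cfsg.Agent.ChevalleyStructure Cfsg.Agent.ChevalleyStructure.Elts Cfsg.Agent.ChevalleyStructure.CoxeterGeom
  Cfsg.Agent.ChevalleyStructure.CoxeterGeomTypes Cfsg.Agent.ChevalleyStructure.StBasic
open Cfsg.Agent.Tits.Roots Cfsg.Agent.Nodes Cfsg.Agent.Nodes.BNOf Cfsg.Agent.Nodes.RGDChev Cfsg.Agent.Nodes.OppDec
open Cfsg.Agent.KFacts.RgdChevCoord
open Cfsg.Agent.BpExc Cfsg.Agent.BpExc.Fr Cfsg.Agent.BpExc.LangFr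
open Cfsg.Agent.H469.Exc Cfsg.Agent.DS.Ex Cfsg.Agent.DS.Nt
open Cfsg.Agent.H720.TwFr (permE rho6 sig6)
open Cfsg.Agent.H59.ESixCover (IsPair)

variable {r : ℕ} [hr : Fact r.Prime]

/-- the finite group inside the fixed points -/
structure Mod (σ : MulAut (YY chevE6 r)) (S : Type) [Group S] where
  /-- the embedding -/
  ι : S →* YY chevE6 r
  inj : Function.Injective ι
  fix : ∀ a, σ (ι a) = ι a
  split : ∀ y, σ y = y → ∃ a t, t ∈ TT chevE6 (KK r) ∧ y = ι a * t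
  cube : ∀ y, σ y = y → y ^ 3 ∈ ι.range
  gen : ∀ N : Subgroup S,
    (∀ a, ι a ∈ RGD.Sup (XX chevE6 6 (KK r)) (RGD.Pos CoxeterMatrix.E₆.toCoxeterSystem hpE6.isCartan) → a ∈ N) →
    (∀ a, ι a ∈ RGD.Sup (XX chevE6 6 (KK r)) (Neg CoxeterMatrix.E₆.toCoxeterSystem hpE6.isCartan) → a ∈ N) → N = ⊤

theorem mod_untw (F : Type) [Field F] [Fintype F] [CharP F r] {e : ℕ} (he : 0 < e) (hF : Nat.card F = r ^ e) :
    Nonempty (Mod (FamUntw.phi chevE6 (KK r) r e) ↥(chevE6.group F)) := by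
  obtain ⟨f⟩ := RowsUntw.exists_emb r F
  have hq : Fintype.card F = r ^ e := by rw [← hF, Nat.card_eq_fintype_card]
  obtain ⟨m, h1, h2, -, h4⟩ := H28.GenF.mdata_std' (r := r) hpE6 F H129.TorusChar.invC_E6 (by norm_num)
    (Or.inr Nat.prime_three) f he hF
  refine ⟨⟨m.ι, m.inj, fun a => by rw [← h2, m.fix], fun y hy => ?_, fun y hy => ?_, m.gen⟩⟩
  · rw [h1]
    refine H129.TorusUntw.fix_split hpE6 f hq ?_
    apply Subtype.ext
    rw [H129.TorusUntw.coe_phi]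
    refine Eq.trans ?_ (congrArg Subtype.val hy)
    apply Units.ext
    ext i j
    exact (iterateFrobenius_def r e _).trans (FamField.frb_apply _ r e _).symm
  · obtain ⟨c, hc⟩ : m.dd ∣ 3 := h4 ▸ Nat.gcd_dvd_left _ _
    rw [hc, pow_mul]
    exact pow_mem (m.pow_dd y (by rw [h2]; exact hy)) c

theorem mod_tw (K : Type) [Field K] [Fintype K] [CharP K r] {e q : ℕ} (he : 0 < e) (hq : q = r ^ e)
    (hK : Fintype.card K = q ^ 2) : Nonempty (Mod (sig6 (KK r) r e) ↥(twistedE6 K q)) := by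
  obtain ⟨f⟩ := RowsUntw.exists_emb r K
  have hq' : IsPrimePow q := (isPrimePow_nat_iff _).2 ⟨r, e, hr.out, he, hq.symm⟩
  have hφ : ∀ t : KK r, iterateFrobenius (KK r) r e t = t ^ q := fun t => by rw [iterateFrobenius_def, hq]
  refine ⟨⟨H720.TwFr.em6 q f, FamTw.Six.em_injective f, H720.TwFr.em6_fix f r he hq hK, fun y hy => ?_,
    fun y hy => ?_, H316.U6.gen_of_words hpE6 f (fun _ => rfl) (H316.U6.wordsE6 q)⟩⟩
  · obtain ⟨x, hx, t, ht, e1⟩ := EmbInst.twE6_split (f := f) hq' hK hφ y.2 (by rw [← H720.TwFr.coe_sig6, hy])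
    exact ⟨⟨x, hx⟩, ⟨t, diagonal_le_group hpE6.inList _ ht⟩, ht, Subtype.ext e1⟩
  · obtain ⟨c, hc⟩ : Nat.gcd 3 (q + 1) ∣ 3 := Nat.gcd_dvd_left _ _
    have h1 := pow_mem (H720.TwFr.desc6 f r (locFin r) he hq hK hy) c
    rwa [← pow_mul, ← hc] at h1

theorem pelt_pos {y : YY chevE6 r}
    (hy : y ∈ RGD.Sup (XX chevE6 6 (KK r)) (RGD.Pos CoxeterMatrix.E₆.toCoxeterSystem hpE6.isCartan)) :
    ∃ n : ℕ, y ^ r ^ n = 1 := by
  have := finW hpE6
  rw [← XLe hpE6 r] at hy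
  obtain ⟨E, hE⟩ := (tw hpE6 r).mem_Sup.1 hy
  obtain ⟨n, hn⟩ := ((tw hpE6 r).rgd E).isPGroup_Upos ⟨y, hE⟩
  exact ⟨n, congrArg Subtype.val hn⟩

theorem pelt_neg {y : YY chevE6 r}
    (hy : y ∈ RGD.Sup (XX chevE6 6 (KK r)) (Neg CoxeterMatrix.E₆.toCoxeterSystem hpE6.isCartan)) :
    ∃ n : ℕ, y ^ r ^ n = 1 := by
  have := finW hpE6
  rw [← XLe hpE6 r] at hy
  obtain ⟨E, hE⟩ := (tw hpE6 r).mem_Sup.1 hy
  obtain ⟨n, hn⟩ := KFacts.RgdAut.isPGroup_UN ((tw hpE6 r).rgd E) ⟨y, hE⟩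
  exact ⟨n, congrArg Subtype.val hn⟩

/-- the subgroup generated by the fixed `r`-elements -/
def G0 (σL : MulAut (St r)) : Subgroup (St r) := Subgroup.closure {u | σL u = u ∧ ∃ n : ℕ, u ^ r ^ n = 1}

theorem G0_fix {σL : MulAut (St r)} {u : St r} (hu : u ∈ G0 σL) : σL u = u := by
  have h : G0 σL ≤ σL.toMonoidHom.eqLocus (MonoidHom.id _) := (Subgroup.closure_le _).2 fun x hx => hx.1
  exact h hu

theorem mem_G0 {σL : MulAut (St r)} {u : St r} (h : σL u = u) (h' : u ^ r = 1) : u ∈ G0 σL :=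
  Subgroup.subset_closure ⟨h, 1, by rwa [pow_one]⟩

theorem pairA : IsPair (chevE6.simple (0 : Fin 6)) (chevE6.simple (5 : Fin 6))
    (chevE6.neg (chevE6.simple (0 : Fin 6))) (chevE6.neg (chevE6.simple (5 : Fin 6))) := by
  constructor <;> decide +kernel

theorem pairA' : IsPair (chevE6.neg (chevE6.simple (0 : Fin 6))) (chevE6.neg (chevE6.simple (5 : Fin 6)))
    (chevE6.simple (0 : Fin 6)) (chevE6.simple (5 : Fin 6)) := by
  constructor <;> decide +kernel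

theorem pairB : IsPair (chevE6.simple (2 : Fin 6)) (chevE6.simple (4 : Fin 6))
    (chevE6.neg (chevE6.simple (2 : Fin 6))) (chevE6.neg (chevE6.simple (4 : Fin 6))) := by
  constructor <;> decide +kernel

theorem pairB' : IsPair (chevE6.neg (chevE6.simple (2 : Fin 6))) (chevE6.neg (chevE6.simple (4 : Fin 6)))
    (chevE6.simple (2 : Fin 6)) (chevE6.simple (4 : Fin 6)) := by
  constructor <;> decide +kernel

variable {e : ℕ} {π : Equiv.Perm (Fin 6)} {σ : MulAut (YY chevE6 r)} {σL : MulAut (St r)}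

section Lift

variable (h3 : r ≠ 3) (hL : ∀ x, th r (σL x) = σ (th r x))

include h3 hL

/-- fixed `r`-elements lift to fixed `r`-elements -/
theorem exists_fixed_lift {y : YY chevE6 r} (hy : σ y = y) {n : ℕ} (hn : y ^ r ^ n = 1) :
    ∃ u, σL u = u ∧ u ^ r ^ n = 1 ∧ th r u = y := by
  obtain ⟨x, hx, hx'⟩ := lift_exists (th_surj r) th_expo hn (cop3 h3 n)
  exact ⟨x, lift_eq th_cent th_expo (by rw [hL, hx, hy]) (by rw [← map_pow, hx', map_one]) hx' (cop3 h3 n), hx', hx⟩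

theorem Mod.exists_G0 {S : Type} [Group S] (m : Mod σ S) (a : S) : ∃ u ∈ G0 σL, th r u = m.ι a := by
  have key : ∀ a, (∃ n : ℕ, m.ι a ^ r ^ n = 1) → a ∈ ((G0 σL).map (th r)).comap m.ι := by
    rintro a ⟨n, hn⟩
    obtain ⟨u, h1, h2, h4⟩ := exists_fixed_lift h3 hL (m.fix a) hn
    exact ⟨u, Subgroup.subset_closure ⟨h1, n, h2⟩, h4⟩
  have h1 := m.gen _ (fun a ha => key a (pelt_pos ha)) fun a ha => key a (pelt_neg ha)
  have h2 : a ∈ ((G0 σL).map (th r)).comap m.ι := by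
    rw [h1]
    exact Subgroup.mem_top a
  exact h2

variable (h : IsStd r e π σ)

include h

theorem stn_mem {i : Fin 6} (hi : π i = i) {t : KK r} (ht : t ^ r ^ e = t) :
    stn chevE6 (chevE6.simple i) t ∈ G0 σL := by
  have h1 : chevE6.stGen (KK r) (chevE6.simple i) t ∈ G0 σL :=
    mem_G0 (by rw [lift_pos h3 h hL, hi, ht]) (stGen_pow _ _)
  have h2 : chevE6.stGen (KK r) (chevE6.neg (chevE6.simple i)) (-t⁻¹) ∈ G0 σL :=
    mem_G0 (by rw [lift_neg h3 h hL, hi, ← iterateFrobenius_def, map_neg, map_inv₀, iterateFrobenius_def, ht])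
      (stGen_pow _ _)
  rw [stn_eq]
  exact mul_mem (mul_mem h1 h2) h1

theorem single_mem {i : Fin 6} (hi : π i = i) {t : (KK r)ˣ} (ht : t ^ r ^ e = t) :
    Ph r (Pi.mulSingle i t) ∈ G0 σL := by
  rw [Ph_single, sth_eq]
  exact mul_mem (stn_mem h3 hL h hi (congrArg Units.val ht)) (inv_mem (stn_mem h3 hL h hi (one_pow _)))

theorem pair_mem {i j : Fin 6} (hi : π i = j) (hj : π j = i)
    (P : IsPair (chevE6.simple i) (chevE6.simple j) (chevE6.neg (chevE6.simple i)) (chevE6.neg (chevE6.simple j)))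
    (P' : IsPair (chevE6.neg (chevE6.simple i)) (chevE6.neg (chevE6.simple j)) (chevE6.simple i) (chevE6.simple j))
    {s t : (KK r)ˣ} (hs : s ^ r ^ e = t) (ht : t ^ r ^ e = s) :
    Ph r (Pi.mulSingle i s) * Ph r (Pi.mulSingle j t) ∈ G0 σL := by
  obtain ⟨φ, hφ⟩ : ∃ φ : KK r →+* KK r, ∀ a, φ a = a ^ r ^ e :=
    ⟨iterateFrobenius (KK r) r e, fun a => iterateFrobenius_def r e a⟩
  have h1 : ∀ a, φ (φ a) = a → H59.ESixCover.tw (KK r) φ (chevE6.simple i) (chevE6.simple j) a ∈ G0 σL := by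
    intro a ha
    refine mem_G0 ?_ (P.tw_pow_p r a)
    unfold H59.ESixCover.tw
    rw [map_mul, lift_pos h3 h hL, lift_pos h3 h hL, hi, hj, ← hφ, ← hφ, ha]
    exact (P.comm _ (by simp) _ (by simp) _ _).eq.symm
  have h2 : ∀ a, φ (φ a) = a →
      H59.ESixCover.tw (KK r) φ (chevE6.neg (chevE6.simple i)) (chevE6.neg (chevE6.simple j)) a ∈ G0 σL := by
    intro a ha
    refine mem_G0 ?_ (P'.tw_pow_p r a)
    unfold H59.ESixCover.tw
    rw [map_mul, lift_neg h3 h hL, lift_neg h3 h hL, hi, hj, ← hφ, ← hφ, ha]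
    exact (P'.comm _ (by simp) _ (by simp) _ _).eq.symm
  have h4 : φ (s : KK r) = t := by rw [hφ, ← hs, Units.val_pow_eq_pow_val]
  have h5 : φ (φ (s : KK r)) = s := by rw [h4, hφ, ← ht, Units.val_pow_eq_pow_val]
  have h6 : ∀ a, φ (φ a) = a → φ (φ (-a⁻¹)) = -a⁻¹ := fun a ha => by
    rw [map_neg, map_neg, map_inv₀, map_inv₀, ha]
  have h7 : φ (φ 1) = 1 := by rw [map_one, map_one]
  rw [Ph_single, Ph_single, ← h4, P.sth_mul']
  exact mul_mem (mul_mem (mul_mem (h1 _ h5) (h2 _ (h6 _ h5))) (h1 _ h5))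
    (inv_mem (mul_mem (mul_mem (h1 _ h7) (h2 _ (h6 _ h7))) (h1 _ h7)))

theorem Ph_mem {t : Fin 6 → (KK r)ˣ} (ht : σL (Ph r t) = Ph r t) : Ph r t ∈ G0 σL := by
  rw [lift_Ph h3 h hL] at ht
  have h1 : ∀ i, t i ^ r ^ e = t (π i) := fun i => by
    have h2 := congrFun (Ph_inj ht) (π i)
    rwa [π.symm_apply_apply] at h2
  have h2 : Ph r t = Ph r (Pi.mulSingle 1 (t 1)) * Ph r (Pi.mulSingle 3 (t 3)) *
      (Ph r (Pi.mulSingle 0 (t 0)) * Ph r (Pi.mulSingle 5 (t 5))) *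
      (Ph r (Pi.mulSingle 2 (t 2)) * Ph r (Pi.mulSingle 4 (t 4))) := by
    rw [← map_mul, ← map_mul, ← map_mul, ← map_mul, ← map_mul]
    congr 1
    funext i
    fin_cases i <;> simp
  rw [h2]
  have hπ : π = 1 ∨ π = rho6 := h.imp And.left And.left
  rcases hπ with hπ | hπ
  · have h4 : ∀ i, Ph r (Pi.mulSingle i (t i)) ∈ G0 σL := fun i =>
      single_mem h3 hL h (by rw [hπ]; rfl) (by rw [h1, hπ]; rfl)
    exact mul_mem (mul_mem (mul_mem (h4 1) (h4 3)) (mul_mem (h4 0) (h4 5))) (mul_mem (h4 2) (h4 4))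
  · refine mul_mem (mul_mem (mul_mem (single_mem h3 hL h ?_ ?_) (single_mem h3 hL h ?_ ?_))
      (pair_mem h3 hL h ?_ ?_ pairA pairA' ?_ ?_)) (pair_mem h3 hL h ?_ ?_ pairB pairB' ?_ ?_)
    all_goals first | (rw [h1, hπ]; rfl) | (rw [hπ]; rfl)

theorem Mod.full {S : Type} [Group S] (m : Mod σ S) {x : St r} (hx : σL x = x) : x ∈ G0 σL := by
  obtain ⟨a, t, ht, e1⟩ := m.split (th r x) (by rw [← hL, hx])
  obtain ⟨u, hu, e2⟩ := m.exists_G0 h3 hL a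
  obtain ⟨s, hs⟩ := mem_range_Ph (m := u⁻¹ * x) (by rw [map_mul, map_inv, e1, e2, inv_mul_cancel_left]; exact ht)
  have h1 : Ph r s ∈ G0 σL := Ph_mem h3 hL h (by rw [hs, map_mul, map_inv, G0_fix hu, hx])
  have h2 := mul_mem hu h1
  rwa [hs, mul_inv_cancel_left] at h2

theorem full_std (he : 0 < e) {x : St r} (hx : σL x = x) : x ∈ G0 σL := by
  rcases h with ⟨h1, h2⟩ | ⟨h1, h2⟩
  · have := Fintype.ofFinite (GaloisField r e)
    obtain ⟨m⟩ := mod_untw (r := r) (GaloisField r e) he (GaloisField.card r e he.ne')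
    rw [← h2] at m
    exact m.full h3 hL (Or.inl ⟨h1, h2⟩) hx
  · have := Fintype.ofFinite (GaloisField r (e * 2))
    obtain ⟨m⟩ := mod_tw (r := r) (GaloisField r (e * 2)) he rfl (by
      rw [← Nat.card_eq_fintype_card, GaloisField.card r (e * 2) (by omega), pow_mul])
    rw [← h2] at m
    exact m.full h3 hL (Or.inr ⟨h1, h2⟩) hx

end Lift

/-- every Frobenius map is conjugate to a standard one -/
theorem exists_conj_std {g : (Fin 6 → ℤ) ≃+ (Fin 6 → ℤ)} (he : 0 < e) (hσ : IsFrob r e σ)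
    (F : Fr CoxeterMatrix.E₆.toCoxeterSystem hpE6.isCartan (TT chevE6 (KK r)) (XX chevE6 6 (KK r)) σ g) :
    ∃ (π : Equiv.Perm (Fin 6)) (σ0 : MulAut (YY chevE6 r)) (w : YY chevE6 r), IsStd r e π σ0 ∧
      ∀ x, σ x = w⁻¹ * σ0 (w * x * w⁻¹) * w := by
  obtain ⟨π, σ0, v, k, h0, -, h1, -⟩ := exists_nf F.root (Frm.of_fr hσ F)
  obtain ⟨w, hw⟩ := lang_all hpE6 _ he h0.frob h0.fr 1 (σ0 k)
  rw [map_one, one_mul] at hw
  refine ⟨π, σ0, w, h0, fun x => ?_⟩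
  rw [h1, MulAut.mul_apply, MulAut.conj_apply, map_mul, map_mul, map_inv, hw, map_mul, map_mul, map_inv]
  group

/-- **The fixed points are generated by `r`-elements.** -/
theorem full (h3 : r ≠ 3) {g : (Fin 6 → ℤ) ≃+ (Fin 6 → ℤ)} (he : 0 < e) (hσ : IsFrob r e σ)
    (F : Fr CoxeterMatrix.E₆.toCoxeterSystem hpE6.isCartan (TT chevE6 (KK r)) (XX chevE6 6 (KK r)) σ g)
    (hL : ∀ x, th r (σL x) = σ (th r x)) {x : St r} (hx : σL x = x) : x ∈ G0 σL := by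
  obtain ⟨π, σ0, w, h0, hw⟩ := exists_conj_std he hσ F
  obtain ⟨y, rfl⟩ := th_surj r w
  obtain ⟨τ, hτ⟩ : ∃ τ : MulAut (St r), ∀ u, τ u = y * σL (y⁻¹ * u * y) * y⁻¹ :=
    ⟨MulAut.conj y * σL * MulAut.conj y⁻¹, fun u => by
      rw [MulAut.mul_apply, MulAut.mul_apply, MulAut.conj_apply, MulAut.conj_apply, inv_inv]⟩
  have h1 : ∀ u, th r (τ u) = σ0 (th r u) := by
    intro u
    have h2 : th r y * th r (y⁻¹ * u * y) * (th r y)⁻¹ = th r u := by
      rw [map_mul, map_mul, map_inv]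
      group
    rw [hτ, map_mul, map_mul, map_inv, hL, hw, h2]
    group
  have h2 : y * x * y⁻¹ ∈ G0 τ := full_std h3 h1 h0 he (by
    have h4 : y⁻¹ * (y * x * y⁻¹) * y = x := by group
    rw [hτ, h4, hx])
  have h4 : G0 τ ≤ (G0 σL).comap (MulAut.conj y⁻¹).toMonoidHom := by
    refine (Subgroup.closure_le _).2 ?_
    rintro u ⟨hu, n, hn⟩
    refine Subgroup.subset_closure ⟨?_, n, ?_⟩
    · show σL (y⁻¹ * u * y⁻¹⁻¹) = y⁻¹ * u * y⁻¹⁻¹
      rw [hτ] at hu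
      rw [inv_inv]
      calc σL (y⁻¹ * u * y) = y⁻¹ * (y * σL (y⁻¹ * u * y) * y⁻¹) * y := by group
        _ = _ := by rw [hu]
    · rw [← map_pow, hn, map_one]
  have h5 : y⁻¹ * (y * x * y⁻¹) * y⁻¹⁻¹ ∈ G0 σL := h4 h2
  have h6 : y⁻¹ * (y * x * y⁻¹) * y⁻¹⁻¹ = x := by group
  rwa [h6] at h5

end Cfsg.Agent.BHZ.Exc.Six
end

-- part: BHZ/Exc/Full6
section
/-!
# S4806, exceptional groups: `boxFull6` (helper37)
-/

set_option autoImplicit false

namespace Cfsg.Agent.BHZ.Exc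

/-- the universal group is a covering with kernel killed by `3` -/
theorem cov0_th6 (r : ℕ) [Fact r.Prime] : Cov0 3 (th6 r) :=
  ⟨Six.th_surj r, Six.th_cent, Six.th_expo, Six.finite_ker⟩

/-- **[Full6]** -/
theorem boxFull6 : BoxFull6 := fun _ _ h3 _ _ _ he hσ F _ hL _ hm => Six.full h3 he hσ F hL hm

end Cfsg.Agent.BHZ.Exc
end
end

-- part: BHZ/Exc/TRA
section
prune_inst 0x30307d040500000000180002c0003c46a2000000106b88010961030406c0cf230023af21194010014110aa7420348000001000500038000000008a00411d0581142802069148a100620090c09806400000000000000000000000000000000000200000000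
set_option linter.all false
open scoped Cfsg.Agent.FastGrp

/-!
# S4806, exceptional groups: a component of type `E₆`, the setting (helper34)
-/

set_option autoImplicit false
set_option linter.unusedSectionVars false
set_option maxRecDepth 100000

namespace Cfsg.Agent.BHZ.Exc

open CoxeterSystem Cfsg Cfsg.Lie Cfsg.Lie.ChevalleyDatum
open Cfsg.Agent.ChevalleyStructure Cfsg.Agent.ChevalleyStructure.Elts Cfsg.Agent.ChevalleyStructure.CoxeterGeom
  Cfsg.Agent.ChevalleyStructure.CoxeterGeomTypes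
open Cfsg.Agent.Tits.Roots Cfsg.Agent.Tits.Core Cfsg.Agent.Nodes Cfsg.Agent.Nodes.Reps Cfsg.Agent.Nodes.BNOf
  Cfsg.Agent.Nodes.RGDChev Cfsg.Agent.Nodes.Bruhat
open Cfsg.Agent.KFacts.RgdField Cfsg.Agent.KFacts.RgdChevCoord
open Cfsg.Agent.BpExc Cfsg.Agent.BpExc.TorCent Cfsg.Agent.BpExc.TorChev Cfsg.Agent.BpExc.Tow
  Cfsg.Agent.BpExc.TowChev Cfsg.Agent.BpExc.Fr Cfsg.Agent.BpExc.LangFr
open Cfsg.Agent.H469.Exc Cfsg.Agent.H795.SetCent Cfsg.Agent.H129.TorusChar Cfsg.Agent.DS.Ex Cfsg.Agent.DS.Nt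
open Cfsg.Agent.H46.Gen (AFr Rt xf)
open Cfsg.Agent.H321.Ker (cj stG stm sc)
open Cfsg.Agent.H931.KC (al)
open Cfsg.Agent.H665.NoPQ (HasDZ)
open scoped MatrixGroups
open Matrix.SpecialLinearGroup (transvection)

namespace TR

open AA CovII
open Cfsg.Agent.H46.Gen (rt_iff)
open Cfsg.Agent.H92.NE (bl)
open Cfsg.Agent.ChevalleyStructure.StTheta (theta_surjective)

/-- the roots of type `E₆` -/
abbrev R6 (b : Fin 6 → ℤ) : Prop := IsRoot CoxeterMatrix.E₆.toCoxeterSystem hpE6.isCartan b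

/-- an automorphism descends along a surjection whose kernel it preserves -/
theorem exists_descend {L Y : Type*} [Group L] [Group Y] {θ : L →* Y} (hs : Function.Surjective θ) (α : MulAut L)
    (h : ∀ x, θ (α x) = 1 ↔ θ x = 1) : ∃ β : MulAut Y, ∀ x, β (θ x) = θ (α x) := by
  have key : ∀ α : MulAut L, (∀ x, θ x = 1 → θ (α x) = 1) → ∃ β : Y →* Y, ∀ x, β (θ x) = θ (α x) := fun α h =>
    ⟨θ.liftOfRightInverse (Function.surjInv hs) (Function.rightInverse_surjInv hs)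
      ⟨θ.comp α.toMonoidHom, fun x hx => h x hx⟩, fun x => θ.liftOfRightInverse_comp_apply _ _ _ x⟩
  obtain ⟨β, hβ⟩ := key α fun x => (h x).2
  obtain ⟨β', hβ'⟩ := key α⁻¹ fun x hx => (h _).1 (by rw [MulAut.apply_inv_self]; exact hx)
  refine ⟨MonoidHom.toMulEquiv β β' (MonoidHom.ext fun y => ?_) (MonoidHom.ext fun y => ?_), hβ⟩
  · obtain ⟨x, rfl⟩ := hs y
    show β' (β (θ x)) = θ x
    rw [hβ, hβ', MulAut.inv_apply_self]
  · obtain ⟨x, rfl⟩ := hs y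
    show β (β' (θ x)) = θ x
    rw [hβ', hβ, MulAut.apply_inv_self]

/-- an automorphism restricts to the range of an injection -/
theorem exists_restrict {L Y : Type*} [Group L] [Group Y] {j : L →* Y} (hj : Function.Injective j) (σ : MulAut Y)
    (h : ∀ y, σ y ∈ j.range ↔ y ∈ j.range) : ∃ α : MulAut L, ∀ x, j (α x) = σ (j x) := by
  have key : ∀ σ : MulAut Y, (∀ y ∈ j.range, σ y ∈ j.range) → ∃ α : L →* L, ∀ x, j (α x) = σ (j x) := fun σ h => by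
    choose f hf using fun x => h (j x) ⟨x, rfl⟩
    exact ⟨MonoidHom.mk' f fun x y => hj (by rw [hf, map_mul, map_mul, map_mul, hf, hf]), hf⟩
  obtain ⟨α, hα⟩ := key σ fun y => (h y).2
  obtain ⟨α', hα'⟩ := key σ⁻¹ fun y hy => (h _).1 (by rw [MulAut.apply_inv_self]; exact hy)
  refine ⟨MonoidHom.toMulEquiv α α' (MonoidHom.ext fun x => hj ?_) (MonoidHom.ext fun x => hj ?_), hα⟩
  · show j (α' (α x)) = j x
    rw [hα', hα, MulAut.inv_apply_self]
  · show j (α (α' x)) = j x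
    rw [hα, hα', MulAut.apply_inv_self]

theorem edges6 : ∀ e ∈ [((0 : Fin 6), (2 : Fin 6)), (2, 0), (2, 3), (3, 2), (1, 3), (3, 1), (4, 3), (5, 4)],
    ∃ s : Fin chevE6.nroots, ∀ m, vec chevE6 6 s m = (sr e.1 + sr e.2 : Fin 6 → ℤ) m := by decide +kernel

theorem non6 : bl TY.B6 (sr 0 + sr 1) (sr 0 + sr 1) = 4 ∧ bl TY.B6 (sr 0 - sr 1) (sr 0 - sr 1) = 4 ∧
    (sr 0 : Fin 6 → ℤ) 0 ≠ (sr 1 : Fin 6 → ℤ) 0 ∧ (sr 0 : Fin 6 → ℤ) 0 ≠ (-sr 1 : Fin 6 → ℤ) 0 := by decide +kernel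

variable {D : ChevalleyDatum} {l : ℕ} {M : CoxeterMatrix (Fin l)} {r : ℕ} [Fact r.Prime]

/-- the setting: the centralizer of `t` has a component of type `E₆`, the other roots are in `R` -/
structure SE (hp : IsType D l M) (ex : (Fin 6 → ℤ) →+ (Fin l → ℤ)) (f : Fin 6 → Fin l) (j : St6 r →* YY D r)
    (t : YY D r) (R : Set (Fin l → ℤ)) : Prop where
  je : JE hp ex f j
  inj : Function.Injective j
  tor : t ∈ TT D (KK r)
  conn : ∀ c, c * t = t * c → c ∈ DZ hp r {t}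
  exi : Function.Injective ex
  root : ∀ b, IsRoot M.toCoxeterSystem hp.isCartan (ex b) → R6 b
  mem : ∀ b, R6 b → ex b ∈ Ps hp r {t}
  split : ∀ a ∈ Ps hp r {t}, (∃ b, R6 b ∧ a = ex b) ∨ a ∈ R
  so : ∀ a ∈ R, ∀ b, R6 b → SO D l a (ex b)
  small : ∀ a ∈ R, ∀ b ∈ R, a = b ∨ a = -b ∨ IsRoot M.toCoxeterSystem hp.isCartan (a + b) ∨
    IsRoot M.toCoxeterSystem hp.isCartan (a - b)
  diag : ∀ s ∈ TT D (KK r), ∃ m ∈ Mz hp r {t}, m ∈ TT D (KK r) ∧ (∀ a ∈ R, cX hp m a = cX hp s a) ∧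
    ∀ u, m * j u = j u * m

namespace SE

variable {hp : IsType D l M} {ex : (Fin 6 → ℤ) →+ (Fin l → ℤ)} {f : Fin 6 → Fin l} {j : St6 r →* YY D r}
  {t : YY D r} {R : Set (Fin l → ℤ)} (E : SE hp ex f j t R)
include E

theorem pres (γ : (Fin l → ℤ) ≃+ (Fin l → ℤ))
    (hγ : ∀ a, IsRoot M.toCoxeterSystem hp.isCartan (γ a) ↔ IsRoot M.toCoxeterSystem hp.isCartan a)
    (hΨ : ∀ a ∈ Ps hp r {t}, γ a ∈ Ps hp r {t}) (x : Fin 6 → ℤ) : γ (ex x) ∈ ex.range := by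
  have step : ∀ i k : Fin 6, (i, k) ∈ [((0 : Fin 6), (2 : Fin 6)), (2, 0), (2, 3), (3, 2), (1, 3), (3, 1), (4, 3),
      (5, 4)] → γ (ex (sr i)) ∈ R → γ (ex (sr k)) ∈ R := fun i k he hi => by
    obtain ⟨s, hs⟩ := edges6 _ he
    have h1 : R6 (sr i + sr k) := by
      rw [← funext hs]
      exact isRoot_vec hpE6 _ s.2
    rcases E.split _ (hΨ _ (E.mem _ (isRoot_sr _ _ k))) with ⟨b, hb, e⟩ | h
    · exfalso
      refine (E.so _ hi b hb).2 1 1 one_pos one_pos ((rt_iff hp M.toCoxeterSystem).2 ?_)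
      rw [Nat.cast_one, one_smul, one_smul, ← e, ← map_add, ← map_add]
      exact (hγ _).2 (E.je.isRoot h1)
    · exact h
  have h3 : γ (ex (sr 3)) ∉ R := fun h => by
    have h0 := step 2 0 (by simp) (step 3 2 (by simp) h)
    have h1 := step 3 1 (by simp) h
    obtain ⟨n1, n2, n3, n4⟩ := non6
    rcases E.small _ h0 _ h1 with e | e | e | e
    · exact n3 (congrFun (E.exi (γ.injective e)) 0)
    · rw [← map_neg, ← map_neg] at e
      exact n4 (congrFun (E.exi (γ.injective e)) 0)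
    · rw [← map_add, ← map_add] at e
      have h2 := bl_rt ((rt_iff hpE6 _).2 (E.root _ ((hγ _).1 e)))
      omega
    · rw [← map_sub, ← map_sub] at e
      have h2 := bl_rt ((rt_iff hpE6 _).2 (E.root _ ((hγ _).1 e)))
      omega
  have hi : ∀ i, γ (ex (sr i)) ∈ ex.range := fun i => by
    rcases E.split _ (hΨ _ (E.mem _ (isRoot_sr _ _ i))) with ⟨b, -, e⟩ | h
    · exact ⟨b, e.symm⟩
    · exfalso
      fin_cases i
      · exact h3 (step 2 3 (by simp) (step 0 2 (by simp) h))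
      · exact h3 (step 1 3 (by simp) h)
      · exact h3 (step 2 3 (by simp) h)
      · exact h3 h
      · exact h3 (step 4 3 (by simp) h)
      · exact h3 (step 4 3 (by simp) (step 5 4 (by simp) h))
  rw [IsMC.eq_sum_sr x, map_sum, map_sum]
  refine sum_mem fun i _ => ?_
  rw [map_zsmul, map_zsmul]
  exact zsmul_mem (hi i) _

theorem exists_g6 (γ : (Fin l → ℤ) ≃+ (Fin l → ℤ))
    (hγ : ∀ a, IsRoot M.toCoxeterSystem hp.isCartan (γ a) ↔ IsRoot M.toCoxeterSystem hp.isCartan a)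
    (hΨ : ∀ a, γ a ∈ Ps hp r {t} ↔ a ∈ Ps hp r {t}) :
    ∃ g : (Fin 6 → ℤ) ≃+ (Fin 6 → ℤ), ∀ x, ex (g x) = γ (ex x) := by
  choose G hG using E.pres γ hγ fun a => (hΨ a).2
  choose G' hG' using E.pres γ.symm (fun a => by rw [← hγ, AddEquiv.apply_symm_apply])
    fun a ha => (hΨ _).1 (by rw [AddEquiv.apply_symm_apply]; exact ha)
  exact ⟨{ toFun := G
           invFun := G'
           left_inv := fun x => E.exi (by rw [hG', hG, AddEquiv.symm_apply_apply])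
           right_inv := fun x => E.exi (by rw [hG, hG', AddEquiv.apply_symm_apply])
           map_add' := fun x y => E.exi (by rw [map_add, hG, hG, hG, map_add, map_add]) }, hG⟩

theorem root_iff {b : Fin 6 → ℤ} : IsRoot M.toCoxeterSystem hp.isCartan (ex b) ↔ R6 b := ⟨E.root b, E.je.isRoot⟩

theorem range_le : j.range ≤ Mz hp r {t} := by
  rw [E.je.range_eq]
  refine RGD.Sup_mono ?_
  rintro _ ⟨b, hb, rfl⟩
  exact E.mem b hb

theorem j_mem (u : St6 r) : j u ∈ DZ hp r {t} := Mz_le_DZ (E.range_le ⟨u, rfl⟩)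

theorem j_comm (u : St6 r) : j u * t = t * j u := DZ_comm (Set.singleton_subset_iff.2 E.tor) (E.j_mem u) rfl

theorem comm_j {c : YY D r} (h : ∀ b, R6 b → ∀ y ∈ XX D l (KK r) (ex b), c * y = y * c) (u : St6 r) :
    c * j u = j u * c := by
  have h1 : j.range ≤ Subgroup.centralizer {c} := by
    rw [E.je.range_eq]
    refine RGD.Sup_le ?_
    rintro _ ⟨b, hb, rfl⟩ y hy
    exact Subgroup.mem_centralizer_singleton_iff.2 (h b hb y hy).symm
  exact (Subgroup.mem_centralizer_singleton_iff.1 (h1 ⟨u, rfl⟩)).symm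

theorem X_range {b : Fin 6 → ℤ} (hb : R6 b) : XX D l (KK r) (ex b) ≤ j.range := by
  rw [E.je.range_eq]
  exact RGD.le_Sup (X := XX D l (KK r)) (Set.mem_image_of_mem ex hb)

/-- the torus -/
theorem T_j {s : YY D r} (hs : s ∈ TT D (KK r)) :
    ∃ u, j u ∈ TT D (KK r) ∧ ∀ b, cX hp ((j u)⁻¹ * s) (ex b) = 1 := by
  obtain ⟨y, hy, h1⟩ := exists_tor' hpE6 (r := r) (φ := fun x => cX hp s (ex x))
    ⟨by rw [map_zero, (isMC_cX hp hs).zero], fun x y => by rw [map_add, (isMC_cX hp hs).add]⟩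
  obtain ⟨u, rfl⟩ := theta_surjective hpE6.inList (K := KK r) y
  obtain ⟨h2, h3⟩ := E.je.tor (u := u) hy
  refine ⟨u, h2, fun b => ?_⟩
  rw [cX_mul hp (inv_mem h2) hs, cX_inv h2, h3]
  have h4 : cX hpE6 (th6 r u) b = cX hp s (ex b) := h1 b
  rw [h4, inv_mul_cancel₀ ((isMC_cX hp hs).ne_zero _)]

theorem act {y : YY D r} (hy : y * t = t * y) : ∃ u, Act j y u := by
  let H : Subgroup (YY D r) :=
    { carrier := {y | ∃ u, Act j y u}
      one_mem' := ⟨1, act_one⟩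
      mul_mem' := fun ⟨u, hu⟩ ⟨v, hv⟩ => ⟨u * v, hu.mul hv⟩
      inv_mem' := fun ⟨u, hu⟩ => ⟨u⁻¹, hu.inv⟩ }
  have h1 : j.range ≤ H := by
    rintro _ ⟨u, rfl⟩
    exact ⟨u, act_self u⟩
  have h2 : DZ hp r {t} ≤ H := by
    refine sup_le (Mz_le fun a ha => ?_) fun s hs => ?_
    · rcases E.split a ha with ⟨b, hb, rfl⟩ | h
      · exact (E.X_range hb).trans h1
      · exact fun x hx => ⟨1, act_of_comm (E.comm_j fun b hb y hy =>
          (E.so a h b hb).comm hp (Ps_root ha) (E.je.isRoot hb) hx hy)⟩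
    · obtain ⟨u, h3, h4⟩ := E.T_j hs
      have h5 : (j u)⁻¹ * s ∈ H := ⟨1, act_of_comm (E.comm_j fun b hb y hy =>
        comm_X (mul_mem (inv_mem h3) hs) (E.je.isRoot hb) (h4 b) hy)⟩
      have h6 := mul_mem (h1 ⟨u, rfl⟩) h5
      rw [mul_inv_cancel_left] at h6
      exact h6
  exact h2 (E.conn y hy)

theorem act_th {y : YY D r} {u v : St6 r} (hu : Act j y u) (hv : Act j y v) : th6 r u = th6 r v := by
  have h1 : u⁻¹ * v ∈ Subgroup.center (St6 r) := Subgroup.mem_center_iff.2 fun m => by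
    have h2 := (hu.inv.mul hv) m
    rw [inv_mul_cancel, one_mul, inv_one, mul_one] at h2
    have h3 := E.inj h2
    calc m * (u⁻¹ * v) = u⁻¹ * v * m * (u⁻¹ * v)⁻¹ * (u⁻¹ * v) := by rw [← h3]
      _ = _ := by group
  have h2 : th6 r (u⁻¹ * v) = 1 := ker6.ge h1
  rw [map_mul, map_inv, inv_mul_eq_one] at h2
  exact h2

omit E in
theorem act_of_th {y : YY D r} {u v : St6 r} (hu : Act j y u) (h : th6 r v = th6 r u) : Act j y v := by
  have h1 : u⁻¹ * v ∈ Subgroup.center (St6 r) := ker6.le (by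
    rw [MonoidHom.mem_ker, map_mul, map_inv, h, inv_mul_cancel])
  have h2 := hu.mul_center h1
  rw [mul_inv_cancel_left] at h2
  exact h2

/-- the centre of the connected centralizer -/
theorem central {c : YY D r} (hc : c * t = t * c) (h1 : ∀ u, c * j u = j u * c)
    (h2 : ∀ a ∈ R, ∀ y ∈ XX D l (KK r) a, c * y = y * c) {y : YY D r} (hy : y * t = t * y) : c * y = y * c := by
  have h3 : Mz hp r {t} ≤ Subgroup.centralizer {c} := Mz_le fun a ha x hx => by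
    refine Subgroup.mem_centralizer_singleton_iff.2 ?_
    rcases E.split a ha with ⟨b, hb, rfl⟩ | h
    · obtain ⟨u, rfl⟩ := E.X_range hb hx
      exact (h1 u).symm
    · exact (h2 a h x hx).symm
  have h4 : c ∈ TT D (KK r) := mem_T_of_comm hp fun s hs => by
    obtain ⟨u, a1, a2⟩ := E.T_j hs
    have hs' := mul_mem (inv_mem a1) hs
    obtain ⟨m, b1, b2, b3, b4⟩ := E.diag _ hs'
    have hT := mul_mem (inv_mem b2) hs'
    have h5 : Commute (m⁻¹ * ((j u)⁻¹ * s)) c := comm_DZ hT (fun a ha => by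
      rw [cX_mul hp (inv_mem b2) hs', cX_inv b2]
      rcases E.split a ha with ⟨b, hb, rfl⟩ | h
      · obtain ⟨v, hv⟩ := E.X_range hb (xc_mem (hp := hp) (E.je.isRoot hb) 1)
        rw [a2, cX_eq_one_of_comm b2 (E.je.isRoot hb) one_ne_zero (by rw [← hv]; exact b4 v), inv_one, one_mul]
      · rw [b3 a h, inv_mul_cancel₀ ((isMC_cX hp hs').ne_zero _)]) (E.conn c hc)
    have h6 : Commute m c := Subgroup.mem_centralizer_singleton_iff.1 (h3 b1)
    have h7 : Commute (j u) c := (h1 u).symm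
    have h8 := h7.mul_left (h6.mul_left h5)
    rw [mul_inv_cancel_left, mul_inv_cancel_left] at h8
    exact h8.symm
  refine comm_DZ h4 (fun a ha => cX_eq_one_of_comm h4 (Ps_root ha) one_ne_zero ?_) (E.conn y hy)
  exact (Subgroup.mem_centralizer_singleton_iff.1 (h3 (X_le_Mz ha (xc_mem (Ps_root ha) 1)))).symm

/-- the Frobenius automorphism on the component -/
theorem frob (h6 : BoxFrob6) {e : ℕ} (he : 0 < e) {σ : MulAut (YY D r)} {γ : (Fin l → ℤ) ≃+ (Fin l → ℤ)}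
    (hσ : IsFrob r e σ) (F : Fr M.toCoxeterSystem hp.isCartan (TT D (KK r)) (XX D l (KK r)) σ γ) (ht : σ t = t) :
    ∃ (σL : MulAut (St6 r)) (σ6 : MulAut (YY chevE6 r)) (g : (Fin 6 → ℤ) ≃+ (Fin 6 → ℤ)),
      (∀ u, j (σL u) = σ (j u)) ∧ (∀ u, th6 r (σL u) = σ6 (th6 r u)) ∧ IsFrob r e σ6 ∧
      Fr CoxeterMatrix.E₆.toCoxeterSystem hpE6.isCartan (TT chevE6 (KK r)) (XX chevE6 6 (KK r)) σ6 g := by
  obtain ⟨g, hg⟩ := E.exists_g6 γ F.root (fr_mem_Ps F E.tor ht)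
  have hgr : ∀ b, R6 (g b) ↔ R6 b := fun b => by rw [← E.root_iff, ← E.root_iff, hg, F.root]
  obtain ⟨σL, hL⟩ := exists_restrict E.inj σ fun y => by
    rw [E.je.range_eq]
    refine F.mem_Sup ?_ (fun a => ⟨?_, ?_⟩) y
    · rintro _ ⟨b, hb, rfl⟩
      exact E.je.isRoot hb
    · rintro ⟨b, hb, e⟩
      refine ⟨g.symm b, (hgr _).1 (by rw [AddEquiv.apply_symm_apply]; exact hb), γ.injective ?_⟩
      rw [← hg, AddEquiv.apply_symm_apply, e]
    · rintro ⟨b, hb, rfl⟩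
      exact ⟨g b, (hgr b).2 hb, hg b⟩
  obtain ⟨σ6, h6'⟩ := exists_descend (θ := th6 r) (theta_surjective hpE6.inList) σL fun x => by
    rw [← MonoidHom.mem_ker, ← MonoidHom.mem_ker, ker6]
    exact MulEquivClass.apply_mem_center_iff σL
  obtain ⟨h1, h2⟩ := h6 r e σ6 g he (fun a => by rw [rt_iff hpE6 CoxeterMatrix.E₆.toCoxeterSystem,
    rt_iff hpE6 CoxeterMatrix.E₆.toCoxeterSystem]; exact hgr a) (by
      rintro _ ⟨s, hs, rfl⟩
      have hb : R6 (vec chevE6 6 s) := isRoot_vec hpE6 _ hs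
      obtain ⟨s', hs', e'⟩ := (isRoot_iff hpE6 CoxeterMatrix.E₆.toCoxeterSystem _).1 ((hgr _).2 hb)
      obtain ⟨u, hu, h3⟩ := H508.Dens.frob_form hp M.toCoxeterSystem hσ F (E.je.isRoot hb)
      refine ⟨u, hu, fun c => ?_⟩
      rw [← th6_gen hs, h6', ← e', ← th6_gen hs']
      congr 1
      refine E.inj ?_
      rw [hL, E.je.gen s hs, E.je.gen s' hs', h3, e', hg])
  exact ⟨σL, σ6, g, hL, fun u => (h6' u).symm, h1, h2⟩

end SE

end TR

end Cfsg.Agent.BHZ.Exc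
end
end
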