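import Cfsg.Agent.BHZ.Exc.CovIIB_m3
import Cfsg.Agent.BHZ.Exc.TRB
import Cfsg.Agent.BHZ.Exc.TR
import Cfsg.Agent.BHZ.Exc.CovIT1_m3
import Cfsg.Agent.BHZ.Exc.CovIT2
import Cfsg.Agent.BHZ.Exc.CovIT3_m3
import Cfsg.Agent.BHZ.Exc.CovI
import Cfsg.Agent.H916.RG.Pair_m3
import Cfsg.Agent.H345.RG.Co2K
import Cfsg.Agent.H345.RG.Co2A
import Cfsg.Agent.BHZ.Spor.RowCo23
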